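import Cfsg.Agent.FFStruct.Core
import Cfsg.Prelude.Def_LocalEven
import Cfsg.Agent.S2834
import Cfsg.Agent.Thompson.Replacement

/-!
# Minimal offenders in a `p`-minimal group
-/

set_option autoImplicit false
set_option linter.unusedSectionVars false
set_option linter.style.haveILetI false

namespace Cfsg.Agent.FFStruct

open Subgroup
open scoped Pointwise

variable {H : Type*} [Group H] {V : Type*} [AddCommGroup V] [DistribMulAction H V]

variable (H V) in
/-- A `p`-minimal group on a module, with the centraliser of the fixed points of each Sylow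
subgroup inside the maximal subgroup above it. -/
structure Amb (p : ℕ) : Prop where
  hp : ∀ v : V, p • v = 0
  pmin : Cfsg.IsPMinimal p H
  hOp : Cfsg.pCore p H = ⊥
  hZ : ∀ (T : Sylow p H) (M : Subgroup H), IsCoatom M → (T : Subgroup H) ≤ M →
    ∀ h : H, (∀ z ∈ fx (V := V) (T : Subgroup H), h • z = z) → h ∈ M

variable (V) in
/-- An offender none of whose nontrivial proper subgroups is one. -/
structure MOff (p : ℕ) (A : Subgroup H) : Prop where
  ea : Cfsg.IsElementaryAbelian p A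
  ne : A ≠ ⊥
  bound : Nat.card V ≤ Nat.card A * Nat.card (fx (V := V) A)
  strict : ∀ B ≤ A, B ≠ ⊥ → B ≠ A → Nat.card B * Nat.card (fx (V := V) B) < Nat.card V

variable [Finite H] [Finite V] [FaithfulSMul H V] {p : ℕ} [Fact p.Prime]

theorem MOff.cj {A : Subgroup H} (hA : MOff V p A) (g : H) : MOff V p (cj g A) where
  ea := ea_cj hA.ea g
  ne := fun e => hA.ne (by
    rw [← cj_inv_cj g A, e]; exact Subgroup.map_bot _)
  bound := by rw [card_cj, fx_cj, card_sm]; exact hA.bound
  strict := fun B hB hne hneA => by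
    have h := hA.strict (FFStruct.cj g⁻¹ B) ((cj_mono _ hB).trans (cj_inv_cj g A).le)
      (fun e => hne (by rw [← cj_cj_inv g B, e]; exact Subgroup.map_bot _))
      (fun e => hneA (by rw [← e, cj_cj_inv]))
    rwa [card_cj, fx_cj, card_sm] at h

namespace Amb

variable (h : Amb H V p)

include h

/-- The maximal subgroup above a Sylow subgroup. -/
noncomputable def Mx (T : Sylow p H) : Subgroup H := (h.pmin T).2.exists.choose

theorem Mx_coatom (T : Sylow p H) : IsCoatom (h.Mx T) := (h.pmin T).2.exists.choose_spec.1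

theorem le_Mx (T : Sylow p H) : (T : Subgroup H) ≤ h.Mx T := (h.pmin T).2.exists.choose_spec.2

theorem Mx_unique {T : Sylow p H} {M : Subgroup H} (hM : IsCoatom M) (hT : (T : Subgroup H) ≤ M) :
    h.Mx T = M :=
  (h.pmin T).2.unique ⟨h.Mx_coatom T, h.le_Mx T⟩ ⟨hM, hT⟩

theorem le_Mx_of_ne_top {T : Sylow p H} {X : Subgroup H} (hT : (T : Subgroup H) ≤ X) (hX : X ≠ ⊤) :
    X ≤ h.Mx T := by
  obtain ⟨C, hC, hXC⟩ := (eq_top_or_exists_le_coatom X).resolve_left hX
  rw [h.Mx_unique hC (hT.trans hXC)]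
  exact hXC

theorem sup_eq_top {T : Sylow p H} {X : Subgroup H} (hT : (T : Subgroup H) ≤ X)
    (hX : ¬ X ≤ h.Mx T) : X = ⊤ :=
  Classical.byContradiction fun hne => hX (h.le_Mx_of_ne_top hT hne)

theorem normalClosure_sylow (T : Sylow p H) : normalClosure ((T : Subgroup H) : Set H) = ⊤ := by
  by_contra hne
  set N := normalClosure ((T : Subgroup H) : Set H) with hN
  have hTN : (T : Subgroup H) ≤ N := subset_normalClosure
  obtain ⟨R, hR⟩ := Cfsg.Agent.SylowNumber.exists_sylow_inf T N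
  have hf := Sylow.normalizer_sup_eq_top R
  rw [show (R : Subgroup N).map N.subtype = (T : Subgroup H) by
    rw [hR, subgroupOf_map_subtype, inf_assoc, inf_idem, inf_eq_left.2 hTN]] at hf
  have h1 : normalizer (((T : Subgroup H)) : Set H) ≤ h.Mx T :=
    h.le_Mx_of_ne_top le_normalizer fun e => (h.pmin T).1 (normalizer_eq_top_iff.1 e)
  exact (h.Mx_coatom T).1 (top_le_iff.1 (hf ▸ sup_le h1 (h.le_Mx_of_ne_top hTN hne)))

theorem minimalOver (T : Sylow p H) : Cfsg.IsMinimalOver (T : Subgroup H) :=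
  ⟨h.normalClosure_sylow T, (h.pmin T).2⟩

theorem mem_of_cj_Mx {T : Sylow p H} {g : H} (hg : FFStruct.cj g (h.Mx T) = h.Mx T) : g ∈ h.Mx T := by
  by_contra hgM
  have h1 : normalizer (h.Mx T : Set H) = ⊤ :=
    ((h.Mx_coatom T).le_iff.mp le_normalizer).resolve_right fun e =>
      hgM (e ▸ mem_normalizer_of_cj hg)
  haveI := normalizer_eq_top_iff.mp h1
  exact (h.Mx_coatom T).1
    (top_le_iff.mp ((h.normalClosure_sylow T).ge.trans (normalClosure_le_normal (h.le_Mx T))))

theorem Mx_smul (T : Sylow p H) (g : H) : h.Mx (g • T) = FFStruct.cj g (h.Mx T) := by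
  refine h.Mx_unique ?_ ?_
  · exact ((MulAut.conj g).mapSubgroup.isCoatom_iff (h.Mx T)).2 (h.Mx_coatom T)
  · rw [Sylow.coe_subgroup_smul]
    exact cj_mono g (h.le_Mx T)

/-- A `p`-subgroup of a maximal subgroup above a Sylow subgroup lies in a Sylow subgroup there. -/
theorem exists_sylow_le {T : Sylow p H} {Q : Subgroup H} (hQ : IsPGroup p Q) (hQM : Q ≤ h.Mx T) :
    ∃ S : Sylow p H, Q ≤ S ∧ (S : Subgroup H) ≤ h.Mx T ∧ h.Mx S = h.Mx T := by
  set M := h.Mx T with hM
  obtain ⟨S0, hS0⟩ := (hQ.comap_of_injective M.subtype M.subtype_injective).exists_le_sylow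
  have hi : ¬ p ∣ ((T : Subgroup H).subgroupOf M).index := fun hd => T.not_dvd_index
    (dvd_trans hd (relIndex_dvd_index_of_le (h.le_Mx T)))
  let T1 : Sylow p M := (T.isPGroup'.comap_of_injective M.subtype M.subtype_injective).toSylow hi
  obtain ⟨m, hm⟩ := MulAction.exists_smul_eq M T1 S0
  have hS : ((m : H) • T : Sylow p H) ≤ M := by
    rw [Sylow.coe_subgroup_smul]
    exact (cj_mono _ (h.le_Mx T)).trans (cj_of_mem_normalizer (le_normalizer m.2)).le
  refine ⟨(m : H) • T, fun q hq => ?_, hS, h.Mx_unique (h.Mx_coatom T) hS⟩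
  have h1 : (⟨q, hQM hq⟩ : M) ∈ (S0 : Subgroup M) := hS0 hq
  rw [← hm, Sylow.coe_subgroup_smul, Subgroup.mem_pointwise_smul_iff_inv_smul_mem] at h1
  rw [Sylow.coe_subgroup_smul, Subgroup.mem_pointwise_smul_iff_inv_smul_mem]
  exact h1

/-- The normaliser of a nontrivial `p`-subgroup of a Sylow subgroup is proper. -/
theorem normalizer_le_Mx {T : Sylow p H} {Q : Subgroup H} (hQT : Q ≤ T) (hQ : Q ≠ ⊥)
    (hn : (T : Subgroup H) ≤ normalizer (Q : Set H)) : normalizer (Q : Set H) ≤ h.Mx T := by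
  refine h.le_Mx_of_ne_top hn fun e => hQ ?_
  haveI := normalizer_eq_top_iff.1 e
  exact le_bot_iff.1 ((Core.le_pCore (T.isPGroup'.to_le hQT)).trans h.hOp.le)

/-- A subgroup without a better proper subgroup is exact and lies in a generating pair. -/
theorem exact_of_strict {A : Subgroup H} (hA : Cfsg.IsElementaryAbelian p A) (hne : A ≠ ⊥)
    (hb : Nat.card V ≤ Nat.card A * Nat.card (fx (V := V) A))
    (hs : ∀ B ≤ A, B ≠ ⊥ → B ≠ A → Nat.card B * Nat.card (fx (V := V) B) <
      Nat.card A * Nat.card (fx (V := V) A)) :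
    Nat.card A * Nat.card (fx (V := V) A) = Nat.card V ∧
      ∃ (S : Sylow p H) (x : H), A ≤ S ∧ ¬ FFStruct.cj x A ≤ h.Mx S ∧ Pair V A x := by
  obtain ⟨T, hAT⟩ := (Thompson.ea_isPGroup hA).exists_le_sylow
  obtain ⟨L, hL, L₀, hL₀, hlt, -, ⟨g, hg⟩, hgen⟩ := Cfsg.Agent.S2834.result T (h.minimalOver T)
    (h.Mx T) ⟨h.Mx_coatom T, h.le_Mx T⟩ A hAT (fun hle => hne (le_bot_iff.1 (hle.trans h.hOp.le)))
  have hN : (h.Mx T).map (MulAut.conj g).toMonoidHom = h.Mx (g • T) := (h.Mx_smul T g).symm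
  rw [hN] at hg
  subst hg
  have hAL : A ≤ L := le_sup_left.trans hL
  have hAN : A ≤ h.Mx (g • T) := (le_sup_left.trans hL₀).trans inf_le_right
  have hRN : Cfsg.pCoreOf p L ≤ h.Mx (g • T) := (le_sup_right.trans hL₀).trans inf_le_right
  have hRp : IsPGroup p ↥(Cfsg.pCoreOf p L) := Core.pCore_isPGroup.map _
  have hARp : IsPGroup p ↥(A ⊔ Cfsg.pCoreOf p L) :=
    (Thompson.ea_isPGroup hA).to_sup_of_normal_right' hRp fun a ha =>
      Subgroup.mem_normalizer_iff.2 fun r =>
        ⟨fun hr => Gen.conj_core (hAL ha) hr, fun hr => by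
          simpa [mul_assoc] using Gen.conj_core (L.inv_mem (hAL ha)) hr⟩
  obtain ⟨S, hS, hSM, hSeq⟩ := h.exists_sylow_le hARp (sup_le hAN hRN)
  obtain ⟨y, hy, hyN⟩ : ∃ y ∈ L, y ∉ h.Mx (g • T) := by
    by_contra hcon
    push Not at hcon
    exact hlt.ne (inf_eq_left.2 hcon)
  have hG : Gen p V A L (h.Mx (g • T)) :=
    { hp := h.hp, hA := hA, bound := hb, strict := hs, le := hAL, leN := hAN, coreN := hRN
      out := ⟨y, hy, hyN⟩
      gen := fun y hy hyN => hgen y hy fun hm => hyN hm.2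
      moved := by
        by_contra hcon
        push Not at hcon
        exact hyN (h.hZ S _ (h.Mx_coatom _) hSM y fun z hz => hcon z (fx_anti hS hz) y hy) }
  obtain ⟨x, hxL, hxN, hpair, -⟩ := hG.exists_pair
  refine ⟨hG.count.2.1, S, x, le_sup_left.trans hS, fun hle => hxN ?_, hpair⟩
  rw [hSeq] at hle
  exact (sup_le (sup_le hAN hle) hRN) ((hG.gen x hxL hxN).ge hxL)

/-- No offender is more than exact. -/
theorem card_mul_fx_le {A : Subgroup H} (hA : Cfsg.IsElementaryAbelian p A) :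
    Nat.card A * Nat.card (fx (V := V) A) ≤ Nat.card V := by
  obtain ⟨B, hBA, hmax, hmin⟩ := exists_min_max (V := V) A
  by_contra hcon
  have hlt : Nat.card V < Nat.card B * Nat.card (fx (V := V) B) :=
    (not_le.1 hcon).trans_le (hmax A le_rfl)
  have hne : B ≠ ⊥ := by
    rintro rfl
    rw [fx_bot, card_top_add, Subgroup.card_bot, one_mul] at hlt
    exact lt_irrefl _ hlt
  exact hlt.ne' (h.exact_of_strict (Thompson.ea_mono hA hBA) hne hlt.le
    fun C hC _ hC' => hmin C hC hC').1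

section MOffFacts

variable {A B : Subgroup H}

theorem strict' (hA : MOff V p A) : ∀ B ≤ A, B ≠ ⊥ → B ≠ A →
    Nat.card B * Nat.card (fx (V := V) B) < Nat.card A * Nat.card (fx (V := V) A) :=
  fun B hB h1 h2 => (hA.strict B hB h1 h2).trans_le hA.bound

theorem moff_exact (hA : MOff V p A) : Nat.card A * Nat.card (fx (V := V) A) = Nat.card V :=
  (h.exact_of_strict hA.ea hA.ne hA.bound (h.strict' hA)).1

theorem moff_pair (hA : MOff V p A) :
    ∃ (S : Sylow p H) (x : H), A ≤ S ∧ ¬ FFStruct.cj x A ≤ h.Mx S ∧ Pair V A x :=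
  (h.exact_of_strict hA.ea hA.ne hA.bound (h.strict' hA)).2

theorem quad (hA : MOff V p A) {a : H} (ha : a ∈ A) (v : V) : dm a v ∈ fx A :=
  quad_of_strict h.hp hA.ea hA.bound (h.strict' hA) ha v

/-- Every nontrivial element has the same fixed points. -/
theorem regular (hA : MOff V p A) {a : H} (ha : a ∈ A) (ha1 : a ≠ 1) {v : V} (hv : a • v = v) :
    v ∈ fx A := by
  obtain ⟨S, x, -, -, hP⟩ := h.moff_pair hA
  exact hP.reg a ha ha1 v (by rw [dm_eq_zero.2 hv]; exact AddSubgroup.zero_mem _)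

/-- A minimal offender is determined by its fixed points. -/
theorem eq_of_fx_eq (hA : MOff V p A) (hB : MOff V p B)
    (e : fx (V := V) A = fx B) : A = B := by
  have hst : ∀ {C : Subgroup H}, MOff V p C → C ≤ stb (fx (V := V) C) := fun hC c hc =>
    ⟨fun v hv => hv c hc, fun v => h.quad hC hc v⟩
  have key : ∀ {C : Subgroup H}, MOff V p C → C = stb (fx (V := V) C) := fun {C} hC => by
    refine eq_of_le_of_card_ge (hst hC) ?_
    refine Nat.le_of_mul_le_mul_right (c := Nat.card (fx (V := V) C)) ?_ Nat.card_pos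
    rw [h.moff_exact hC]
    exact (Nat.mul_le_mul_left _ (card_le_of_le_add (le_fx_stb _))).trans
      (h.card_mul_fx_le (ea_stb h.hp _))
  rw [key hA, key hB, e]

theorem mem_normalizer_iff_fx (hA : MOff V p A) {g : H} :
    g ∈ normalizer (A : Set H) ↔ sm g (fx (V := V) A) = fx A := by
  constructor
  · intro hg; rw [← fx_cj, cj_of_mem_normalizer hg]
  · intro e
    exact mem_normalizer_of_cj (h.eq_of_fx_eq (hA.cj g) hA (by rw [fx_cj, e]))

theorem mem_normalizer_of_smul (hA : MOff V p A) {g : H}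
    (hg : ∀ v ∈ fx (V := V) A, g • v ∈ fx A) : g ∈ normalizer (A : Set H) :=
  (h.mem_normalizer_iff_fx hA).2 (eq_of_le_of_card_ge_add
    (by rintro _ ⟨v, hv, rfl⟩; exact hg v hv) (card_sm _ _).ge)

omit h in
theorem smul_mem_fx {g : H} (hg : g ∈ normalizer (A : Set H)) {v : V} (hv : v ∈ fx (V := V) A) :
    g • v ∈ fx A := by
  have : g • v ∈ fx (V := V) (FFStruct.cj g A) := by rw [fx_cj]; exact smul_mem_sm hv
  rwa [cj_of_mem_normalizer hg] at this

omit h in
theorem mem_normalizer_of_commute {g : H} (hg : ∀ a ∈ A, g * a = a * g) :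
    g ∈ normalizer (A : Set H) :=
  centralizer_le_normalizer _ (mem_centralizer_iff.2 fun a ha => (hg a ha).symm)

/-- An element commuting with `a ≠ 1` in `A` normalises `A`. -/
theorem mem_normalizer_of_commute_one (hA : MOff V p A) {a g : H} (ha : a ∈ A) (ha1 : a ≠ 1)
    (hg : g * a = a * g) : g ∈ normalizer (A : Set H) :=
  h.mem_normalizer_of_smul hA fun v hv => h.regular hA ha ha1 (by
    rw [← mul_smul, ← hg, mul_smul, hv a ha])

/-- Commuting distinct minimal offenders are independent. -/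
theorem lattice (hA : MOff V p A) (hB : MOff V p B) (hc : A ≤ centralizer (B : Set H)) (hne : A ≠ B) :
    A ⊓ B = ⊥ ∧ fx (V := V) A ⊔ fx B = ⊤ ∧
      Nat.card A * Nat.card B * Nat.card (fx (V := V) A ⊓ fx B : AddSubgroup V) = Nat.card V ∧
      ∀ a ∈ A, ∀ v : V, dm a v ∈ fx B := by
  have hi : A ⊓ B = ⊥ := by
    refine (Subgroup.eq_bot_iff_forall _).2 fun c hc' => ?_
    by_contra hc1
    refine hne (h.eq_of_fx_eq hA hB (le_antisymm (fun v hv => ?_) fun v hv => ?_))
    · exact h.regular hB hc'.2 hc1 (hv c hc'.1)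
    · exact h.regular hA hc'.1 hc1 (hv c hc'.2)
  have hcard : Nat.card (A ⊔ B : Subgroup H) = Nat.card A * Nat.card B := by
    have e := Thompson.card_sup_mul_card_inf_of_comm hc
    rwa [hi, Subgroup.card_bot, mul_one] at e
  have hE := h.card_mul_fx_le (Thompson.ea_sup hA.ea hB.ea hc)
  rw [hcard, fx_sup] at hE
  have e := card_sup_inf (fx (V := V) A) (fx B)
  have hpos : 0 < Nat.card (fx (V := V) A ⊓ fx B : AddSubgroup V) := Nat.card_pos
  have h1 : Nat.card V * Nat.card V ≤ Nat.card V * Nat.card (fx (V := V) A ⊔ fx B : AddSubgroup V) := by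
    calc Nat.card V * Nat.card V
        = (Nat.card A * Nat.card B) * (Nat.card (fx (V := V) A) * Nat.card (fx (V := V) B)) := by
          rw [← h.moff_exact hA]; conv_lhs => arg 2; rw [h.moff_exact hA, ← h.moff_exact hB]
          ring
      _ = Nat.card A * Nat.card B * Nat.card (fx (V := V) A ⊓ fx B : AddSubgroup V) *
          Nat.card (fx (V := V) A ⊔ fx B : AddSubgroup V) := by rw [← e]; ring
      _ ≤ _ := Nat.mul_le_mul_right _ hE
  have htop : fx (V := V) A ⊔ fx B = ⊤ := eq_top_of_card_ge (Nat.le_of_mul_le_mul_left h1 Nat.card_pos)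
  refine ⟨hi, htop, le_antisymm hE ?_, fun a ha v => ?_⟩
  · rw [htop, card_top_add] at h1 e
    refine Nat.le_of_mul_le_mul_right (c := Nat.card V) ?_ Nat.card_pos
    calc Nat.card V * Nat.card V
        = (Nat.card A * Nat.card B) * (Nat.card (fx (V := V) A) * Nat.card (fx (V := V) B)) := by
          rw [← h.moff_exact hA]; conv_lhs => arg 2; rw [h.moff_exact hA, ← h.moff_exact hB]
          ring
      _ = _ := by rw [← e]; ring
      _ ≤ _ := le_rfl
  · obtain ⟨u, hu, w, hw, rfl⟩ := AddSubgroup.mem_sup.1 (htop.ge (AddSubgroup.mem_top v))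
    rw [map_add, dm_eq_zero.2 (hu a ha), zero_add, dm_apply]
    refine (fx B).sub_mem (smul_mem_fx ?_ hw) hw
    exact mem_normalizer_of_commute fun b hb => (mem_centralizer_iff.1 (hc ha) b hb).symm

/-- A minimal offender normalising one of no larger order centralises it. -/
theorem commute_of_normalizes (hA : MOff V p A) (hB : MOff V p B)
    (hle : Nat.card B ≤ Nat.card A) (hn : A ≤ normalizer (B : Set H)) :
    A ≤ centralizer (B : Set H) := by
  by_contra hcon
  obtain ⟨w, hw, hwB⟩ : ∃ w : V, (∀ a ∈ A, dm a w ∈ fx B) ∧ w ∉ fx B := by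
    obtain ⟨v, -, hv⟩ := SetLike.exists_of_lt (lt_top_iff_ne_top.2 (fun e : fx (V := V) B = ⊤ =>
      hB.ne ((Subgroup.eq_bot_iff_forall _).2 fun b hb => eq_one_of_dm (V := V) fun v =>
        dm_eq_zero.2 (e.ge (AddSubgroup.mem_top v) b hb))))
    by_cases hall : ∀ a ∈ A, dm a v ∈ fx B
    · exact ⟨v, hall, hv⟩
    push Not at hall
    obtain ⟨a, ha, hav⟩ := hall
    exact ⟨_, fun a' ha' => by
      rw [dm_eq_zero.2 (h.quad hA ha v a' ha')]; exact AddSubgroup.zero_mem _, hav⟩
  -- `c ↦ [w, c]` is equivariant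
  have hequ : ∀ a ∈ A, ∀ c ∈ B, dm (a * c * a⁻¹) w = a • dm c w := by
    intro a ha c hc
    have h1 : a⁻¹ • w = dm a⁻¹ w + w := (sub_add_cancel _ _).symm
    rw [dm_conj, h1, map_add, dm_eq_zero.2 (hw a⁻¹ (inv_mem ha) c hc), zero_add]
  have hinjw : ∀ c ∈ B, ∀ c' ∈ B, dm c w = dm c' w → c = c' := by
    intro c hc c' hc' e
    by_contra hne
    refine hwB (h.regular hB (mul_mem (inv_mem hc') hc) ?_ ?_)
    · exact fun e' => hne (inv_mul_eq_one.1 e').symm
    · rw [mul_smul, (sub_left_injective e : c • w = c' • w), inv_smul_smul]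
  let K : Subgroup H := B ⊓ centralizer (A : Set H)
  have hK : ∀ c ∈ B, ∀ a ∈ A, a ≠ 1 → a * c = c * a → c ∈ K := by
    intro c hc a ha ha1 hac
    refine ⟨hc, mem_centralizer_iff.2 fun a' ha' => ?_⟩
    have h1 : a • dm c w = dm c w := by
      rw [← hequ a ha c hc, hac, mul_inv_cancel_right]
    have h2 := h.regular hA ha ha1 h1
    have h3 : dm (a' * c * a'⁻¹) w = dm c w := by rw [hequ a' ha' c hc]; exact h2 a' ha'
    have hmem : a' * c * a'⁻¹ ∈ B := (mem_normalizer_iff.1 (hn ha') c).1 hc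
    exact mul_inv_eq_iff_eq_mul.1 (hinjw _ hmem _ hc h3)
  obtain ⟨c, hc, hcK⟩ : ∃ c ∈ B, c ∉ K := by
    by_contra hall
    push Not at hall
    exact hcon (le_centralizer_iff.1 fun c hc => (hall c hc).2)
  have hcomm : ∀ a ∈ A, a * c * a⁻¹ * c⁻¹ ∈ K := by
    intro a ha
    have hmem : a * c * a⁻¹ * c⁻¹ ∈ B :=
      mul_mem ((mem_normalizer_iff.1 (hn ha) c).1 hc) (inv_mem hc)
    refine ⟨hmem, mem_centralizer_iff.2 fun a' ha' => ?_⟩
    have hval : dm (a * c * a⁻¹ * c⁻¹) w = dm a (dm c w) := by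
      have hcinv : dm c⁻¹ w = -dm c w := by
        rw [dm_inv, h.quad hB hc w c⁻¹ (inv_mem hc)]
      rw [dm_mul, hcinv, smul_neg, hequ a ha c hc,
        h.quad hB hc w _ ((mem_normalizer_iff.1 (hn ha) c).1 hc), dm_apply a]
      abel
    have h3 : dm (a' * (a * c * a⁻¹ * c⁻¹) * a'⁻¹) w = dm (a * c * a⁻¹ * c⁻¹) w := by
      rw [hequ a' ha' _ hmem, hval]; exact h.quad hA ha _ a' ha'
    exact mul_inv_eq_iff_eq_mul.1 (hinjw _ ((mem_normalizer_iff.1 (hn ha') _).1 hmem) _ hmem h3)
  have hinj : Function.Injective (fun a : A => (⟨(a : H) * c * (a : H)⁻¹ * c⁻¹, hcomm a a.2⟩ : K)) := by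
    intro a a' e
    have e1 : (a : H) * c * (a : H)⁻¹ = (a' : H) * c * (a' : H)⁻¹ :=
      mul_right_cancel (congrArg Subtype.val e :)
    by_contra hne
    refine hcK (hK c hc ((a' : H)⁻¹ * a) (mul_mem (inv_mem a'.2) a.2)
      (fun e' => hne (Subtype.ext (inv_mul_eq_one.1 e').symm)) ?_)
    calc (a' : H)⁻¹ * a * c = (a' : H)⁻¹ * ((a : H) * c * (a : H)⁻¹) * a := by group
      _ = (a' : H)⁻¹ * ((a' : H) * c * (a' : H)⁻¹) * a := by rw [e1]
      _ = _ := by group
  have hlt : Nat.card K < Nat.card B := by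
    by_contra hge
    exact hcK ((eq_of_le_of_card_ge inf_le_left (not_lt.1 hge)).ge hc)
  exact absurd (Nat.card_le_card_of_injective _ hinj) (hlt.trans_le hle).not_ge

omit h in
theorem commute_elem (hc : A ≤ centralizer (B : Set H)) {a b : H} (ha : a ∈ A) (hb : b ∈ B) :
    a * b = b * a :=
  (mem_centralizer_iff.1 (hc ha) b hb).symm

/-- Minimal offenders of one order in a common `p`-subgroup commute. -/
theorem commute_of_pgroup (hA : MOff V p A) (hB : MOff V p B) (hcard : Nat.card A = Nat.card B)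
    (hP : IsPGroup p (A ⊔ B : Subgroup H)) : A ≤ centralizer (B : Set H) := by
  induction hn : Nat.card (A ⊔ B : Subgroup H) using Nat.strong_induction_on generalizing A B with
  | _ n ih =>
  subst hn
  by_contra hcon
  have hA_B : ¬ A ≤ normalizer (B : Set H) := fun e => hcon (h.commute_of_normalizes hA hB hcard.ge e)
  have hB_A : ¬ B ≤ normalizer (A : Set H) := fun e =>
    hcon (le_centralizer_iff.1 (h.commute_of_normalizes hB hA hcard.le e))
  have hA0 : A ⊓ B = ⊥ := by
    refine (Subgroup.eq_bot_iff_forall _).2 fun c hc => ?_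
    by_contra hc1
    refine hA_B fun a ha => h.mem_normalizer_of_commute_one hB hc.2 hc1 ?_
    exact mem_centralizer_iff.1 ((Thompson.ea_iff.1 hA.ea).1 hc.1) a ha
  -- conjugates within the group commute
  have hconj : ∀ {C D : Subgroup H}, MOff V p D → Nat.card (C ⊔ D : Subgroup H) ≤ Nat.card (A ⊔ B : Subgroup H) →
      IsPGroup p (C ⊔ D : Subgroup H) → ¬ C ≤ normalizer (D : Set H) →
      ∀ c ∈ C, D ≤ centralizer (FFStruct.cj c D : Set H) := by
    intro C D hD hle hp' hCD c hc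
    set X := C ⊔ D with hX
    have hX' : D ⊔ FFStruct.cj c D < X := by
      haveI : Finite X := inferInstance
      obtain ⟨N, hN, hDN, hNtop⟩ : ∃ N : Subgroup X, N.Normal ∧ D.subgroupOf X ≤ N ∧ N ≠ ⊤ := by
        by_cases htop : D.subgroupOf X = ⊤
        · exfalso
          refine hCD fun c' hc' => le_normalizer ?_
          have := htop.ge (mem_top (⟨c', mem_sup_left hc'⟩ : X))
          exact this
        obtain ⟨N, hN, hle'⟩ := (eq_top_or_exists_le_coatom (D.subgroupOf X)).resolve_left htop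
        haveI := hp'.isNilpotent
        exact ⟨N, Subgroup.NormalizerCondition.normal_of_coatom N Group.normalizerCondition_of_isNilpotent hN, hle', hN.1⟩
      refine lt_of_le_of_lt (b := N.map X.subtype) (sup_le ?_ ?_) ?_
      · exact fun d hd => ⟨⟨d, mem_sup_right hd⟩, hDN hd, rfl⟩
      · rintro _ ⟨d, hd, rfl⟩
        exact ⟨_, hN.conj_mem ⟨d, mem_sup_right hd⟩ (hDN hd) ⟨c, mem_sup_left hc⟩, rfl⟩
      · exact lt_of_le_of_ne (map_subtype_le N) fun e => hNtop (map_injective X.subtype_injective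
          (by rw [e, ← MonoidHom.range_eq_map, range_subtype]))
    refine ih _ ?_ hD (hD.cj c) (card_cj c D).symm (hp'.to_le hX'.le) rfl
    refine lt_of_lt_of_le ?_ hle
    by_contra hge
    exact hX'.ne (eq_of_le_of_card_ge hX'.le (not_lt.1 hge))
  have hP' : IsPGroup p (B ⊔ A : Subgroup H) := by rwa [sup_comm]
  have hBa : ∀ a ∈ A, B ≤ centralizer (FFStruct.cj a B : Set H) := hconj hB le_rfl hP hA_B
  have hAb : ∀ b ∈ B, A ≤ centralizer (FFStruct.cj b A : Set H) :=
    hconj hA (sup_comm B A ▸ le_rfl) hP' hB_A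
  have hNA : ∀ a ∈ A, a ≠ 1 → a ∈ normalizer (B : Set H) →
      ∀ b ∈ B, a * b = b * a → b ∈ normalizer (A : Set H) := fun a ha ha1 _ b _ e =>
    h.mem_normalizer_of_commute_one hA ha ha1 e.symm
  by_cases hcase : ∃ a ∈ A, ∃ b ∈ B, a ≠ 1 ∧ b ≠ 1 ∧ a * b = b * a
  · obtain ⟨a₁, ha₁, b₁, hb₁, ha₁1, hb₁1, e₁⟩ := hcase
    -- the two normalising parts centralise each other
    let A₁ : Subgroup H := A ⊓ normalizer (B : Set H)
    let B₁ : Subgroup H := B ⊓ normalizer (A : Set H)
    have hb₁B : b₁ ∈ B₁ := ⟨hb₁, h.mem_normalizer_of_commute_one hA ha₁ ha₁1 e₁.symm⟩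
    have hA₁B : ∀ a ∈ A, a * b₁ = b₁ * a → a ∈ A₁ := fun a ha e =>
      ⟨ha, h.mem_normalizer_of_commute_one hB hb₁ hb₁1 e⟩
    obtain ⟨a, ha, haN⟩ := SetLike.not_le_iff_exists.1 hA_B
    -- the commutator of `b₁` with an element outside `A₁`
    set t := b₁ * a * b₁⁻¹ * a⁻¹ with ht
    have htA : t ∈ A := mul_mem ((mem_normalizer_iff.1 hb₁B.2 a).1 ha) (inv_mem ha)
    have ht1 : t ≠ 1 := fun e => haN (hA₁B a ha (mul_inv_eq_iff_eq_mul.1 (mul_inv_eq_one.1 e)).symm).2
    have htc : ∀ b ∈ B, t * b = b * t := by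
      intro b hb
      have hc1 : b₁ * b = b * b₁ := mem_centralizer_iff.1 ((Thompson.ea_iff.1 hB.ea).1 hb) b₁ hb₁
      have hc2 : b * (a * b₁⁻¹ * a⁻¹) = a * b₁⁻¹ * a⁻¹ * b :=
        commute_elem (hBa a ha) hb (conj_mem_cj (inv_mem hb₁))
      rw [ht, show b₁ * a * b₁⁻¹ * a⁻¹ = b₁ * (a * b₁⁻¹ * a⁻¹) by group, mul_assoc, ← hc2,
        ← mul_assoc, hc1, mul_assoc]
    exact hB_A fun b hb => h.mem_normalizer_of_commute_one hA htA ht1 (htc b hb).symm
  push Not at hcase
  -- no nontrivial element commutes with one of the other group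
  set W := fx (V := V) A with hW
  set W' := fx (V := V) B with hW'
  have hab : ∀ a ∈ A, ∀ b ∈ B, ∀ v : V, dm a (dm b v) ∈ W' := by
    intro a ha b hb v
    rcases eq_or_ne (FFStruct.cj a⁻¹ B) B with he | hne
    · rw [dm_apply]
      refine (fx B).sub_mem (smul_mem_fx ?_ (h.quad hB hb v)) (h.quad hB hb v)
      simpa using inv_mem (mem_normalizer_of_cj he)
    obtain ⟨-, -, -, hh⟩ := h.lattice hB (hB.cj a⁻¹) (hBa a⁻¹ (inv_mem ha)) hne.symm
    have := hh b hb v
    rw [fx_cj, mem_sm, inv_inv] at this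
    rw [dm_apply]
    exact (fx B).sub_mem this (h.quad hB hb v)
  have hba : ∀ b ∈ B, ∀ a ∈ A, ∀ v : V, dm b (dm a v) ∈ W := by
    intro b hb a ha v
    rcases eq_or_ne (FFStruct.cj b⁻¹ A) A with he | hne
    · rw [dm_apply]
      refine (fx A).sub_mem (smul_mem_fx ?_ (h.quad hA ha v)) (h.quad hA ha v)
      simpa using inv_mem (mem_normalizer_of_cj he)
    obtain ⟨-, -, -, hh⟩ := h.lattice hA (hA.cj b⁻¹) (hAb b⁻¹ (inv_mem hb)) hne.symm
    have := hh a ha v
    rw [fx_cj, mem_sm, inv_inv] at this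
    rw [dm_apply]
    exact (fx A).sub_mem this (h.quad hA ha v)
  obtain ⟨a, ha, haN⟩ := SetLike.not_le_iff_exists.1 hA_B
  have ha1 : a ≠ 1 := fun e => haN (e ▸ one_mem _)
  have hne : B ≠ FFStruct.cj a B := fun e => haN (mem_normalizer_of_cj e.symm)
  obtain ⟨-, -, hY, -⟩ := h.lattice hB (hB.cj a) (hBa a ha) hne
  rw [card_cj, fx_cj] at hY
  have hD1 : W ⊓ W' ≤ W' ⊓ sm a W' := fun v hv => ⟨hv.2, mem_sm.2 (by rw [hv.1 _ (inv_mem ha)]; exact hv.2)⟩
  have e := card_sup_inf W W'
  have hWW : Nat.card W * Nat.card W' * (Nat.card A * Nat.card B) = Nat.card V * Nat.card V := by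
    rw [← h.moff_exact hA]; conv_rhs => arg 2; rw [h.moff_exact hA, ← h.moff_exact hB]
    ring
  have htop : W ⊔ W' = ⊤ := by
    refine eq_top_of_card_ge (Nat.le_of_mul_le_mul_left ?_ (Nat.card_pos (α := V)))
    calc Nat.card V * Nat.card V
        = Nat.card (W ⊔ W' : AddSubgroup V) * (Nat.card A * Nat.card B * Nat.card (W ⊓ W' : AddSubgroup V)) := by
          rw [← hWW, ← e]; ring
      _ ≤ Nat.card (W ⊔ W' : AddSubgroup V) * Nat.card V := by
          refine Nat.mul_le_mul_left _ ?_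
          rw [← hY, hcard]
          exact Nat.mul_le_mul_left _ (card_le_of_le_add hD1)
      _ = _ := mul_comm _ _
  have hinter : W' ⊓ sm a W' = W ⊓ W' := by
    refine (eq_of_le_of_card_ge_add hD1 ?_).symm
    refine Nat.le_of_mul_le_mul_left ?_ (Nat.mul_pos (Nat.card_pos (α := B)) (Nat.card_pos (α := B)))
    rw [hY]
    have e' := e
    rw [htop, card_top_add] at e'
    refine Nat.le_of_mul_le_mul_left ?_ (Nat.card_pos (α := V))
    rw [← hWW, ← e', hcard]
    exact le_of_eq (by ring)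
  -- `d_a` maps `fx B` onto `fx A` modulo their meet
  have hsurj : ∀ u ∈ W, ∃ v ∈ W', dm a v - u ∈ W ⊓ W' := by
    let D := W ⊓ W'
    let f : ↥W' →+ V ⧸ D := ((QuotientAddGroup.mk' D).comp (dm a)).comp W'.subtype
    let π : ↥W →+ V ⧸ D := (QuotientAddGroup.mk' D).comp W.subtype
    have hle : f.range ≤ π.range := by
      rintro _ ⟨v, rfl⟩
      exact ⟨⟨_, h.quad hA ha v⟩, rfl⟩
    have hk : Nat.card f.ker ≤ Nat.card D := by
      refine Nat.card_le_card_of_injective (fun v => (⟨((v : W') : V), ?_⟩ : D)) ?_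
      · have hd : dm a ((v : W') : V) ∈ D := (QuotientAddGroup.eq_zero_iff _).1 v.2
        refine hinter.le ⟨(v : W').2, mem_sm.2 ?_⟩
        have e3 : a⁻¹ • ((v : W') : V) = ((v : W') : V) - dm a ((v : W') : V) := by
          rw [inv_smul_eq_iff, smul_sub, hd.1 a ha, dm_apply, sub_sub_cancel]
        rw [e3]
        exact W'.sub_mem (v : W').2 hd.2
      · exact fun v v' e' => Subtype.ext (Subtype.ext (congrArg Subtype.val e' :))
    have hπk : Nat.card π.ker = Nat.card D := Nat.card_congr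
      { toFun := fun w => ⟨((w : W) : V), (QuotientAddGroup.eq_zero_iff _).1 w.2⟩
        invFun := fun w => ⟨⟨w, w.2.1⟩, (QuotientAddGroup.eq_zero_iff _).2 w.2⟩
        left_inv := fun _ => rfl
        right_inv := fun _ => rfl }
    have h1 := AddSubgroup.card_eq_card_quotient_mul_card_addSubgroup f.ker
    have h2 := AddSubgroup.card_eq_card_quotient_mul_card_addSubgroup π.ker
    rw [Nat.card_congr (QuotientAddGroup.quotientKerEquivRange f).toEquiv] at h1
    rw [Nat.card_congr (QuotientAddGroup.quotientKerEquivRange π).toEquiv, hπk] at h2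
    have h3 : Nat.card W = Nat.card W' := Nat.eq_of_mul_eq_mul_left (Nat.card_pos (α := B))
      ((show Nat.card B * Nat.card W = Nat.card V by rw [← hcard]; exact h.moff_exact hA).trans
        (h.moff_exact hB).symm)
    have hfr : f.range = π.range := eq_of_le_of_card_ge_add hle
      (Nat.le_of_mul_le_mul_right (c := Nat.card D) (by
        rw [← h2, h3, h1]
        exact Nat.mul_le_mul_left _ hk) Nat.card_pos)
    intro u hu
    obtain ⟨v, hv⟩ := hfr.ge ⟨⟨u, hu⟩, rfl⟩
    refine ⟨v, v.2, ?_⟩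
    rw [← QuotientAddGroup.eq_zero_iff, QuotientAddGroup.mk_sub]
    exact sub_eq_zero.2 hv
  refine hB_A fun b hb => h.mem_normalizer_of_smul hA fun u hu => ?_
  obtain ⟨v, hv, hd⟩ := hsurj u hu
  have e1 : dm b u = dm b (dm a v) := by
    have : dm b (dm a v - u) = 0 := dm_eq_zero.2 (hd.2 b hb)
    rw [map_sub, sub_eq_zero] at this
    exact this.symm
  rw [show b • u = dm b u + u from (sub_add_cancel _ _).symm, e1]
  exact (fx A).add_mem (hba b hb a ha v) hu

end MOffFacts

end Amb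

end Cfsg.Agent.FFStruct
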