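import Cfsg.Prelude.Def_Solvable
import Cfsg.Prelude.Def_Transfer
import Cfsg.Agent.Thompson.Basic
import Cfsg.Agent.Core.PCore

/-!
# Offenders on an elementary abelian module: elementary facts
-/

set_option autoImplicit false
set_option linter.unusedSectionVars false

namespace Cfsg.Agent.FFStruct

open Subgroup
open scoped Pointwise

variable {H : Type*} [Group H] {V : Type*} [AddCommGroup V] [DistribMulAction H V]

/-- Conjugate of a subgroup. -/
abbrev cj (g : H) (X : Subgroup H) : Subgroup H := X.map (MulAut.conj g).toMonoidHom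

theorem mem_cj {g x : H} {X : Subgroup H} : x ∈ cj g X ↔ g⁻¹ * x * g ∈ X := by
  constructor
  · rintro ⟨y, hy, rfl⟩; simpa [mul_assoc] using hy
  · intro h; exact ⟨_, h, by simp [mul_assoc]⟩

theorem conj_mem_cj {g x : H} {X : Subgroup H} (hx : x ∈ X) : g * x * g⁻¹ ∈ cj g X := ⟨x, hx, rfl⟩

theorem cj_cj (a b : H) (X : Subgroup H) : cj a (cj b X) = cj (a * b) X := by
  ext x; simp [mem_cj, mul_assoc]

theorem cj_one (X : Subgroup H) : cj 1 X = X := by ext x; simp [mem_cj]

theorem cj_mono (g : H) {X Y : Subgroup H} (h : X ≤ Y) : cj g X ≤ cj g Y := map_mono h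

theorem cj_inv_cj (g : H) (X : Subgroup H) : cj g⁻¹ (cj g X) = X := by
  rw [cj_cj, inv_mul_cancel, cj_one]

theorem cj_cj_inv (g : H) (X : Subgroup H) : cj g (cj g⁻¹ X) = X := by
  rw [cj_cj, mul_inv_cancel, cj_one]

theorem card_cj (g : H) (X : Subgroup H) : Nat.card (cj g X) = Nat.card X :=
  card_map_of_injective (MulAut.conj g).injective

theorem cj_injective (g : H) : Function.Injective (cj g : Subgroup H → Subgroup H) :=
  map_injective (MulAut.conj g).injective

theorem cj_of_mem_normalizer {g : H} {X : Subgroup H} (h : g ∈ normalizer (X : Set H)) : cj g X = X := by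
  ext x
  rw [mem_cj]
  have := mem_normalizer_iff.1 h (g⁻¹ * x * g)
  simpa [mul_assoc] using this

theorem mem_normalizer_of_cj {g : H} {X : Subgroup H} (h : cj g X = X) :
    g ∈ normalizer (X : Set H) := by
  rw [mem_normalizer_iff]
  intro y
  have := mem_cj (g := g) (x := g * y * g⁻¹) (X := X)
  rw [h] at this
  simpa [mul_assoc] using this.symm

theorem ea_cj {p : ℕ} {A : Subgroup H} (hA : Cfsg.IsElementaryAbelian p A) (g : H) :
    Cfsg.IsElementaryAbelian p (cj g A) :=
  Thompson.ea_map hA _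

/-- Fixed points of a subgroup. -/
def fx (A : Subgroup H) : AddSubgroup V where
  carrier := {v | ∀ a ∈ A, a • v = v}
  zero_mem' := fun a _ => smul_zero a
  add_mem' := fun {u v} hu hv a ha => by rw [smul_add, hu a ha, hv a ha]
  neg_mem' := fun {u} hu a ha => by rw [smul_neg, hu a ha]

theorem mem_fx {A : Subgroup H} {v : V} : v ∈ fx A ↔ ∀ a ∈ A, a • v = v := Iff.rfl

theorem fx_anti {A B : Subgroup H} (h : A ≤ B) : (fx B : AddSubgroup V) ≤ fx A :=
  fun _ hv a ha => hv a (h ha)

theorem fx_bot : (fx (⊥ : Subgroup H) : AddSubgroup V) = ⊤ :=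
  eq_top_iff.2 fun v _ a ha => by rw [mem_bot.1 ha, one_smul]

/-- The stabiliser of a vector. -/
def stabV (v : V) : Subgroup H := MulAction.stabilizer H v

theorem mem_stabV {v : V} {h : H} : h ∈ stabV v ↔ h • v = v := Iff.rfl

theorem mem_fx_iff_le_stabV {A : Subgroup H} {v : V} : v ∈ fx A ↔ A ≤ stabV v := Iff.rfl

theorem fx_sup (A B : Subgroup H) : (fx (A ⊔ B) : AddSubgroup V) = fx A ⊓ fx B := by
  ext v
  simp only [AddSubgroup.mem_inf, mem_fx_iff_le_stabV, sup_le_iff]

/-- Translate of an additive subgroup. -/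
def sm (g : H) (W : AddSubgroup V) : AddSubgroup V := W.map (DistribSMul.toAddMonoidHom V g)

theorem mem_sm {g : H} {W : AddSubgroup V} {v : V} : v ∈ sm g W ↔ g⁻¹ • v ∈ W := by
  constructor
  · rintro ⟨w, hw, rfl⟩
    show g⁻¹ • g • w ∈ W
    rwa [inv_smul_smul]
  · intro h
    exact ⟨_, h, smul_inv_smul g v⟩

theorem smul_mem_sm {g : H} {W : AddSubgroup V} {v : V} (hv : v ∈ W) : g • v ∈ sm g W := ⟨v, hv, rfl⟩

theorem fx_cj (g : H) (A : Subgroup H) : (fx (cj g A) : AddSubgroup V) = sm g (fx A) := by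
  ext v
  rw [mem_sm, mem_fx, mem_fx]
  constructor
  · intro h a ha
    have := h _ (conj_mem_cj (g := g) ha)
    rw [mul_smul, mul_smul] at this
    conv_rhs => rw [← this, inv_smul_smul]
  · intro h a ha
    have := h _ (mem_cj.1 ha)
    rw [mul_smul, mul_smul, smul_inv_smul] at this
    exact (smul_left_cancel_iff g⁻¹).1 this

theorem card_sm (g : H) (W : AddSubgroup V) : Nat.card (sm g W) = Nat.card W :=
  (Nat.card_congr (W.equivMapOfInjective _ (MulAction.injective g)).toEquiv).symm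

theorem card_le_of_le_add [Finite V] {X Y : AddSubgroup V} (h : X ≤ Y) : Nat.card X ≤ Nat.card Y :=
  Nat.card_le_card_of_injective (fun x => (⟨x, h x.2⟩ : Y)) fun x y e =>
    Subtype.ext (congrArg Subtype.val e :)

theorem eq_of_le_of_card_ge_add [Finite V] {X Y : AddSubgroup V} (h : X ≤ Y)
    (hc : Nat.card Y ≤ Nat.card X) : X = Y := by
  refine le_antisymm h fun y hy => ?_
  have hb : Function.Bijective (fun x : X => (⟨x, h x.2⟩ : Y)) :=
    (Nat.bijective_iff_injective_and_card _).2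
      ⟨fun x y e => Subtype.ext (congrArg Subtype.val e :), le_antisymm (card_le_of_le_add h) hc⟩
  obtain ⟨x, hx⟩ := hb.2 ⟨y, hy⟩
  have e : (x : V) = y := congrArg Subtype.val hx
  exact e ▸ x.2

theorem card_top_add : Nat.card (⊤ : AddSubgroup V) = Nat.card V :=
  Nat.card_congr (Equiv.subtypeUnivEquiv fun _ => trivial)

theorem card_le_add [Finite V] (X : AddSubgroup V) : Nat.card X ≤ Nat.card V :=
  Nat.card_le_card_of_injective Subtype.val Subtype.val_injective

theorem eq_top_of_card_ge [Finite V] {X : AddSubgroup V} (hc : Nat.card V ≤ Nat.card X) : X = ⊤ :=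
  eq_of_le_of_card_ge_add le_top (card_top_add.trans_le hc)

/-- `|X + Y| |X ∩ Y| = |X| |Y|`. -/
theorem card_sup_inf [Finite V] (X Y : AddSubgroup V) :
    Nat.card (X ⊔ Y : AddSubgroup V) * Nat.card (X ⊓ Y : AddSubgroup V) = Nat.card X * Nat.card Y := by
  let f : ↥X × ↥Y →+ V := AddMonoidHom.coprod X.subtype Y.subtype
  have hr : f.range = X ⊔ Y := by
    ext v
    rw [AddMonoidHom.mem_range, AddSubgroup.mem_sup]
    constructor
    · rintro ⟨⟨x, y⟩, rfl⟩
      exact ⟨x, x.2, y, y.2, rfl⟩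
    · rintro ⟨x, hx, y, hy, rfl⟩
      exact ⟨(⟨x, hx⟩, ⟨y, hy⟩), rfl⟩
  have hk : Nat.card f.ker = Nat.card (X ⊓ Y : AddSubgroup V) := by
    refine Nat.card_congr
      { toFun := fun z => ⟨(z.1.1 : V), z.1.1.2, ?_⟩
        invFun := fun v => ⟨(⟨v, v.2.1⟩, ⟨-v, Y.neg_mem v.2.2⟩), add_neg_cancel (v : V)⟩
        left_inv := fun z => ?_
        right_inv := fun v => rfl }
    · have := z.2
      rw [AddMonoidHom.mem_ker] at this
      exact (eq_neg_of_add_eq_zero_left (show (z.1.1 : V) + z.1.2 = 0 from this)) ▸ Y.neg_mem z.1.2.2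
    · have := z.2
      rw [AddMonoidHom.mem_ker] at this
      have e := eq_neg_of_add_eq_zero_right (show (z.1.1 : V) + z.1.2 = 0 from this)
      exact Subtype.ext (Prod.ext rfl (Subtype.ext e.symm))
  rw [← Nat.card_prod ↥X ↥Y, AddSubgroup.card_eq_card_quotient_mul_card_addSubgroup f.ker,
    Nat.card_congr (QuotientAddGroup.quotientKerEquivRange f).toEquiv, hk, hr]

/-- The commutator map `v ↦ g • v - v`. -/
def dm (g : H) : V →+ V := DistribSMul.toAddMonoidHom V g - AddMonoidHom.id V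

theorem dm_apply (g : H) (v : V) : dm g v = g • v - v := rfl

theorem dm_eq_zero {g : H} {v : V} : dm g v = 0 ↔ g • v = v := sub_eq_zero

theorem dm_mul (g h : H) (v : V) : dm (g * h) v = g • dm h v + dm g v := by
  rw [dm_apply, dm_apply, dm_apply, mul_smul, smul_sub]; abel

theorem dm_inv (g : H) (v : V) : dm g⁻¹ v = -(g⁻¹ • dm g v) := by
  rw [dm_apply, dm_apply, smul_sub, inv_smul_smul, neg_sub]

theorem dm_conj (g h : H) (v : V) : dm (g * h * g⁻¹) v = g • dm h (g⁻¹ • v) := by
  rw [dm_apply, dm_apply, smul_sub, smul_inv_smul, mul_smul, mul_smul]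

theorem dm_comm {g h : H} (e : g * h = h * g) (v : V) : dm g (dm h v) = dm h (dm g v) := by
  simp only [dm_apply, smul_sub, ← mul_smul, e]; abel

/-- Elements fixing `D` and acting trivially modulo `D`. -/
def stb (D : AddSubgroup V) : Subgroup H where
  carrier := {h | (∀ v ∈ D, h • v = v) ∧ ∀ v, dm h v ∈ D}
  one_mem' := ⟨fun v _ => one_smul H v, fun v => by
    rw [dm_apply, one_smul, sub_self]; exact D.zero_mem⟩
  mul_mem' := fun {g h} hg hh => ⟨fun v hv => by rw [mul_smul, hh.1 v hv, hg.1 v hv], fun v => by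
    rw [dm_mul, hg.1 _ (hh.2 v)]; exact D.add_mem (hh.2 v) (hg.2 v)⟩
  inv_mem' := fun {g} hg => ⟨fun v hv => by rw [inv_smul_eq_iff, hg.1 v hv], fun v => by
    rw [dm_inv, (inv_smul_eq_iff.2 (hg.1 _ (hg.2 v)).symm)]; exact D.neg_mem (hg.2 v)⟩

theorem mem_stb {D : AddSubgroup V} {h : H} :
    h ∈ stb D ↔ (∀ v ∈ D, h • v = v) ∧ ∀ v, dm h v ∈ D := Iff.rfl

theorem dm_mul_stb {D : AddSubgroup V} {g h : H} (hg : g ∈ stb D) (hh : h ∈ stb D) (v : V) :
    dm (g * h) v = dm h v + dm g v := by rw [dm_mul, hg.1 _ (hh.2 v)]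

theorem le_fx_stb (D : AddSubgroup V) : D ≤ fx (stb (H := H) D) := fun v hv _ ha => ha.1 v hv

theorem eq_of_dm_eq [FaithfulSMul H V] {g h : H} (e : ∀ v : V, dm g v = dm h v) : g = h :=
  eq_of_smul_eq_smul fun v : V => sub_left_injective (e v)

theorem eq_one_of_dm [FaithfulSMul H V] {g : H} (e : ∀ v : V, dm g v = 0) : g = 1 :=
  eq_of_dm_eq fun v => by rw [e, dm_apply, one_smul, sub_self]

theorem ea_stb [FaithfulSMul H V] {p : ℕ} (hp : ∀ v : V, p • v = 0) (D : AddSubgroup V) :
    Cfsg.IsElementaryAbelian p (stb (H := H) D) := by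
  refine Thompson.ea_iff.2 ⟨fun g hg => mem_centralizer_iff.2 fun h hh => ?_, fun g hg => ?_⟩
  · exact eq_of_dm_eq fun v => by rw [dm_mul_stb hh hg, dm_mul_stb hg hh, add_comm]
  · have hk : ∀ k : ℕ, ∀ v : V, dm (g ^ k) v = k • dm g v := by
      intro k
      induction k with
      | zero => intro v; rw [pow_zero, zero_smul, dm_apply, one_smul, sub_self]
      | succ k ih => intro v; rw [pow_succ, dm_mul_stb (pow_mem hg k) hg, ih, succ_nsmul, add_comm]
    exact eq_one_of_dm fun v => by rw [hk, hp]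

/-- A maximal value in the family of subgroups of `A` and smallest among those. -/
theorem exists_min_max [Finite H] (A : Subgroup H) :
    ∃ B ≤ A, (∀ C ≤ A, Nat.card C * Nat.card (fx (V := V) C) ≤ Nat.card B * Nat.card (fx (V := V) B)) ∧
      ∀ C ≤ B, C ≠ B →
        Nat.card C * Nat.card (fx (V := V) C) < Nat.card B * Nat.card (fx (V := V) B) := by
  classical
  let f : Subgroup H → ℕ := fun C => Nat.card C * Nat.card (fx (V := V) C)
  obtain ⟨B₀, hB₀, hmax⟩ := Set.exists_max_image {C : Subgroup H | C ≤ A} f (Set.toFinite _)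
    ⟨A, le_refl A⟩
  obtain ⟨B, hB, hmin⟩ := Set.exists_min_image {C : Subgroup H | C ≤ A ∧ f C = f B₀}
    (fun C => Nat.card C) (Set.toFinite _) ⟨B₀, hB₀, rfl⟩
  refine ⟨B, hB.1, fun C hC => (hmax C hC).trans hB.2.ge, fun C hC hne => ?_⟩
  refine lt_of_le_of_ne ((hmax C (hC.trans hB.1)).trans hB.2.ge) fun e => ?_
  exact hne (eq_of_le_of_card_ge hC (hmin C ⟨hC.trans hB.1, e.trans hB.2⟩))

theorem dm_iterate_p [Finite H] {p : ℕ} [Fact p.Prime] (hp : ∀ v : V, p • v = 0) {a : H}
    (ha : a ^ p = 1) (v : V) : ((fun w : V => dm a w)^[p]) v = 0 := by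
  let A' : AddMonoid.End V := DistribSMul.toAddMonoidHom V a
  have hA' : ∀ j : ℕ, ∀ w : V, (A' ^ j : AddMonoid.End V) w = a ^ j • w := by
    intro j w
    rw [AddMonoid.End.coe_pow]
    induction j with
    | zero => rw [Function.iterate_zero_apply, pow_zero, one_smul]
    | succ j ih => rw [Function.iterate_succ_apply', ih, pow_succ', mul_smul]; rfl
  let d : AddMonoid.End V := dm a
  have h0 : (p : AddMonoid.End V) = 0 := by
    ext w
    exact (AddMonoid.End.natCast_apply p w).trans (hp w)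
  obtain ⟨r, hr⟩ := (Commute.one_right d).exists_add_pow_prime_eq (Fact.out : p.Prime)
  have h1 : d + 1 = A' := by
    ext w
    show (a • w - w) + w = a • w
    exact sub_add_cancel _ _
  have h2 : A' ^ p = 1 := by
    ext w
    rw [hA', ha, one_smul]
    rfl
  rw [h1, h2, one_pow, h0, zero_mul, zero_mul, zero_mul, add_zero] at hr
  have h3 : d ^ p = 0 := by
    have := congrArg (fun z => z - 1) hr
    simpa using this.symm
  have h4 := congrArg (fun z : AddMonoid.End V => z v) h3
  rw [AddMonoid.End.coe_pow] at h4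
  exact h4

/-- Commuting unipotent maps: an invariant `D = Σ d_a D` is trivial. -/
theorem eq_bot_of_le_sup_dm [Finite H] [Finite V] {p : ℕ} [Fact p.Prime] (hp : ∀ v : V, p • v = 0)
    {A : Subgroup H} (hA : Cfsg.IsElementaryAbelian p A) (D : AddSubgroup V)
    (hinv : ∀ a ∈ A, ∀ v ∈ D, dm a v ∈ D) (hD : D ≤ ⨆ a : A, D.map (dm (a : H))) : D = ⊥ := by
  classical
  by_contra hne
  obtain ⟨E, hE, hmax⟩ := Set.exists_max_image
    {E : AddSubgroup V | E < D ∧ ∀ a ∈ A, ∀ v ∈ E, dm a v ∈ E} (fun E => Nat.card E) (Set.toFinite _)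
    ⟨⊥, bot_lt_iff_ne_bot.2 hne, fun a _ v hv => by
      rw [AddSubgroup.mem_bot.1 hv, map_zero]; exact AddSubgroup.zero_mem _⟩
  obtain ⟨hED, hEinv⟩ := hE
  have key : ∀ s : Finset H, (∀ a ∈ s, a ∈ A) → ∃ v ∈ D, v ∉ E ∧ ∀ a ∈ s, dm a v ∈ E := by
    intro s
    induction s using Finset.induction with
    | empty =>
      intro _
      obtain ⟨v, hv, hvE⟩ := SetLike.exists_of_lt hED
      exact ⟨v, hv, hvE, fun a ha => absurd ha (Finset.notMem_empty a)⟩
    | @insert b s hb ih =>
      intro hs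
      have hbA : b ∈ A := hs b (Finset.mem_insert_self b s)
      have hsA : ∀ a ∈ s, a ∈ A := fun a ha => hs a (Finset.mem_insert_of_mem ha)
      obtain ⟨v, hv, hvE, hsv⟩ := ih hsA
      have hex : ∃ k, ((fun w : V => dm b w)^[k]) v ∈ E :=
        ⟨p, by rw [dm_iterate_p hp (hA.2 b hbA)]; exact E.zero_mem⟩
      obtain ⟨k, hk⟩ : ∃ k, Nat.find hex = k + 1 :=
        Nat.exists_eq_succ_of_ne_zero fun h => hvE (by simpa [h] using Nat.find_spec hex)
      have hnot : ((fun w : V => dm b w)^[k]) v ∉ E := Nat.find_min hex (by omega)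
      have hit : ∀ j, ((fun w : V => dm b w)^[j]) v ∈ D ∧
          ∀ a ∈ s, dm a (((fun w : V => dm b w)^[j]) v) ∈ E := by
        intro j
        induction j with
        | zero => exact ⟨hv, hsv⟩
        | succ j ihj =>
          rw [Function.iterate_succ_apply']
          refine ⟨hinv b hbA _ ihj.1, fun a ha => ?_⟩
          rw [dm_comm (mem_centralizer_iff.1 ((Thompson.ea_iff.1 hA).1 hbA) a (hsA a ha))]
          exact hEinv b hbA _ (ihj.2 a ha)
      refine ⟨_, (hit k).1, hnot, fun a ha => ?_⟩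
      rcases Finset.mem_insert.1 ha with rfl | ha'
      · have h5 := Nat.find_spec hex
        rwa [hk, Function.iterate_succ_apply'] at h5
      · exact (hit k).2 a ha'
  obtain ⟨v, hv, hvE, hall⟩ :=
    key (Set.toFinite (A : Set H)).toFinset fun a ha => by simpa using ha
  let F : AddSubgroup V :=
    { carrier := {w | w ∈ D ∧ ∀ a ∈ A, dm a w ∈ E}
      zero_mem' := ⟨D.zero_mem, fun a _ => by rw [map_zero]; exact E.zero_mem⟩
      add_mem' := fun {u w} hu hw => ⟨D.add_mem hu.1 hw.1, fun a ha => by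
        rw [map_add]; exact E.add_mem (hu.2 a ha) (hw.2 a ha)⟩
      neg_mem' := fun {u} hu => ⟨D.neg_mem hu.1, fun a ha => by
        rw [map_neg]; exact E.neg_mem (hu.2 a ha)⟩ }
  have hEF : E ≤ F := fun w hw => ⟨hED.le hw, fun a ha => hEinv a ha w hw⟩
  have hF : F = D := by
    by_contra hne'
    have hlt : F < D := lt_of_le_of_ne (fun w hw => hw.1) hne'
    have := hmax F ⟨hlt, fun a ha w hw => hEF (hw.2 a ha)⟩
    exact hvE ((eq_of_le_of_card_ge_add hEF this).ge ⟨hv, fun a ha => hall a (by simpa using ha)⟩)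
  refine hED.not_ge (hD.trans (iSup_le fun a => ?_))
  rintro _ ⟨w, hw, rfl⟩
  exact (hF.ge hw).2 a a.2

/-- Thompson replacement: if no nontrivial proper subgroup of `A` does as well as `A`, then `A` is
quadratic. -/
theorem quad_of_strict [Finite H] [Finite V] [FaithfulSMul H V] {p : ℕ} [Fact p.Prime]
    (hp : ∀ v : V, p • v = 0) {A : Subgroup H} (hA : Cfsg.IsElementaryAbelian p A)
    (hb : Nat.card V ≤ Nat.card A * Nat.card (fx (V := V) A))
    (hs : ∀ B ≤ A, B ≠ ⊥ → B ≠ A → Nat.card B * Nat.card (fx (V := V) B) <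
      Nat.card A * Nat.card (fx (V := V) A))
    {a : H} (ha : a ∈ A) (u : V) : dm a u ∈ fx A := by
  classical
  have hcomm : ∀ a ∈ A, ∀ b ∈ A, a * b = b * a := fun a ha b hb =>
    (mem_centralizer_iff.1 ((Thompson.ea_iff.1 hA).1 ha) b hb).symm
  by_contra hbad
  set S : AddSubgroup V := AddSubgroup.closure (Set.range fun b : A => dm (b : H) u) with hS
  set X : AddSubgroup V := fx A ⊔ S with hX
  set B : Subgroup H := A ⊓ ⨅ x : X, stabV (x : V) with hBdef
  have hBX : X ≤ fx B := fun x hx b hb => (Subgroup.mem_iInf.1 hb.2 ⟨x, hx⟩ :)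
  have hlt : B ≠ A := fun e => hbad (by
    rw [← e]; exact hBX (AddSubgroup.mem_sup_right (AddSubgroup.subset_closure ⟨⟨a, ha⟩, rfl⟩)))
  -- elements of `A` congruent at `u` differ by an element of `B`
  have hcong : ∀ b ∈ A, ∀ c ∈ A, dm b u - dm c u ∈ fx A → c⁻¹ * b ∈ B := by
    intro b hb' c hc hmem
    have hcA : c⁻¹ * b ∈ A := mul_mem (inv_mem hc) hb'
    have hd : dm (c⁻¹ * b) u = dm b u - dm c u := by
      rw [← hmem _ (inv_mem hc)]
      simp only [dm_apply, mul_smul, smul_sub, inv_smul_smul]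
      abel
    refine ⟨hcA, Subgroup.mem_iInf.2 fun x => ?_⟩
    have hle : X ≤ (dm (c⁻¹ * b)).ker := by
      refine sup_le (fun w hw => dm_eq_zero.2 (hw _ hcA)) ((AddSubgroup.closure_le _).2 ?_)
      rintro _ ⟨d, rfl⟩
      show dm (c⁻¹ * b) (dm (d : H) u) = 0
      rw [dm_comm (hcomm _ hcA _ d.2), hd]
      exact dm_eq_zero.2 (hmem _ d.2)
    exact dm_eq_zero.1 (hle x.2)
  -- so `|A : B| ≤ |X : fx A|`
  have hcount : Nat.card A * Nat.card (fx (V := V) A) ≤ Nat.card B * Nat.card X := by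
    let π : ↥X →+ V ⧸ fx (V := V) A := (QuotientAddGroup.mk' _).comp X.subtype
    let f : ↥A → π.range := fun b =>
      ⟨QuotientAddGroup.mk (dm (b : H) u),
        ⟨⟨_, AddSubgroup.mem_sup_right (AddSubgroup.subset_closure ⟨b, rfl⟩)⟩, rfl⟩⟩
    have hfib : ∀ y, Nat.card {b : ↥A // f b = y} ≤ Nat.card B := by
      intro y
      rcases isEmpty_or_nonempty {b : ↥A // f b = y} with h | ⟨⟨c, hc⟩⟩
      · simp
      refine Nat.card_le_card_of_injective
        (fun b => (⟨((c : ↥A) : H)⁻¹ * (b.1 : H), hcong _ b.1.2 _ c.2 ?_⟩ : B)) ?_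
      · rw [← QuotientAddGroup.eq_zero_iff, QuotientAddGroup.mk_sub]
        exact sub_eq_zero.2 (congrArg Subtype.val (b.2.trans hc.symm))
      · intro b b' e
        exact Subtype.ext (Subtype.ext (mul_left_cancel (congrArg Subtype.val e :)))
    have h1 : Nat.card A ≤ Nat.card π.range * Nat.card B := by
      haveI : Fintype π.range := Fintype.ofFinite _
      rw [Nat.card_congr (Equiv.sigmaFiberEquiv f).symm, Nat.card_sigma]
      calc ∑ y, Nat.card {b : ↥A // f b = y} ≤ ∑ _y : π.range, Nat.card B :=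
            Finset.sum_le_sum fun y _ => hfib y
        _ = _ := by rw [Finset.sum_const, Finset.card_univ, smul_eq_mul, ← Nat.card_eq_fintype_card]
    have h2 : Nat.card X = Nat.card π.range * Nat.card (fx (V := V) A) := by
      have hk : Nat.card π.ker = Nat.card (fx (V := V) A) := by
        refine Nat.card_congr
          { toFun := fun z => ⟨((z : X) : V), (QuotientAddGroup.eq_zero_iff _).1 z.2⟩
            invFun := fun w => ⟨⟨w, AddSubgroup.mem_sup_left w.2⟩, (QuotientAddGroup.eq_zero_iff _).2 w.2⟩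
            left_inv := fun _ => rfl
            right_inv := fun _ => rfl }
      rw [AddSubgroup.card_eq_card_quotient_mul_card_addSubgroup π.ker,
        Nat.card_congr (QuotientAddGroup.quotientKerEquivRange π).toEquiv, hk]
    calc Nat.card A * Nat.card (fx (V := V) A)
        ≤ Nat.card π.range * Nat.card B * Nat.card (fx (V := V) A) := Nat.mul_le_mul_right _ h1
      _ = Nat.card B * Nat.card X := by rw [h2]; ring
  have hB : B = ⊥ := by
    by_contra hne
    exact absurd ((hs B inf_le_left hne hlt).trans_le hcount)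
      (Nat.mul_le_mul_left _ (card_le_of_le_add hBX)).not_gt
  have hXtop : X = ⊤ := eq_top_of_card_ge (by
    have := hb.trans hcount
    rwa [hB, Subgroup.card_bot, one_mul] at this)
  -- so `[V, A] = [V, A, A]`
  set D : AddSubgroup V := ⨆ b : A, (⊤ : AddSubgroup V).map (dm (b : H)) with hD
  have hDinv : ∀ b ∈ A, ∀ v ∈ D, dm b v ∈ D := fun b hb' v _ =>
    (le_iSup (fun b : A => (⊤ : AddSubgroup V).map (dm (b : H))) ⟨b, hb'⟩) ⟨v, trivial, rfl⟩
  have hSD : S ≤ D := (AddSubgroup.closure_le _).2 (by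
    rintro _ ⟨b, rfl⟩
    exact (le_iSup (fun b : A => (⊤ : AddSubgroup V).map (dm (b : H))) b) ⟨u, trivial, rfl⟩)
  have hDD : D ≤ ⨆ b : A, D.map (dm (b : H)) := by
    refine iSup_le fun b => ?_
    rintro _ ⟨v, -, rfl⟩
    obtain ⟨w, hw, s, hs', rfl⟩ := AddSubgroup.mem_sup.1 (hXtop.ge (AddSubgroup.mem_top v) : v ∈ X)
    rw [map_add, dm_eq_zero.2 (hw b b.2), zero_add]
    exact (le_iSup (fun b : A => D.map (dm (b : H))) b) ⟨s, hSD hs', rfl⟩
  have h0 := eq_bot_of_le_sup_dm hp hA D hDinv hDD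
  exact hbad (by
    have : dm a u ∈ D :=
      (le_iSup (fun b : A => (⊤ : AddSubgroup V).map (dm (b : H))) ⟨a, ha⟩) ⟨u, trivial, rfl⟩
    rw [h0, AddSubgroup.mem_bot] at this
    rw [this]
    exact AddSubgroup.zero_mem _)

end Cfsg.Agent.FFStruct
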