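import Cfsg.Agent.FFStruct.Pair

/-!
# For `q > 2`, a commuting conjugate of `A` centralises every `SL₂` through `A`
-/

set_option autoImplicit false
set_option linter.unusedSectionVars false
set_option linter.style.haveILetI false

namespace Cfsg.Agent.FFStruct

open Subgroup Matrix
open scoped Pointwise MatrixGroups

/-- The diagonal matrix `diag (r, r⁻¹)`. -/
def diag2 {K : Type} [Field K] (r : K) (hr : r ≠ 0) : SL(2, K) :=
  ⟨!![r, 0; 0, r⁻¹], by rw [Matrix.det_fin_two]; simp [mul_inv_cancel₀ hr]⟩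

/-- The Weyl element. -/
def weyl2 (K : Type) [Field K] : SL(2, K) :=
  ⟨!![0, 1; -1, 0], by rw [Matrix.det_fin_two]; simp⟩

theorem diag2_mulVec {K : Type} [Field K] (r : K) (hr : r ≠ 0) (v : Fin 2 → K) :
    (diag2 r hr : Matrix (Fin 2) (Fin 2) K).mulVec v = ![r * v 0, r⁻¹ * v 1] := by
  funext i
  fin_cases i <;> simp [diag2, Matrix.mulVec, dotProduct, Fin.sum_univ_two]

theorem weyl2_mulVec {K : Type} [Field K] (v : Fin 2 → K) :
    (weyl2 K : Matrix (Fin 2) (Fin 2) K).mulVec v = ![v 1, -v 0] := by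
  funext i
  fin_cases i <;> simp [weyl2, Matrix.mulVec, dotProduct, Fin.sum_univ_two]

/-- A normalised additive map intertwining the torus on a finite field vanishes. -/
theorem tau_eq_zero {K : Type} [Field K] [Finite K] {p : ℕ} [Fact p.Prime] (hchar : (p : K) = 0)
    (τ : K →+ K) (h1 : τ 1 = 0)
    (hadd : ∀ r s f : K, (r + s) * τ ((r + s) * f) - f * ((r + s) * τ (r + s)) =
      (r * τ (r * f) - f * (r * τ r)) + (s * τ (s * f) - f * (s * τ s))) : τ = 0 := by
  have hid : ∀ r f : K, r * τ f + τ (r * f) - f * τ r = 0 := fun r f => by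
    have h := hadd r 1 f
    rw [add_mul r 1 f, one_mul, map_add, map_add, h1] at h
    linear_combination h
  have h2 : ∀ f : K, 2 * τ f = 0 := fun f => by
    have := hid 1 f
    rw [one_mul, one_mul, h1] at this
    linear_combination this
  have hsq : ∀ r : K, τ (r * r) = 0 := fun r => by linear_combination hid r r
  ext f
  by_cases hp2 : (2 : K) = 0
  · haveI : CharP K 2 := CharTwo.of_one_ne_zero_of_two_eq_zero one_ne_zero hp2
    obtain ⟨r, rfl⟩ := FiniteField.isSquare_of_char_two (ringChar.eq K 2) f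
    exact hsq r
  · exact (mul_eq_zero.1 (h2 f)).resolve_left hp2

variable {H : Type*} [Group H] {V : Type*} [AddCommGroup V] [DistribMulAction H V]
variable [Finite H] [Finite V] [FaithfulSMul H V] {p : ℕ} [Fact p.Prime]

theorem Amb.beta (h : Amb H V p) {A : Subgroup H} {x g : H} (hA : MOff V p A) (P : Pair V A x)
    (hq : 2 < Nat.card A) (hne : cj g A ≠ A) (hc : A ≤ centralizer (cj g A : Set H)) :
    cj x A ≤ centralizer (cj g A : Set H) := by
  classical
  set C := cj g A with hCdef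
  have hC : MOff V p C := hA.cj g
  obtain ⟨K, _, _, hK, ρ, ψ, hψs, hψk, heq, hline, hAin, hAout⟩ := P.normal_model
  set C0 : AddSubgroup V := fx (A ⊔ cj x A) with hC0
  set WA : AddSubgroup V := fx A with hWA
  set WC : AddSubgroup V := fx C with hWC
  obtain ⟨hinf, htop, hexact, hquadA⟩ := h.lattice hA hC hc (Ne.symm hne)
  obtain ⟨-, -, -, hquadC⟩ := h.lattice hC hA (le_centralizer_iff.1 hc) hne
  have hcardC : Nat.card C = Nat.card A := card_cj g A
  -- scalars
  obtain ⟨r₀, hr₀0, hr₀1⟩ : ∃ r : K, r ≠ 0 ∧ r ≠ 1 := by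
    by_contra hcon
    push Not at hcon
    have : Fintype.card K ≤ 2 := by
      rw [← Finset.card_univ]
      refine (Finset.card_le_card (t := ({0, 1} : Finset K)) fun r _ => ?_).trans Finset.card_le_two
      by_cases hr : r = 0 <;> simp [hr, hcon]
    omega
  have hpK : (p : K) = 0 := by
    obtain ⟨v, hv⟩ := hψs ![1, 0]
    have e := congrFun (congrArg ψ (h.hp v)) 0
    rw [map_nsmul, hv, map_zero] at e
    simpa using e
  -- torus and Weyl element
  let t : (r : K) → r ≠ 0 → H := fun r hr => ((ρ.symm (diag2 r hr) : ↥(A ⊔ cj x A)) : H)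
  let w : H := ((ρ.symm (weyl2 K) : ↥(A ⊔ cj x A)) : H)
  have htL : ∀ r hr, t r hr ∈ (A ⊔ cj x A) := fun r hr => (ρ.symm (diag2 r hr)).2
  have htψ : ∀ r hr (v : V), ψ (t r hr • v) = ![r * ψ v 0, r⁻¹ * ψ v 1] := fun r hr v => by
    rw [show ψ (t r hr • v) = _ from heq (ρ.symm (diag2 r hr)) v, MulEquiv.apply_symm_apply,
      diag2_mulVec]
  have hwψ : ∀ v : V, ψ (w • v) = ![ψ v 1, -ψ v 0] := fun v => by
    rw [show ψ (w • v) = _ from heq (ρ.symm (weyl2 K)) v, MulEquiv.apply_symm_apply, weyl2_mulVec]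
  have hC0fix : ∀ e ∈ (A ⊔ cj x A), ∀ v ∈ C0, e • v = v := fun e he v hv => hv e he
  have hC0WA : C0 ≤ WA := fx_anti le_sup_left
  set t₀ := t r₀ hr₀0 with ht₀
  set V1 : AddSubgroup V := (dm t₀).range with hV1
  have hker : ∀ v : V, dm t₀ v = 0 → v ∈ C0 := by
    intro v hv
    have e := congrArg ψ (dm_eq_zero.1 hv)
    rw [htψ] at e
    refine (hψk v).1 (funext fun i => ?_)
    fin_cases i
    · have e0 := congrFun e 0
      simp at e0
      by_contra hv0
      exact hr₀1 (mul_right_cancel₀ hv0 (e0.trans (one_mul _).symm))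
    · have e1 := congrFun e 1
      simp at e1
      by_contra hv0
      exact hr₀1 (inv_eq_one.1 (mul_right_cancel₀ hv0 (e1.trans (one_mul _).symm)))
  have hV1C0 : V1 ⊓ C0 = ⊥ := by
    refine (AddSubgroup.eq_bot_iff_forall _).2 fun v hv => ?_
    obtain ⟨⟨u, rfl⟩, hfix⟩ := hv
    have hpow : ∀ k : ℕ, dm (t₀ ^ k) u = k • dm t₀ u := by
      intro k
      induction k with
      | zero => rw [pow_zero, zero_smul, dm_apply, one_smul, sub_self]
      | succ k ih => rw [pow_succ', dm_mul, ih, smul_comm t₀ k, hC0fix _ (htL _ _) _ hfix, succ_nsmul]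
    have hord : t₀ ^ (Fintype.card K - 1) = 1 := by
      have e : diag2 r₀ hr₀0 ^ (Fintype.card K - 1) = 1 := by
        have hp' : ∀ k : ℕ, ((diag2 r₀ hr₀0 ^ k : SL(2, K)) : Matrix (Fin 2) (Fin 2) K) =
            !![r₀ ^ k, 0; 0, r₀⁻¹ ^ k] := by
          intro k
          induction k with
          | zero => rw [pow_zero, pow_zero, pow_zero, Matrix.SpecialLinearGroup.coe_one]; exact Matrix.one_fin_two
          | succ k ih =>
            rw [pow_succ, Matrix.SpecialLinearGroup.coe_mul, ih]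
            show !![r₀ ^ k, 0; 0, r₀⁻¹ ^ k] * !![r₀, 0; 0, r₀⁻¹] = _
            rw [Matrix.mul_fin_two]; simp [pow_succ]
        refine Subtype.ext ?_
        rw [hp', FiniteField.pow_card_sub_one_eq_one _ hr₀0,
          FiniteField.pow_card_sub_one_eq_one _ (inv_ne_zero hr₀0)]
        exact Matrix.one_fin_two.symm
      show ((ρ.symm (diag2 r₀ hr₀0) : ↥(A ⊔ cj x A)) : H) ^ _ = 1
      rw [← Subgroup.coe_pow, ← map_pow, e, map_one]; rfl
    have h1 := hpow (Fintype.card K - 1)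
    rw [hord, show dm (1 : H) u = 0 by rw [dm_apply, one_smul, sub_self]] at h1
    obtain ⟨m, hm⟩ : p ∣ Fintype.card K := by
      haveI : CharP K (ringChar K) := ringChar.charP K
      obtain ⟨n, hn, hcard⟩ := FiniteField.card K (ringChar K)
      have hp' : ringChar K = p := by
        have h2 := (ringChar.spec K p).1 hpK
        exact ((Fact.out : p.Prime).eq_one_or_self_of_dvd _ h2).resolve_left hn.ne_one
      rw [hcard, hp']
      exact dvd_pow_self p n.pos.ne'
    have h2 : Fintype.card K • dm t₀ u = 0 := by rw [hm, mul_nsmul, h.hp, smul_zero]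
    conv_lhs => rw [← one_nsmul (dm t₀ u)]
    have h3 : (Fintype.card K - 1) • dm t₀ u + 1 • dm t₀ u = 0 := by
      rw [← add_nsmul, Nat.sub_add_cancel Fintype.card_pos, h2]
    rwa [← h1, zero_add] at h3
  have hsplit : ∀ v : V, ∃ c ∈ C0, ∃ u ∈ V1, c + u = v := by
    have hk : (dm t₀).ker = C0 := le_antisymm (fun v hv => hker v hv) fun v hv =>
      dm_eq_zero.2 (hC0fix _ (htL _ _) v hv)
    have e := AddSubgroup.card_eq_card_quotient_mul_card_addSubgroup (dm (V := V) t₀).ker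
    rw [Nat.card_congr (QuotientAddGroup.quotientKerEquivRange (dm (V := V) t₀)).toEquiv, hk, ← hV1] at e
    have e2 := card_sup_inf C0 V1
    rw [inf_comm C0 V1, hV1C0, AddSubgroup.card_bot, mul_one, mul_comm, ← e] at e2
    have : C0 ⊔ V1 = ⊤ := eq_top_of_card_ge e2.ge
    intro v
    exact AddSubgroup.mem_sup.1 (this.ge (AddSubgroup.mem_top v))
  have huniq : ∀ u ∈ V1, ∀ u' ∈ V1, ψ u = ψ u' → u = u' := fun u hu u' hu' e => by
    have hmem : u - u' ∈ V1 ⊓ C0 := ⟨V1.sub_mem hu hu', (hψk _).1 (by rw [map_sub, e, sub_self])⟩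
    rw [hV1C0, AddSubgroup.mem_bot, sub_eq_zero] at hmem
    exact hmem
  have hlift : ∀ y : Fin 2 → K, ∃ u ∈ V1, ψ u = y := fun y => by
    obtain ⟨v, rfl⟩ := hψs y
    obtain ⟨c, hc', u, hu, rfl⟩ := hsplit v
    exact ⟨u, hu, by rw [map_add, (hψk c).2 hc', zero_add]⟩
  choose ι hιV1 hιψ using hlift
  have hιadd : ∀ y z, ι (y + z) = ι y + ι z := fun y z =>
    huniq _ (hιV1 _) _ (V1.add_mem (hιV1 _) (hιV1 _)) (by rw [map_add, hιψ, hιψ, hιψ])
  have hι0 : ι 0 = 0 := huniq _ (hιV1 _) _ V1.zero_mem (by rw [hιψ, map_zero])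
  have hιeq : ∀ u ∈ V1, ι (ψ u) = u := fun u hu => huniq _ (hιV1 _) _ hu (hιψ _)
  have hdec : ∀ v : V, v - ι (ψ v) ∈ C0 := fun v =>
    (hψk _).1 (by rw [map_sub, hιψ, sub_self])
  -- elements of `(A ⊔ cj x A)` commuting or inverting with `t₀` preserve `V1`
  have htV1 : ∀ r hr, ∀ u ∈ V1, t r hr • u ∈ V1 := by
    rintro r hr _ ⟨u, rfl⟩
    refine ⟨t r hr • u, ?_⟩
    have e : t₀ * t r hr = t r hr * t₀ := by
      show ((ρ.symm (diag2 r₀ hr₀0) : ↥(A ⊔ cj x A)) : H) * (ρ.symm (diag2 r hr) : ↥(A ⊔ cj x A)) = _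
      rw [← Subgroup.coe_mul, ← map_mul]
      show _ = ((ρ.symm (diag2 r hr) : ↥(A ⊔ cj x A)) : H) * (ρ.symm (diag2 r₀ hr₀0) : ↥(A ⊔ cj x A))
      rw [← Subgroup.coe_mul, ← map_mul]
      congr 2
      refine Subtype.ext ?_
      show !![r₀, 0; 0, r₀⁻¹] * !![r, 0; 0, r⁻¹] = !![r, 0; 0, r⁻¹] * !![r₀, 0; 0, r₀⁻¹]
      rw [Matrix.mul_fin_two, Matrix.mul_fin_two]; simp [mul_comm]
    simp only [dm_apply, smul_sub, ← mul_smul, e]
  have hwV1 : ∀ u ∈ V1, w • u ∈ V1 := by
    rintro _ ⟨u, rfl⟩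
    have e : w * t₀ * w⁻¹ = t₀⁻¹ := by
      show ((ρ.symm (weyl2 K) : ↥(A ⊔ cj x A)) : H) * (ρ.symm (diag2 r₀ hr₀0) : ↥(A ⊔ cj x A)) * ((ρ.symm (weyl2 K) : ↥(A ⊔ cj x A)) : H)⁻¹ =
        ((ρ.symm (diag2 r₀ hr₀0) : ↥(A ⊔ cj x A)) : H)⁻¹
      rw [← Subgroup.coe_mul, ← Subgroup.coe_inv, ← Subgroup.coe_mul, ← Subgroup.coe_inv, ← map_inv,
        ← map_mul, ← map_mul, ← map_inv]
      congr 2
      rw [mul_inv_eq_iff_eq_mul]
      refine Subtype.ext ?_
      show !![0, 1; -1, 0] * !![r₀, 0; 0, r₀⁻¹] = Matrix.adjugate !![r₀, 0; 0, r₀⁻¹] * !![0, 1; -1, 0]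
      rw [Matrix.adjugate_fin_two_of, Matrix.mul_fin_two, Matrix.mul_fin_two]
      simp
    have h1 : dm (w * t₀ * w⁻¹) (w • u) = w • dm t₀ u := by rw [dm_conj, inv_smul_smul]
    rw [e, dm_inv] at h1
    show w • dm t₀ u ∈ V1
    rw [← h1]
    refine V1.neg_mem ⟨t₀⁻¹ • w • u, ?_⟩
    simp only [dm_apply, smul_sub, ← mul_smul, inv_mul_cancel_left, mul_inv_cancel_left,
      inv_mul_cancel, mul_inv_cancel, one_smul]
  have hιt : ∀ r hr y, t r hr • ι y = ι ![r * y 0, r⁻¹ * y 1] := fun r hr y =>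
    huniq _ (htV1 r hr _ (hιV1 y)) _ (hιV1 _) (by rw [htψ, hιψ, hιψ])
  have hιw : ∀ y, w • ι y = ι ![y 1, -y 0] := fun y =>
    huniq _ (hwV1 _ (hιV1 y)) _ (hιV1 _) (by rw [hwψ, hιψ, hιψ])
  -- the elements of `A`
  let α : K → H := fun k =>
    ((ρ.symm (Matrix.SpecialLinearGroup.transvection zero_ne_one_fin2 k) : ↥(A ⊔ cj x A)) : H)
  have hαA : ∀ k, α k ∈ A := hAin
  have hαψ : ∀ k (v : V), ψ (dm (α k) v) = ![k * ψ v 1, 0] := fun k v => by
    rw [dm_apply, map_sub,
      show ψ (α k • v) = _ from heq (ρ.symm (Matrix.SpecialLinearGroup.transvection zero_ne_one_fin2 k)) v,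
      MulEquiv.apply_symm_apply, TimmesfeldTI.transvection_mulVec_upper]
    funext i; fin_cases i <;> simp
  have hαconj : ∀ k r hr, t r hr * α k * (t r hr)⁻¹ = α (r * r * k) := by
    intro k r hr
    show ((ρ.symm (diag2 r hr) : ↥(A ⊔ cj x A)) : H) * (ρ.symm _ : ↥(A ⊔ cj x A)) * ((ρ.symm (diag2 r hr) : ↥(A ⊔ cj x A)) : H)⁻¹ = _
    rw [← Subgroup.coe_mul, ← Subgroup.coe_inv, ← Subgroup.coe_mul, ← map_inv, ← map_mul, ← map_mul]
    show _ = ((ρ.symm (Matrix.SpecialLinearGroup.transvection zero_ne_one_fin2 (r * r * k)) : ↥(A ⊔ cj x A)) : H)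
    congr 2
    rw [mul_inv_eq_iff_eq_mul]
    have hT : ∀ l : K, ((Matrix.SpecialLinearGroup.transvection zero_ne_one_fin2 l : SL(2, K)) :
        Matrix (Fin 2) (Fin 2) K) = !![1, l; 0, 1] := fun l => by
      ext i j
      fin_cases i <;> fin_cases j <;>
        simp [Matrix.SpecialLinearGroup.transvection, Matrix.transvection, Matrix.single]
    refine Subtype.ext ?_
    rw [Matrix.SpecialLinearGroup.coe_mul, Matrix.SpecialLinearGroup.coe_mul, hT, hT]
    show !![r, 0; 0, r⁻¹] * !![1, k; 0, 1] = !![1, r * r * k; 0, 1] * !![r, 0; 0, r⁻¹]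
    rw [Matrix.mul_fin_two, Matrix.mul_fin_two]
    simp [mul_comm r k, mul_assoc, mul_left_comm r, mul_inv_cancel₀ hr]
  -- `φ f` is the `C0`-part of the commutator of `α 1`
  let u₂ : K → V := fun f => ι ![0, f]
  let e₁ : K → V := fun e => ι ![e, 0]
  have hu₂ψ : ∀ f, ψ (u₂ f) = ![0, f] := fun f => hιψ _
  have he₁add : ∀ e e', e₁ (e + e') = e₁ e + e₁ e' := fun e e' => by
    show ι _ = ι _ + ι _
    rw [← hιadd]; congr 1; funext i; fin_cases i <;> simp
  have hu₂add : ∀ e e', u₂ (e + e') = u₂ e + u₂ e' := fun e e' => by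
    show ι _ = ι _ + ι _
    rw [← hιadd]; congr 1; funext i; fin_cases i <;> simp
  let φ : K → V := fun f => dm (α 1) (u₂ f) - e₁ f
  have hφadd : ∀ f f', φ (f + f') = φ f + φ f' := fun f f' => by
    simp only [φ, hu₂add, he₁add, map_add]; abel
  have hφC0 : ∀ f, φ f ∈ C0 := fun f => (hψk _).1 (by
    show ψ (dm (α 1) (u₂ f) - ι ![f, 0]) = 0
    rw [map_sub, hαψ, hu₂ψ, hιψ]; funext i; fin_cases i <;> simp)
  -- any subgroup containing the commutators of `A` contains `φ (r f) - φ (r² f)`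
  have hφdiff : ∀ I : AddSubgroup V, (∀ a ∈ A, ∀ v : V, dm a v ∈ I) →
      ∀ r : K, r ≠ 0 → ∀ f, φ (r * f) - φ (r * r * f) ∈ I := by
    intro I hI r hr f
    have h1 : dm (α (r * r * 1)) (u₂ f) = φ (r * f) + e₁ (r * r * f) := by
      rw [← hαconj 1 r hr, dm_conj]
      have e : (t r hr)⁻¹ • u₂ f = u₂ (r * f) := by
        rw [inv_smul_eq_iff, hιt]
        show ι _ = ι _
        congr 1; funext i; fin_cases i <;> simp [hr]
      rw [e, show dm (α 1) (u₂ (r * f)) = φ (r * f) + e₁ (r * f) from (sub_add_cancel _ _).symm,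
        smul_add, hC0fix _ (htL r hr) _ (hφC0 _), hιt]
      congr 2; funext i; fin_cases i <;> simp [mul_assoc]
    have h2 := I.sub_mem (hI _ (hαA (r * r * 1)) (u₂ f)) (hI _ (hαA 1) (u₂ (r * r * f)))
    rw [h1, show dm (α 1) (u₂ (r * r * f)) = φ (r * r * f) + e₁ (r * r * f) from
      (sub_add_cancel _ _).symm, add_sub_add_right_eq_sub] at h2
    exact h2
  have hconst : ∀ I : AddSubgroup V, (∀ f r : K, r ≠ 0 → φ (r * f) - φ f ∈ I) → ∀ f, φ f ∈ I := by
    intro I hI f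
    rcases eq_or_ne f 0 with rfl | hf
    · have : φ 0 = 0 := by
        have := hφadd 0 0
        rw [add_zero] at this
        exact left_eq_add.1 this
      rw [this]; exact I.zero_mem
    obtain ⟨e, he0, hne'⟩ : ∃ e : K, e ≠ 0 ∧ e + f ≠ 0 := by
      by_contra hcon
      push Not at hcon
      exact hr₀1 (mul_right_cancel₀ hf
        ((add_right_cancel ((hcon (r₀ * f) (mul_ne_zero hr₀0 hf)).trans (hcon f hf).symm)).trans
          (one_mul f).symm))
    have h1 := hI e ((e + f) / e) (div_ne_zero hne' he0)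
    rw [div_mul_cancel₀ _ he0, hφadd, add_sub_cancel_left] at h1
    exact h1
  have hshift : ∀ I : AddSubgroup V, (∀ r : K, r ≠ 0 → ∀ f, φ (r * f) - φ (r * r * f) ∈ I) →
      ∀ f r : K, r ≠ 0 → φ (r * f) - φ f ∈ I := by
    intro I hI f r hr
    have := hI r hr (r⁻¹ * f)
    rw [mul_assoc r r, ← mul_assoc r r⁻¹, mul_inv_cancel₀ hr, one_mul] at this
    exact neg_sub (φ f) (φ (r * f)) ▸ I.neg_mem this
  have hφWC : ∀ f, φ f ∈ WC := hconst WC (hshift WC (hφdiff WC hquadA))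
  have hEWC : ∀ e, e₁ e ∈ WC := fun e => by
    have h1 := hquadA _ (hαA 1) (u₂ e)
    rw [show dm (α 1) (u₂ e) = φ e + e₁ e from (sub_add_cancel _ _).symm] at h1
    simpa using WC.sub_mem h1 (hφWC e)
  have hWAdec : ∀ v ∈ WA, ι (ψ v) = e₁ (ψ v 0) := fun v hv => by
    show _ = ι _
    congr 1
    funext i
    fin_cases i
    · rfl
    · exact (hline v).1 hv
  have hιWA : ∀ v ∈ WA, ι (ψ v) ∈ WA ∧ ι (ψ v) ∈ WC := fun v hv =>
    ⟨(hline _).2 (by rw [hιψ]; exact (hline v).1 hv), hWAdec v hv ▸ hEWC _⟩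
  -- `C0` is not inside `fx C`, and together they span
  have hC0WC : C0 ⊔ WC = ⊤ := by
    refine top_le_iff.1 (htop.ge.trans (sup_le (fun v hv => ?_) le_sup_right))
    rw [show v = (v - ι (ψ v)) + ι (ψ v) from (sub_add_cancel _ _).symm]
    exact AddSubgroup.add_mem _ (AddSubgroup.mem_sup_left (hdec v)) (AddSubgroup.mem_sup_right (hιWA v hv).2)
  have hrange : ∀ c ∈ C, ∀ v : V, ∃ o ∈ C0, dm c v = dm c o := fun c hc' v => by
    obtain ⟨o, ho, y, hy, rfl⟩ := AddSubgroup.mem_sup.1 (hC0WC.ge (AddSubgroup.mem_top v))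
    exact ⟨o, ho, by rw [map_add, dm_eq_zero.2 (hy c hc'), add_zero]⟩
  by_cases hI : ∀ ω ∈ C0, ∀ c ∈ C, dm c ω ∈ C0
  · -- `C` normalises the other line, so centralises it
    have hnorm : C ≤ normalizer (cj x A : Set H) := fun c hc' =>
      h.mem_normalizer_of_smul (hA.cj x) fun v hv => by
        obtain ⟨o, ho, e⟩ := hrange c hc' v
        rw [show c • v = dm c v + v from (sub_add_cancel _ _).symm, e]
        refine AddSubgroup.add_mem _ ?_ hv
        exact fx_anti le_sup_right (hI o ho c hc')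
    exact le_centralizer_iff.1 (h.commute_of_normalizes hC (hA.cj x)
      (by rw [card_cj, hcardC]) hnorm)
  exfalso
  push Not at hI
  obtain ⟨ω, hω, c₁, hc₁, hc₁ω⟩ := hI
  -- the group `Y` stabilising `fx A ⊓ fx C`
  set D : AddSubgroup V := WA ⊓ WC with hD
  have hDmem : ∀ v, v ∈ D ↔ v - ι (ψ v) ∈ WC ∧ ψ v 1 = 0 := by
    intro v
    constructor
    · rintro ⟨hv, hv'⟩
      exact ⟨WC.sub_mem hv' (hιWA v hv).2, (hline v).1 hv⟩
    · rintro ⟨h1, h2⟩
      refine ⟨(hline v).2 h2, ?_⟩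
      have := WC.add_mem h1 (hιWA v ((hline v).2 h2)).2
      rwa [sub_add_cancel] at this
  have hYle : A ⊔ C ≤ stb D := sup_le
    (fun a ha => ⟨fun v hv => hv.1 a ha, fun v => ⟨h.quad hA ha v, hquadA a ha v⟩⟩)
    (fun c hc' => ⟨fun v hv => hv.2 c hc', fun v => ⟨hquadC c hc' v, h.quad hC hc' v⟩⟩)
  have hY : ∀ y ∈ stb (H := H) D, ∃ a ∈ A, ∃ c ∈ C, a * c = y := by
    intro y hy
    have hcard : Nat.card (A ⊔ C : Subgroup H) = Nat.card A * Nat.card C := by
      have e := Thompson.card_sup_mul_card_inf_of_comm hc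
      rwa [hinf, Subgroup.card_bot, mul_one] at e
    have hstb : stb (H := H) D = A ⊔ C := by
      refine (eq_of_le_of_card_ge hYle ?_).symm
      refine Nat.le_of_mul_le_mul_right (c := Nat.card D) ?_ Nat.card_pos
      rw [hcard, hexact]
      exact (Nat.mul_le_mul_left _ (card_le_of_le_add (le_fx_stb D))).trans
        (h.card_mul_fx_le (ea_stb h.hp D))
    rw [hstb, ← SetLike.mem_coe, Subgroup.coe_mul_of_left_le_normalizer_right A C
      (hc.trans (centralizer_le_normalizer _))] at hy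
    exact hy
  -- conjugation by the torus
  have htr : ∀ r hr, ∀ c ∈ C, ∃ a ∈ A, ∃ c' ∈ C,
      ∀ v : V, dm c' v + dm a v = t r hr • dm c ((t r hr)⁻¹ • v) := by
    intro r hr c hc'
    have htD : ∀ v ∈ D, t r hr • v ∈ D := by
      intro v hv
      obtain ⟨h1, h2⟩ := (hDmem v).1 hv
      refine (hDmem _).2 ⟨?_, by rw [htψ]; simp [h2]⟩
      have e : t r hr • v - ι (ψ (t r hr • v)) = v - ι (ψ v) := by
        conv_lhs => arg 1; rw [show v = (v - ι (ψ v)) + ι (ψ v) from (sub_add_cancel _ _).symm]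
        rw [smul_add, hC0fix _ (htL r hr) _ (hdec v), hιt, htψ, add_sub_cancel_right]
      rw [e]; exact h1
    have htD' : ∀ v ∈ D, (t r hr)⁻¹ • v ∈ D := by
      have hb : sm (t r hr) D = D := eq_of_le_of_card_ge_add
        (by rintro _ ⟨v, hv, rfl⟩; exact htD v hv) (card_sm _ _).ge
      intro v hv
      rw [← hb] at hv
      exact mem_sm.1 hv
    have hcD : c ∈ stb D := hYle (mem_sup_right hc')
    have hy : t r hr * c * (t r hr)⁻¹ ∈ stb D := by
      refine ⟨fun v hv => ?_, fun v => ?_⟩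
      · rw [mul_smul, mul_smul, hcD.1 _ (htD' v hv), smul_inv_smul]
      · rw [dm_conj]; exact htD _ (hcD.2 _)
    obtain ⟨a, ha, c', hc'', e⟩ := hY _ hy
    refine ⟨a, ha, c', hc'', fun v => ?_⟩
    rw [← dm_conj, ← e, dm_mul_stb (hYle (mem_sup_left ha)) (hYle (mem_sup_right hc''))]
  -- every element of `C` sends `C0` into the line
  have hline_of : ∀ o ∈ C0, (∃ c ∈ C, dm c o ∉ C0) → ∀ c ∈ C, dm c o ∈ V1 := by
    rintro o ho ⟨c, hc', hco⟩
    have hoW : o ∉ WC := fun hm => hco (by rw [dm_eq_zero.2 (hm c hc')]; exact C0.zero_mem)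
    have hinj : ∀ c ∈ C, ∀ c' ∈ C, dm c o = dm c' o → c = c' := by
      intro c hc c' hc' e
      by_contra hne
      refine hoW (h.regular hC (mul_mem (inv_mem hc') hc) (fun e' => hne (inv_mul_eq_one.1 e').symm) ?_)
      rw [mul_smul, (sub_left_injective e : c • o = c' • o), inv_smul_smul]
    have hmove : ∀ r hr, ∀ c ∈ C, ∃ c' ∈ C, dm c' o = t r hr • dm c o := by
      intro r hr c hc'
      obtain ⟨a, ha, c', hc'', e⟩ := htr r hr c hc'
      refine ⟨c', hc'', ?_⟩
      have := e o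
      rwa [dm_eq_zero.2 (hC0WA ho a ha), add_zero, inv_smul_eq_iff.2 (hC0fix _ (htL r hr) o ho).symm] at this
    let Kc : AddSubgroup K :=
      { carrier := {k | ∃ c ∈ C, dm c o = e₁ k}
        zero_mem' := ⟨1, one_mem _, by
          rw [dm_apply, one_smul, sub_self]
          show 0 = ι _
          rw [show (![0, 0] : Fin 2 → K) = 0 by funext i; fin_cases i <;> rfl, hι0]⟩
        add_mem' := by
          rintro k k' ⟨c, hc, e⟩ ⟨c', hc', e'⟩
          refine ⟨c * c', mul_mem hc hc', ?_⟩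
          rw [dm_mul_stb (hYle (mem_sup_right hc)) (hYle (mem_sup_right hc')), e, e', he₁add, add_comm]
        neg_mem' := by
          rintro k ⟨c, hc, e⟩
          refine ⟨c⁻¹, inv_mem hc, ?_⟩
          rw [dm_inv, h.quad hC hc o c⁻¹ (inv_mem hc), e]
          refine (neg_eq_of_add_eq_zero_right ?_)
          rw [← he₁add, add_neg_cancel]
          show ι _ = 0
          rw [show (![0, 0] : Fin 2 → K) = 0 by funext i; fin_cases i <;> rfl, hι0] }
    have hmem : ∀ c ∈ C, dm c o ∈ V1 → ψ (dm c o) 0 ∈ Kc := fun c hc hV => ⟨c, hc, by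
      conv_lhs => rw [← hιeq _ hV, hWAdec _ (hquadC c hc o)]⟩
    obtain ⟨k₀, hk₀, hk₀0⟩ : ∃ k ∈ Kc, k ≠ 0 := by
      obtain ⟨c', hc'', e⟩ := hmove r₀ hr₀0 c hc'
      have hd : dm (c' * c⁻¹) o = dm t₀ (dm c o) := by
        rw [dm_mul_stb (hYle (mem_sup_right hc'')) (hYle (mem_sup_right (inv_mem hc'))), e, dm_inv,
          h.quad hC hc' o c⁻¹ (inv_mem hc'), dm_apply t₀]
        abel
      refine ⟨_, hmem _ (mul_mem hc'' (inv_mem hc')) (hd ▸ ⟨_, rfl⟩), fun h0 => ?_⟩
      rw [hd, dm_apply, map_sub, htψ] at h0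
      simp only [Pi.sub_apply, Matrix.cons_val_zero] at h0
      refine hco ((hψk _).1 (funext fun i => ?_))
      fin_cases i
      · by_contra hne
        exact hr₀1 (mul_right_cancel₀ hne ((sub_eq_zero.1 h0).trans (one_mul _).symm))
      · exact (hline _).1 (hquadC c hc' o)
    have hall : ∀ k : K, k ∈ Kc := by
      intro k
      rcases eq_or_ne k 0 with rfl | hk
      · exact Kc.zero_mem
      obtain ⟨c', hc'', e⟩ := hk₀
      obtain ⟨d, hd, hd'⟩ := hmove (k / k₀) (div_ne_zero hk hk₀0) c' hc''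
      refine ⟨d, hd, ?_⟩
      rw [hd', e, hιt]
      congr 1; funext i; fin_cases i <;> simp [hk₀0]
    choose g hg hg' using hall
    have hb : Function.Bijective (fun k : K => (⟨g k, hg k⟩ : C)) := by
      refine (Nat.bijective_iff_injective_and_card _).2 ⟨fun k k' e => ?_, ?_⟩
      · have e3 : g k = g k' := congrArg Subtype.val e
        have e2 : e₁ k = e₁ k' := by rw [← hg' k, ← hg' k', e3]
        have := congrFun (congrArg ψ e2) 0
        simp only [e₁, hιψ] at this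
        simpa using this
      · rw [Nat.card_eq_fintype_card, hK, hcardC]
    intro d hd
    obtain ⟨k, hk⟩ := hb.2 ⟨d, hd⟩
    have e3 : g k = d := congrArg Subtype.val hk
    rw [← e3, hg' k]
    exact hιV1 _
  have hωE := hline_of ω hω ⟨c₁, hc₁, hc₁ω⟩
  have hωW : ω ∉ WC := fun hm => hc₁ω (by rw [dm_eq_zero.2 (hm c₁ hc₁)]; exact C0.zero_mem)
  have hpure : ∀ c ∈ C, ∀ o ∈ C0, dm c o ∈ V1 := by
    intro c hc' o ho
    by_cases hex : ∃ c ∈ C, dm c o ∉ C0
    · exact hline_of o ho hex c hc'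
    push Not at hex
    have hsum : dm c₁ (ω + o) ∉ C0 := fun hm => hc₁ω (by
      rw [map_add] at hm; simpa using C0.sub_mem hm (hex c₁ hc₁))
    have h1 := hline_of (ω + o) (C0.add_mem hω ho) ⟨c₁, hc₁, hsum⟩ c hc'
    rw [map_add] at h1
    simpa using V1.sub_mem h1 (hωE c hc')
  have hCrange : ∀ c ∈ C, ∀ v : V, dm c v = e₁ (ψ (dm c v) 0) := by
    intro c hc' v
    obtain ⟨o, ho, e⟩ := hrange c hc' v
    rw [e]
    conv_lhs => rw [← hιeq _ (hpure c hc' o ho), hWAdec _ (hquadC c hc' o)]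
  -- hence `[V, A]` has order `q` and lies in `V1`
  set IA : AddSubgroup V := ⨆ a : A, (dm (a : H)).range with hIA
  have hIAle : ∀ a ∈ A, ∀ v : V, dm a v ∈ IA := fun a ha v =>
    (le_iSup (fun a : A => (dm (a : H)).range) ⟨a, ha⟩) ⟨v, rfl⟩
  let E : AddSubgroup V :=
    { carrier := Set.range e₁
      zero_mem' := ⟨0, by
        show ι _ = 0
        rw [show (![0, 0] : Fin 2 → K) = 0 by funext i; fin_cases i <;> rfl, hι0]⟩
      add_mem' := by rintro _ _ ⟨k, rfl⟩ ⟨k', rfl⟩; exact ⟨k + k', he₁add k k'⟩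
      neg_mem' := by
        rintro _ ⟨k, rfl⟩
        refine ⟨-k, eq_neg_of_add_eq_zero_left ?_⟩
        rw [← he₁add, neg_add_cancel]
        show ι _ = 0
        rw [show (![0, 0] : Fin 2 → K) = 0 by funext i; fin_cases i <;> rfl, hι0] }
  have hIAg : IA ≤ sm g⁻¹ E := by
    refine iSup_le fun a => ?_
    rintro _ ⟨v, rfl⟩
    rw [mem_sm, inv_inv]
    refine ⟨ψ (dm (g * (a : H) * g⁻¹) (g • v)) 0, ?_⟩
    rw [← hCrange _ (conj_mem_cj a.2) (g • v), dm_conj, inv_smul_smul]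
  have hcardE : Nat.card E ≤ Fintype.card K := by
    rw [← Nat.card_eq_fintype_card]
    exact Nat.card_le_card_of_surjective (fun k => (⟨e₁ k, k, rfl⟩ : E))
      fun ⟨_, k, rfl⟩ => ⟨k, rfl⟩
  let β : K → IA := fun f => ⟨dm (α 1) (u₂ f), hIAle _ (hαA 1) _⟩
  have hβψ : ∀ f, ψ (dm (α 1) (u₂ f)) 0 = f := fun f => by rw [hαψ, hu₂ψ]; simp
  have hβ : Function.Bijective β := by
    have hinj : Function.Injective β := fun f f' e => by
      have e3 : dm (α 1) (u₂ f) = dm (α 1) (u₂ f') := congrArg Subtype.val e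
      rw [← hβψ f, ← hβψ f', e3]
    refine (Nat.bijective_iff_injective_and_card _).2 ⟨hinj, le_antisymm ?_ ?_⟩
    · exact Nat.card_le_card_of_injective β hinj
    · rw [Nat.card_eq_fintype_card (α := K)]
      exact ((card_le_of_le_add hIAg).trans (card_sm _ _).le).trans hcardE
  have hIAψ : ∀ v ∈ IA, ψ v 0 = 0 → v = 0 := by
    intro v hv h0
    obtain ⟨f, hf⟩ := hβ.2 ⟨v, hv⟩
    have ev : dm (α 1) (u₂ f) = v := congrArg Subtype.val hf
    rw [← ev] at h0 ⊢
    rw [hβψ] at h0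
    subst h0
    rw [show u₂ 0 = ι 0 by show ι _ = _; congr 1; funext i; fin_cases i <;> rfl, hι0, map_zero]
  have hφ0 : ∀ f, φ f = 0 := by
    intro f
    refine (AddSubgroup.mem_bot).1 (hconst ⊥ (hshift ⊥ fun r hr f => ?_) f)
    rw [AddSubgroup.mem_bot]
    refine hIAψ _ (hφdiff IA hIAle r hr f) ?_
    rw [map_sub, (hψk _).2 (hφC0 _), (hψk _).2 (hφC0 _), sub_self]; rfl
  have hαu : ∀ k f, dm (α k) (u₂ f) = e₁ (k * f) := by
    intro k f
    refine sub_eq_zero.1 (hIAψ _ (IA.sub_mem (hIAle _ (hαA k) _) ?_) ?_)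
    · have := hIAle _ (hαA 1) (u₂ (k * f))
      rwa [show dm (α 1) (u₂ (k * f)) = φ (k * f) + e₁ (k * f) from (sub_add_cancel _ _).symm,
        hφ0, zero_add] at this
    · rw [map_sub, hαψ, hu₂ψ, hιψ]; simp
  -- the parameters of the elements of `C`
  let π : H → K := fun c => ψ (dm c ω) 0
  let σ : H → K → K := fun c f => ψ (dm c (u₂ f)) 0
  have hπ : Function.Bijective (fun c : C => π c) := by
    refine (Nat.bijective_iff_injective_and_card _).2 ⟨fun c c' e => ?_, ?_⟩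
    · by_contra hne'
      refine hωW (h.regular hC (mul_mem (inv_mem c'.2) c.2)
        (fun e' => hne' (Subtype.ext (inv_mul_eq_one.1 e').symm)) ?_)
      have e2 : dm (c : H) ω = dm (c' : H) ω := by
        rw [hCrange _ c.2, hCrange _ c'.2]; exact congrArg e₁ e
      rw [mul_smul, (sub_left_injective e2 : (c : H) • ω = (c' : H) • ω), inv_smul_smul]
    · rw [Nat.card_eq_fintype_card (α := K), hK, hcardC]
  choose cc hcc0 using hπ.2
  have hcc : ∀ k, π (cc k) = k := hcc0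
  have hσmul : ∀ c ∈ C, ∀ c' ∈ C, ∀ f, σ (c * c') f = σ c f + σ c' f := fun c hc c' hc' f => by
    show ψ (dm _ _) 0 = _
    rw [dm_mul_stb (hYle (mem_sup_right hc)) (hYle (mem_sup_right hc')), map_add, Pi.add_apply, add_comm]
  let τ' : K → K → K := fun k f => σ (cc k) f - f * σ (cc k) 1
  have hτk : ∀ k k' f, τ' (k + k') f = τ' k f + τ' k' f := by
    intro k k' f
    have e : ((cc k : H) * cc k') = (cc (k + k') : H) := by
      refine congrArg Subtype.val (hπ.1 (a₁ := cc k * cc k') ?_)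
      show π _ = π _
      rw [hcc (k + k')]
      show ψ (dm ((cc k : H) * cc k') ω) 0 = _
      rw [dm_mul_stb (hYle (mem_sup_right (cc k).2)) (hYle (mem_sup_right (cc k').2)), map_add,
        Pi.add_apply]
      exact (add_comm _ _).trans (congrArg₂ (· + ·) (hcc k) (hcc k'))
    simp only [τ', ← e, hσmul _ (cc k).2 _ (cc k').2]
    ring
  have hτr : ∀ r : K, ∀ f, τ' r f = r * τ' 1 (r * f) - f * (r * τ' 1 r) := by
    intro r f
    rcases eq_or_ne r 0 with rfl | hr
    · have := hτk 0 0 f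
      rw [add_zero] at this
      rw [left_eq_add.1 this]; ring
    obtain ⟨a, ha, c', hc', e⟩ := htr r hr (cc 1) (cc 1).2
    obtain ⟨s, hs⟩ := hAout a ha
    have ec : c' = (cc r : H) := by
      refine congrArg Subtype.val (hπ.1 (a₁ := ⟨c', hc'⟩) ?_)
      show π c' = π _
      rw [hcc r]
      have := congrArg (fun v => ψ v 0) (e ω)
      simp only [dm_eq_zero.2 (hC0WA hω a ha), add_zero, inv_smul_eq_iff.2 (hC0fix _ (htL r hr) ω hω).symm,
        htψ, Matrix.cons_val_zero] at this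
      rw [show ψ (dm ((cc 1 : C) : H) ω) 0 = 1 from hcc 1, mul_one] at this
      exact this
    have hσr : ∀ f, σ (cc r) f + s * f = r * σ (cc 1) (r * f) := by
      intro f
      have h1 := e (u₂ f)
      rw [ec, show dm a (u₂ f) = e₁ (s * f) from hs ▸ hαu s f] at h1
      have e3 : (t r hr)⁻¹ • u₂ f = u₂ (r * f) := by
        rw [inv_smul_eq_iff, hιt]
        show ι _ = ι _
        congr 1; funext i; fin_cases i <;> simp [hr]
      rw [e3] at h1
      have := congrArg (fun v => ψ v 0) h1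
      simp only [map_add, Pi.add_apply, htψ, Matrix.cons_val_zero, e₁, hιψ] at this
      exact this
    have h1 := hσr f
    have h2 := hσr 1
    rw [mul_one r] at h2
    simp only [τ']
    linear_combination h1 - f * h2
  let τ : K →+ K := AddMonoidHom.mk' (τ' 1) fun f f' => by
    simp only [τ', σ, hu₂add, map_add, Pi.add_apply]; ring
  have hτ0 : τ = 0 := tau_eq_zero hpK τ (by show τ' 1 1 = 0; simp only [τ']; ring) fun r s f => by
    show (r + s) * τ' 1 ((r + s) * f) - f * ((r + s) * τ' 1 (r + s)) =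
      r * τ' 1 (r * f) - f * (r * τ' 1 r) + (s * τ' 1 (s * f) - f * (s * τ' 1 s))
    have e := hτk r s f
    rw [hτr (r + s) f, hτr r f, hτr s f] at e
    exact e
  have hlin : ∀ k f, σ (cc k) f = f * σ (cc k) 1 := by
    intro k f
    have h1 := hτr k f
    rw [show τ' 1 (k * f) = 0 from DFunLike.congr_fun hτ0 _,
      show τ' 1 k = 0 from DFunLike.congr_fun hτ0 _] at h1
    simp only [τ'] at h1
    linear_combination h1
  -- so some `y ∈ Y` fixes `V1` and moves `ω` along the line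
  set D2 : AddSubgroup V := V1 ⊔ (C0 ⊓ WC) with hD2
  let y : K → H := fun k => (α (σ (cc k) 1))⁻¹ * (cc k : H)
  have hy : ∀ k, (∀ v ∈ D2, y k • v = v) ∧ (∀ v, dm (y k) v ∈ V1) ∧ dm (y k) ω = e₁ k := by
    intro k
    set a := α (σ (cc k) 1) with ha
    have hinv : ∀ v : V, dm a⁻¹ v = -dm a v := fun v => by
      rw [dm_inv, h.quad hA (hαA _) v a⁻¹ (inv_mem (hαA _))]
    have hd : ∀ v : V, dm (y k) v = dm (cc k : H) v - dm a v := fun v => by
      show dm (a⁻¹ * (cc k : H)) v = _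
      rw [dm_mul, hquadC _ (cc k).2 v a⁻¹ (inv_mem (hαA _)), hinv]
      abel
    have hfixV1 : ∀ v ∈ V1, dm (y k) v = (0 : V) := by
      intro v hv
      rw [← hιeq v hv, show ψ v = ![ψ v 0, 0] + ![0, ψ v 1] by funext i; fin_cases i <;> simp,
        hιadd, map_add, hd, hd, dm_eq_zero.2 (hEWC (ψ v 0) _ (cc k).2),
        dm_eq_zero.2 ((hline _).2 (by simp only [hιψ]; simp) a (hαA _) : a • ι ![ψ v 0, 0] = ι ![ψ v 0, 0]),
        sub_zero, zero_add]
      show dm (cc k : H) (u₂ (ψ v 1)) - dm a (u₂ (ψ v 1)) = 0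
      rw [hαu, hCrange _ (cc k).2]
      show e₁ (σ (cc k) (ψ v 1)) - _ = 0
      rw [hlin, mul_comm, sub_self]
    refine ⟨fun v hv => dm_eq_zero.1 ?_, fun v => ?_, ?_⟩
    · obtain ⟨u, hu, z, hz, rfl⟩ := AddSubgroup.mem_sup.1 hv
      rw [map_add, hfixV1 u hu, hd, dm_eq_zero.2 (hz.2 _ (cc k).2),
        dm_eq_zero.2 (hC0WA hz.1 a (hαA _)), sub_self, add_zero]
    · rw [hd]
      refine V1.sub_mem (hCrange _ (cc k).2 v ▸ hιV1 _) ?_
      obtain ⟨o, ho, u, hu, rfl⟩ := hsplit v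
      rw [map_add, dm_eq_zero.2 (hC0WA ho a (hαA _)), zero_add, ← hιeq u hu,
        show ψ u = ![ψ u 0, 0] + ![0, ψ u 1] by funext i; fin_cases i <;> simp, hιadd, map_add,
        dm_eq_zero.2 ((hline _).2 (by simp only [hιψ]; simp) a (hαA _) : a • ι ![ψ u 0, 0] = ι ![ψ u 0, 0]),
        zero_add]
      exact (hαu _ _).symm ▸ hιV1 _
    · rw [hd, dm_eq_zero.2 (hC0WA hω a (hαA _)), sub_zero, hCrange _ (cc k).2]
      exact congrArg e₁ (hcc k)
  have hyΦ : ∀ k, y k ∈ stb D2 := fun k => ⟨(hy k).1, fun v => AddSubgroup.mem_sup_left ((hy k).2.1 v)⟩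
  have hwC0 : ∀ v ∈ C0, w • v = v := fun v hv => hC0fix w (ρ.symm (weyl2 K)).2 v hv
  have hyw : ∀ k, w * y k * w⁻¹ ∈ stb D2 := by
    intro k
    have hwD2 : ∀ v ∈ D2, w • v ∈ D2 := by
      intro v hv
      obtain ⟨u, hu, z, hz, rfl⟩ := AddSubgroup.mem_sup.1 hv
      rw [smul_add, hwC0 z hz.1]
      exact AddSubgroup.add_mem _ (AddSubgroup.mem_sup_left (hwV1 u hu)) (AddSubgroup.mem_sup_right hz)
    have hwD2' : ∀ v ∈ D2, w⁻¹ • v ∈ D2 := by
      have hb : sm w D2 = D2 := eq_of_le_of_card_ge_add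
        (by rintro _ ⟨v, hv, rfl⟩; exact hwD2 v hv) (card_sm _ _).ge
      intro v hv
      rw [← hb] at hv
      exact mem_sm.1 hv
    refine ⟨fun v hv => ?_, fun v => ?_⟩
    · rw [mul_smul, mul_smul, (hy k).1 _ (hwD2' v hv), smul_inv_smul]
    · rw [dm_conj]; exact hwD2 _ ((hyΦ k).2 _)
  have hval : ∀ k k', dm (y k * (w * y k' * w⁻¹)) ω = ι ![k, -k'] := by
    intro k k'
    rw [dm_mul_stb (hyΦ k) (hyw k'), (hy k).2.2, dm_conj, inv_smul_eq_iff.2 (hwC0 ω hω).symm,
      (hy k').2.2, hιw, ← hιadd]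
    congr 1; funext i; fin_cases i <;> simp
  have hbig : Fintype.card K * Fintype.card K ≤ Nat.card (stb (H := H) D2) := by
    rw [← Fintype.card_prod, ← Nat.card_eq_fintype_card]
    refine Nat.card_le_card_of_injective
      (fun kk => (⟨y kk.1 * (w * y kk.2 * w⁻¹), mul_mem (hyΦ _) (hyw _)⟩ : stb (H := H) D2)) ?_
    rintro ⟨k, k'⟩ ⟨l, l'⟩ e
    have := congrArg ψ ((hval k k').symm.trans ((congrArg (fun z => dm z ω) (congrArg Subtype.val e :)).trans (hval l l')))
    simp only [hιψ] at this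
    have h0 := congrFun this 0
    have h1 := congrFun this 1
    simp at h0 h1
    exact Prod.ext h0 h1
  have hD2card : Nat.card V ≤ Fintype.card K * Nat.card D2 := by
    have e1 := card_sup_inf C0 WC
    rw [hC0WC, card_top_add] at e1
    have e2 := card_sup_inf C0 V1
    have hC0V1 : C0 ⊔ V1 = ⊤ := top_le_iff.1 fun v _ => by
      obtain ⟨c, hc', u, hu, rfl⟩ := hsplit v
      exact AddSubgroup.add_mem _ (AddSubgroup.mem_sup_left hc') (AddSubgroup.mem_sup_right hu)
    rw [hC0V1, card_top_add, inf_comm C0 V1, hV1C0, AddSubgroup.card_bot, mul_one] at e2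
    have e3 := card_sup_inf V1 (C0 ⊓ WC)
    rw [← hD2, show V1 ⊓ (C0 ⊓ WC) = ⊥ from le_bot_iff.1
      ((inf_le_inf_left _ inf_le_left).trans hV1C0.le), AddSubgroup.card_bot, mul_one] at e3
    rw [e3, hK, ← hcardC]
    refine Nat.le_of_mul_le_mul_right (c := Nat.card WC) ?_ Nat.card_pos
    calc Nat.card V * Nat.card WC = (Nat.card C0 * Nat.card WC) * Nat.card V1 := by rw [e2]; ring
      _ = Nat.card V * Nat.card (C0 ⊓ WC : AddSubgroup V) * Nat.card V1 := by rw [← e1]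
      _ = Nat.card C * Nat.card WC * Nat.card (C0 ⊓ WC : AddSubgroup V) * Nat.card V1 := by
          rw [h.moff_exact hC]
      _ ≤ _ := le_of_eq (by ring)
  have hE := (Nat.mul_le_mul_left _ (card_le_of_le_add (le_fx_stb (H := H) D2))).trans
    (h.card_mul_fx_le (ea_stb (H := H) h.hp D2))
  have h4 : Fintype.card K * Fintype.card K * Nat.card D2 ≤ Fintype.card K * Nat.card D2 :=
    ((Nat.mul_le_mul_right _ hbig).trans hE).trans hD2card
  have := Nat.le_of_mul_le_mul_right h4 Nat.card_pos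
  have h5 : 1 < Fintype.card K := Fintype.one_lt_card
  nlinarith

end Cfsg.Agent.FFStruct
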