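import Cfsg.Agent.FFStruct.Struct
import Cfsg.Prelude.Def_BaumannBlocks

/-!
# From modules to subgroups
-/

set_option autoImplicit false
set_option linter.unusedSectionVars false
set_option linter.style.haveILetI false

namespace Cfsg.Agent.FFStruct

open Subgroup
open scoped Pointwise MatrixGroups IsMulCommutative commutatorElement

/-- The hypothesis on the centraliser of fixed points for one Sylow subgroup suffices. -/
theorem Amb.of_one {H : Type*} [Group H] {V : Type*} [AddCommGroup V] [DistribMulAction H V]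
    [Finite H] {p : ℕ} [Fact p.Prime] (hp : ∀ v : V, p • v = 0) (hmin : Cfsg.IsPMinimal p H)
    (hOp : Cfsg.pCore p H = ⊥) (T : Sylow p H) (M : Subgroup H) (hM : IsCoatom M)
    (hTM : (T : Subgroup H) ≤ M)
    (hC : ∀ h : H, (∀ z ∈ fx (V := V) (T : Subgroup H), h • z = z) → h ∈ M) : Amb H V p := by
  refine ⟨hp, hmin, hOp, fun T' M' hM' hT' h hh => ?_⟩
  obtain ⟨g, rfl⟩ := MulAction.exists_smul_eq H T T'
  have e : M' = cj g M := (hmin (g • T)).2.unique ⟨hM', hT'⟩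
    ⟨((MulAut.conj g).mapSubgroup.isCoatom_iff M).2 hM, by
      rw [Sylow.coe_subgroup_smul]; exact cj_mono g hTM⟩
  rw [e, mem_cj]
  refine hC _ fun z hz => ?_
  have h1 : h • g • z = g • z := hh _ (by
    rw [Sylow.coe_subgroup_smul]
    show g • z ∈ fx (cj g (T : Subgroup H))
    rw [fx_cj]; exact smul_mem_sm hz)
  rw [mul_smul, mul_smul, h1, inv_smul_smul]

variable {G : Type*} [Group G] {P V : Subgroup G} {H : Type*} [Group H] (π : ↥P →* H)

/-- The subgroup of `G` over a subgroup of the image. -/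
def lift (X : Subgroup H) : Subgroup G := (X.comap π).map P.subtype

theorem mem_lift {X : Subgroup H} {e : G} : e ∈ lift π X ↔ ∃ he : e ∈ P, π ⟨e, he⟩ ∈ X := by
  constructor
  · rintro ⟨x, hx, rfl⟩; exact ⟨x.2, hx⟩
  · rintro ⟨he, hx⟩; exact ⟨⟨e, he⟩, hx, rfl⟩

theorem lift_le (X : Subgroup H) : lift π X ≤ P := map_subtype_le _

theorem lift_mono {X Y : Subgroup H} (h : X ≤ Y) : lift π X ≤ lift π Y := map_mono (comap_mono h)

theorem lift_inf (X Y : Subgroup H) : lift π (X ⊓ Y) = lift π X ⊓ lift π Y := by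
  rw [lift, comap_inf, map_inf _ _ _ P.subtype_injective]; rfl

theorem lift_top : lift π ⊤ = P := by
  rw [lift, comap_top, ← MonoidHom.range_eq_map, range_subtype]

theorem lift_sup (hπ : Function.Surjective π) (X Y : Subgroup H) :
    lift π (X ⊔ Y) = lift π X ⊔ lift π Y := by
  rw [lift, lift, lift, ← Subgroup.map_sup, comap_sup_eq π X Y hπ]

theorem lift_iSup (hπ : Function.Surjective π) {ι : Sort*} [Nonempty ι] (X : ι → Subgroup H) :
    lift π (⨆ i, X i) = ⨆ i, lift π (X i) := by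
  simp only [lift, ← Subgroup.map_iSup]
  congr 1
  have h1 : ((⨆ i, (X i).comap π) : Subgroup ↥P).map π = ⨆ i, X i := by
    rw [Subgroup.map_iSup]
    exact iSup_congr fun i => map_comap_eq_self_of_surjective hπ _
  conv_lhs => rw [← h1, comap_map_eq]
  exact sup_eq_left.2 ((π.ker_le_comap (X (Classical.arbitrary ι))).trans (le_iSup (fun i => (X i).comap π) _))

theorem lift_cj (e : ↥P) (X : Subgroup H) :
    lift π (cj (π e) X) = (lift π X).map (MulAut.conj (e : G)).toMonoidHom := by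
  ext g
  rw [mem_lift, mem_cj, mem_lift]
  constructor
  · rintro ⟨hg, hx⟩
    rw [mem_cj, ← map_inv, ← map_mul, ← map_mul] at hx
    exact ⟨mul_mem (mul_mem (inv_mem e.2) hg) e.2, hx⟩
  · rintro ⟨hy, hx⟩
    have hg : g ∈ P := by
      have := mul_mem (mul_mem e.2 hy) (inv_mem e.2)
      simpa [mul_assoc] using this
    refine ⟨hg, ?_⟩
    rw [mem_cj, ← map_inv, ← map_mul, ← map_mul]
    exact hx

/-- The projection of a lift. -/
def liftHom (X : Subgroup H) : ↥(lift π X) →* ↥X where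
  toFun e := ⟨π ⟨e, lift_le π X e.2⟩, ((mem_lift π).1 e.2).2⟩
  map_one' := Subtype.ext (map_one π)
  map_mul' x y := Subtype.ext (map_mul π ⟨x, lift_le π X x.2⟩ ⟨y, lift_le π X y.2⟩)

theorem liftHom_surjective (hπ : Function.Surjective π) (X : Subgroup H) :
    Function.Surjective (liftHom π X) := by
  rintro ⟨x, hx⟩
  obtain ⟨e, rfl⟩ := hπ x
  exact ⟨⟨e, (mem_lift π).2 ⟨e.2, hx⟩⟩, Subtype.ext rfl⟩

theorem liftHom_ker (X : Subgroup H) :
    (liftHom π X).ker = (lift π ⊥).subgroupOf (lift π X) := by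
  ext e
  rw [MonoidHom.mem_ker, mem_subgroupOf, mem_lift]
  exact ⟨fun h => ⟨lift_le π X e.2, mem_bot.2 (congrArg Subtype.val h :)⟩,
    fun ⟨_, h⟩ => Subtype.ext (mem_bot.1 h)⟩

variable [IsMulCommutative V] [DistribMulAction H (Additive ↥V)]

/-- The subgroup of `G` of a submodule. -/
def toG (I : AddSubgroup (Additive ↥V)) : Subgroup G := (AddSubgroup.toSubgroup' I).map V.subtype

theorem mem_toG {I : AddSubgroup (Additive ↥V)} {g : G} :
    g ∈ toG I ↔ ∃ hg : g ∈ V, Additive.ofMul (⟨g, hg⟩ : ↥V) ∈ I := by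
  constructor
  · rintro ⟨v, hv, rfl⟩; exact ⟨v.2, hv⟩
  · rintro ⟨hg, hv⟩; exact ⟨⟨g, hg⟩, hv, rfl⟩

theorem toG_sup (I J : AddSubgroup (Additive ↥V)) : toG (I ⊔ J) = toG I ⊔ toG J := by
  rw [toG, OrderIso.map_sup, Subgroup.map_sup]; rfl

theorem toG_iSup {ι : Sort*} (I : ι → AddSubgroup (Additive ↥V)) :
    toG (⨆ i, I i) = ⨆ i, toG (I i) := by
  rw [toG, OrderIso.map_iSup, Subgroup.map_iSup]; rfl

theorem toG_top : toG (⊤ : AddSubgroup (Additive ↥V)) = V := by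
  rw [toG, OrderIso.map_top, ← MonoidHom.range_eq_map, range_subtype]

/-- The action is conjugation. -/
def IsConj (π : ↥P →* H) (V : Subgroup G) [IsMulCommutative V] [DistribMulAction H (Additive ↥V)] :
    Prop :=
  ∀ (e : ↥P) (v : Additive ↥V),
    ((Additive.toMul (π e • v) : ↥V) : G) = (e : G) * ((Additive.toMul v : ↥V) : G) * (e : G)⁻¹

variable {π}

theorem mem_fx_iff (hπ : Function.Surjective π) (hc : IsConj π V) {X : Subgroup H}
    {v : Additive ↥V} :
    v ∈ fx X ↔ ((Additive.toMul v : ↥V) : G) ∈ centralizer (lift π X : Set G) := by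
  rw [mem_fx, mem_centralizer_iff]
  constructor
  · intro h g hg
    obtain ⟨hgP, hgX⟩ := (mem_lift π).1 hg
    have e := hc ⟨g, hgP⟩ v
    rw [h _ hgX] at e
    exact mul_inv_eq_iff_eq_mul.1 e.symm
  · intro h x hx
    obtain ⟨e, rfl⟩ := hπ x
    refine Additive.toMul.injective (Subtype.ext ?_)
    rw [hc e v, h _ ((mem_lift π).2 ⟨e.2, hx⟩), mul_inv_cancel_right]

theorem toG_fx (hπ : Function.Surjective π) (hc : IsConj π V) (X : Subgroup H) :
    toG (fx (V := Additive ↥V) X) = V ⊓ centralizer (lift π X : Set G) := by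
  ext g
  rw [mem_toG, mem_inf]
  constructor
  · rintro ⟨hg, h⟩; exact ⟨hg, (mem_fx_iff hπ hc).1 h⟩
  · rintro ⟨hg, h⟩; exact ⟨hg, (mem_fx_iff hπ hc).2 h⟩

theorem toG_cm (hπ : Function.Surjective π) (hc : IsConj π V) (X : Subgroup H) :
    toG (cm (V := Additive ↥V) X) = ⁅V, lift π X⁆ := by
  refine le_antisymm ?_ (commutator_le.2 fun v hv e he => ?_)
  · rw [cm, toG_iSup]
    refine iSup_le fun x => ?_
    rintro _ ⟨w, ⟨u, hu⟩, rfl⟩
    obtain ⟨e, he⟩ := hπ x
    rw [commutator_comm]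
    have h1 : dm (V := Additive ↥V) (x : H) u = Additive.ofMul w := hu
    have h2 : (w : G) = ⁅(e : G), ((Additive.toMul u : ↥V) : G)⁆ := by
      rw [show w = Additive.toMul (dm (V := Additive ↥V) (x : H) u) by rw [h1]; rfl, dm_apply,
        toMul_sub, ← he, Subgroup.coe_div, hc, commutatorElement_def, div_eq_mul_inv]
    show (w : G) ∈ _
    rw [h2]
    exact commutator_mem_commutator ((mem_lift π).2 ⟨e.2, he ▸ x.2⟩) (Additive.toMul u).2
  · obtain ⟨heP, heX⟩ := (mem_lift π).1 he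
    set w : Additive ↥V := dm (π ⟨e, heP⟩) (-(Additive.ofMul (⟨v, hv⟩ : ↥V))) with hw
    have hwv : ((Additive.toMul w : ↥V) : G) = ⁅v, e⁆ := by
      rw [hw, dm_apply, toMul_sub, Subgroup.coe_div, hc, toMul_neg, toMul_ofMul, InvMemClass.coe_inv,
        commutatorElement_def, div_eq_mul_inv, inv_inv]
      have hcomm : ∀ a b : ↥V, (a : G) * b = b * a := fun a b =>
        congrArg Subtype.val ((IsMulCommutative.is_comm (M := ↥V)).comm a b)
      have := congrArg (fun z => z * e⁻¹) (rfl : v * e = v * e)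
      obtain ⟨y, hy⟩ : ∃ y : ↥V, (y : G) = e * v⁻¹ * e⁻¹ :=
        ⟨_, hc ⟨e, heP⟩ (Additive.ofMul (⟨v⁻¹, inv_mem hv⟩ : ↥V))⟩
      rw [show v * e * v⁻¹ * e⁻¹ = v * (e * v⁻¹ * e⁻¹) by group, ← hy]
      exact hcomm y ⟨v, hv⟩
    rw [← hwv]
    exact mem_toG.2 ⟨_, dm_mem_cm heX _⟩

theorem le_normalizer_commutator {X : Subgroup G} (hX : X ≤ normalizer (V : Set G)) :
    X ≤ normalizer ((⁅V, X⁆ : Subgroup G) : Set G) := by
  intro x hx
  refine mem_normalizer_of_cj ?_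
  show (⁅V, X⁆).map _ = _
  rw [map_commutator]
  show ⁅cj x V, cj x X⁆ = _
  rw [cj_of_mem_normalizer (hX hx), cj_of_mem_normalizer (le_normalizer hx)]

theorem le_normalizer_of_isConj (hc : IsConj π V) : P ≤ normalizer (V : Set G) := by
  refine Subgroup.le_normalizer_iff.mpr fun x hx v hv => ?_
  have h := hc ⟨x, hx⟩ (Additive.ofMul (⟨v, hv⟩ : ↥V))
  show x * v * x⁻¹ ∈ V
  rw [show x * v * x⁻¹ = ((Additive.toMul (π ⟨x, hx⟩ • Additive.ofMul (⟨v, hv⟩ : ↥V)) : ↥V) : G) from h.symm]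
  exact Subtype.coe_prop _

variable [Finite G] {p : ℕ}

/-- The natural-module clauses. -/
theorem mod_translate (hπ : Function.Surjective π) (hc : IsConj π V) {X : Subgroup H}
    (hX : IsMod (Additive ↥V) p X) :
    ∃ n : ℕ, 1 ≤ n ∧
      ((∃ (F : Type) (_ : Field F) (_ : Fintype F), Fintype.card F = p ^ n ∧
        (∃ f : ↥(lift π X) →* SL(2, F), Function.Surjective f ∧
          f.ker = (lift π ⊥).subgroupOf (lift π X)) ∧
        Cfsg.ActsAsSL2OnSection F ⊤ (lift π X) ⁅V, lift π X⁆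
          (⁅V, lift π X⁆ ⊓ centralizer ((lift π X : Subgroup G) : Set G))) ∨
      (p = 2 ∧ (∃ f : ↥(lift π X) →* Equiv.Perm (Fin (2 ^ n + 1)), Function.Surjective f ∧
          f.ker = (lift π ⊥).subgroupOf (lift π X)) ∧
        Cfsg.ActsAsOddPermModuleOnSection (2 ^ n + 1) ⊤ (lift π X) ⁅V, lift π X⁆
          (⁅V, lift π X⁆ ⊓ centralizer ((lift π X : Subgroup G) : Set G)))) := by
  have hUV : ∀ u : G, u ∈ ⁅V, lift π X⁆ → u ∈ V := fun u hu => by
    rw [← toG_cm hπ hc X] at hu; exact (mem_toG.1 hu).1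
  let j : ↥(⁅V, lift π X⁆) →* ↥V :=
    { toFun := fun u => ⟨u, hUV u u.2⟩
      map_one' := rfl
      map_mul' := fun _ _ => rfl }
  have hN := le_normalizer_commutator ((lift_le π X).trans (le_normalizer_of_isConj hc))
  have hspan : ∀ v : Additive ↥V,
      ∃ u : ↥(⁅V, lift π X⁆), v - Additive.ofMul (j u) ∈ fx X := by
    intro v
    obtain ⟨a, ha, b, hb, rfl⟩ := AddSubgroup.mem_sup.1 (hX.span.ge (AddSubgroup.mem_top v))
    have hb' : ((Additive.toMul b : ↥V) : G) ∈ ⁅V, lift π X⁆ := by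
      rw [← toG_cm hπ hc X]; exact mem_toG.2 ⟨_, hb⟩
    exact ⟨⟨_, hb'⟩, (add_sub_cancel_right a b).symm ▸ ha⟩
  have hfix : ∀ u : ↥(⁅V, lift π X⁆),
      Additive.ofMul (j u) ∈ fx X ↔
        (u : G) ∈ ⁅V, lift π X⁆ ⊓ centralizer ((lift π X : Subgroup G) : Set G) := fun u =>
    (mem_fx_iff hπ hc).trans ⟨fun h => ⟨u.2, h⟩, fun h => h.2⟩
  have hact : ∀ (e : ↥(lift π X)) (u : ↥(⁅V, lift π X⁆)),
      ∃ w : ↥(⁅V, lift π X⁆), (w : G) = (e : G) * u * (e : G)⁻¹ ∧
        Additive.ofMul (j w) = (liftHom π X e : H) • Additive.ofMul (j u) := fun e u =>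
    ⟨⟨_, (mem_normalizer_iff.1 (hN e.2) u).1 u.2⟩, rfl,
      Additive.toMul.injective (Subtype.ext (hc ⟨e, lift_le π X e.2⟩ (Additive.ofMul (j u))).symm)⟩
  obtain ⟨n, hn, ⟨K, i1, i2, hK, ρ, ψ, hs, hk, heq⟩ | ⟨hp2, ρ, ψ, hev, hs, hk, heq⟩⟩ := hX
  · refine ⟨n, hn, Or.inl ⟨K, i1, i2, hK, ⟨ρ.toMonoidHom.comp (liftHom π X),
      ρ.surjective.comp (liftHom_surjective π hπ X), by
        rw [MonoidHom.ker_comp_of_injective _ _ ρ.injective, liftHom_ker]⟩,
      hN, inf_le_left, ρ.toMonoidHom.comp (liftHom π X),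
      MonoidHom.mk' (fun u => Multiplicative.ofAdd (ψ (Additive.ofMul (j u)))) (fun u u' => by
        rw [map_mul, ofMul_mul, map_add, ofAdd_add]), ?_, ?_, ?_, ?_⟩⟩
    · exact MonoidHom.range_eq_top.2 (ρ.surjective.comp (liftHom_surjective π hπ X))
    · intro w
      obtain ⟨v, hv⟩ := hs (Multiplicative.toAdd w)
      obtain ⟨u, hu⟩ := hspan v
      refine ⟨u, ?_⟩
      have h1 := (hk _).2 hu
      rw [map_sub, sub_eq_zero, hv] at h1
      exact Multiplicative.toAdd.injective h1.symm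
    · intro u
      exact (Iff.trans (by simp) (hk (Additive.ofMul (j u)))).trans (hfix u)
    · intro e u
      obtain ⟨w, hw, hw'⟩ := hact e u
      refine ⟨w, hw, ?_⟩
      show ψ (Additive.ofMul (j w)) = _
      rw [hw', heq]
      rfl
  · refine ⟨n, hn, Or.inr ⟨hp2, ⟨ρ.toMonoidHom.comp (liftHom π X),
      ρ.surjective.comp (liftHom_surjective π hπ X), by
        rw [MonoidHom.ker_comp_of_injective _ _ ρ.injective, liftHom_ker]⟩,
      hN, inf_le_left, ρ.toMonoidHom.comp (liftHom π X),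
      MonoidHom.mk' (fun u => Multiplicative.ofAdd (ψ (Additive.ofMul (j u)))) (fun u u' => by
        rw [map_mul, ofMul_mul, map_add, ofAdd_add]), ?_, ?_, ?_, ?_, ?_⟩⟩
    · exact MonoidHom.range_eq_top.2 (ρ.surjective.comp (liftHom_surjective π hπ X))
    · intro u; exact hev _
    · intro f hf
      obtain ⟨v, hv⟩ := hs f hf
      obtain ⟨u, hu⟩ := hspan v
      refine ⟨u, ?_⟩
      have h1 := (hk _).2 hu
      rw [map_sub, sub_eq_zero, hv] at h1
      exact h1.symm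
    · intro u
      exact (Iff.trans (by simp) (hk (Additive.ofMul (j u)))).trans (hfix u)
    · intro e u
      obtain ⟨w, hw, hw'⟩ := hact e u
      refine ⟨w, hw, fun i => ?_⟩
      show ψ (Additive.ofMul (j w)) i = _
      rw [hw', heq]
      rfl

/-- The whole conclusion. -/
theorem sys_translate (hπ : Function.Surjective π) (hc : IsConj π V) {T : Subgroup H} {r : ℕ}
    {E : Fin r → Subgroup H} (h : SysData (Additive ↥V) p T E) :
      1 ≤ r ∧
      (∀ i, lift π ⊥ ≤ lift π (E i)) ∧ (∀ i, lift π (E i) ≤ P) ∧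
      (∀ i j, i ≠ j → ⁅lift π (E i), lift π (E j)⁆ ≤ lift π ⊥) ∧
      (∀ i, lift π (E i) ⊓ (⨆ j ∈ {j | j ≠ i}, lift π (E j)) ≤ lift π ⊥) ∧
      (⨆ i, lift π (E i)) ⊔ lift π T = P ∧
      (∀ i j, ∃ t ∈ lift π T, (lift π (E i)).map (MulAut.conj t).toMonoidHom = lift π (E j)) ∧
      (V ⊓ centralizer (((⨆ i, lift π (E i)) : Subgroup G) : Set G)) ⊔ (⨆ i, ⁅V, lift π (E i)⁆) = V ∧
      (∀ i j, i ≠ j → ⁅⁅V, lift π (E i)⁆, lift π (E j)⁆ = ⊥) ∧
      ∀ i, ∃ n : ℕ, 1 ≤ n ∧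
        ((∃ (F : Type) (_ : Field F) (_ : Fintype F), Fintype.card F = p ^ n ∧
          (∃ f : ↥(lift π (E i)) →* SL(2, F), Function.Surjective f ∧
            f.ker = (lift π ⊥).subgroupOf (lift π (E i))) ∧
          Cfsg.ActsAsSL2OnSection F ⊤ (lift π (E i)) ⁅V, lift π (E i)⁆
            (⁅V, lift π (E i)⁆ ⊓ centralizer ((lift π (E i) : Subgroup G) : Set G))) ∨
        (p = 2 ∧ (∃ f : ↥(lift π (E i)) →* Equiv.Perm (Fin (2 ^ n + 1)), Function.Surjective f ∧
            f.ker = (lift π ⊥).subgroupOf (lift π (E i))) ∧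
          Cfsg.ActsAsOddPermModuleOnSection (2 ^ n + 1) ⊤ (lift π (E i)) ⁅V, lift π (E i)⁆
            (⁅V, lift π (E i)⁆ ⊓ centralizer ((lift π (E i) : Subgroup G) : Set G)))) := by
  obtain ⟨hr, hcomm, hcross, hind, htop, htrans, -, hdec, hmod⟩ := h
  haveI : Nonempty (Fin r) := ⟨⟨0, hr⟩⟩
  refine ⟨hr, fun i => lift_mono π bot_le, fun i => lift_le π _, ?_, ?_, ?_,
    ?_, ?_, ?_, fun i => mod_translate hπ hc (hmod i)⟩
  · intro i j hij
    refine commutator_le.2 fun x hx y hy => ?_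
    obtain ⟨hxP, hxX⟩ := (mem_lift π).1 hx
    obtain ⟨hyP, hyX⟩ := (mem_lift π).1 hy
    refine (mem_lift π).2 ⟨(⁅(⟨x, hxP⟩ : ↥P), (⟨y, hyP⟩ : ↥P)⁆ : ↥P).2, mem_bot.2 ?_⟩
    show π ⁅(⟨x, hxP⟩ : ↥P), (⟨y, hyP⟩ : ↥P)⁆ = 1
    rw [map_commutatorElement, commutatorElement_eq_one_iff_commute]
    exact (mem_centralizer_iff.1 (hcomm i j hij hxX) _ hyX).symm
  · intro i
    rw [← hind i, lift_inf]
    exact inf_le_inf le_rfl (iSup₂_le fun j hj =>
      lift_mono π (le_iSup₂ (f := fun j (_ : j ∈ {j | j ≠ i}) => E j) j hj))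
  · rw [← lift_iSup π hπ, ← lift_sup π hπ, htop, lift_top]
  · intro i j
    obtain ⟨t, ht, e⟩ := htrans i j
    obtain ⟨t', rfl⟩ := hπ t
    exact ⟨t', (mem_lift π).2 ⟨t'.2, ht⟩, by rw [← lift_cj, e]⟩
  · have h1 := congrArg toG hdec
    rw [toG_sup, toG_iSup, toG_top, toG_fx hπ hc, lift_iSup π hπ] at h1
    simp only [toG_cm hπ hc] at h1
    exact h1
  · intro i j hij
    rw [commutator_eq_bot_iff_le_centralizer, ← toG_cm hπ hc]
    intro g hg
    obtain ⟨hgV, hg'⟩ := mem_toG.1 hg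
    exact (mem_fx_iff hπ hc).1 (hcross i j hij hg')

end Cfsg.Agent.FFStruct
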