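import Cfsg.Agent.FFStruct.Amb

/-!
# Conjugates of a minimal offender in a Sylow subgroup
-/

set_option autoImplicit false
set_option linter.unusedSectionVars false
set_option linter.style.haveILetI false

namespace Cfsg.Agent.FFStruct

open Subgroup
open scoped Pointwise

variable {H : Type*} [Group H] {V : Type*} [AddCommGroup V] [DistribMulAction H V]

/-- The conjugates of `A` inside `T`. -/
def kset (A T : Subgroup H) : Set (Subgroup H) := {D | (∃ g : H, D = cj g A) ∧ D ≤ T}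

theorem cj_le_iff {g : H} {X Y : Subgroup H} : cj g X ≤ cj g Y ↔ X ≤ Y :=
  map_le_map_iff_of_injective (MulAut.conj g).injective

theorem kset_cj (g : H) (A T : Subgroup H) : kset A (cj g T) = cj g '' kset A T := by
  ext D
  constructor
  · rintro ⟨⟨a, rfl⟩, hle⟩
    refine ⟨cj (g⁻¹ * a) A, ⟨⟨_, rfl⟩, ?_⟩, by rw [cj_cj, mul_inv_cancel_left]⟩
    rw [← cj_le_iff (g := g), cj_cj, mul_inv_cancel_left]
    exact hle
  · rintro ⟨E, ⟨⟨a, rfl⟩, hle⟩, rfl⟩
    exact ⟨⟨g * a, cj_cj g a A⟩, cj_mono g hle⟩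

/-- A family of commuting elementary abelian subgroups generates one. -/
theorem ea_sSup {p : ℕ} {𝒮 : Set (Subgroup H)} (he : ∀ D ∈ 𝒮, Cfsg.IsElementaryAbelian p D)
    (hc : ∀ D ∈ 𝒮, ∀ E ∈ 𝒮, D ≤ centralizer (E : Set H)) :
    Cfsg.IsElementaryAbelian p (sSup 𝒮 : Subgroup H) := by
  have hab : sSup 𝒮 ≤ centralizer ((sSup 𝒮 : Subgroup H) : Set H) :=
    sSup_le fun D hD => le_centralizer_iff.1 (sSup_le fun E hE => hc E hE D hD)
  refine Thompson.ea_iff.2 ⟨hab, ?_⟩
  let P0 : Subgroup H :=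
    { carrier := {x | x ∈ sSup 𝒮 ∧ x ^ p = 1}
      one_mem' := ⟨one_mem _, one_pow _⟩
      mul_mem' := fun {x y} hx hy => ⟨mul_mem hx.1 hy.1, by
        have hxy : Commute x y := (mem_centralizer_iff.1 (hab hy.1) x hx.1)
        rw [hxy.mul_pow, hx.2, hy.2, one_mul]⟩
      inv_mem' := fun {x} hx => ⟨inv_mem hx.1, by rw [inv_pow, hx.2, inv_one]⟩ }
  have hle : sSup 𝒮 ≤ P0 := sSup_le fun D hD d hd =>
    ⟨le_sSup hD hd, (Thompson.ea_iff.1 (he D hD)).2 d hd⟩
  exact fun a ha => (hle ha).2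

variable [Finite H] [Finite V] [FaithfulSMul H V] {p : ℕ} [Fact p.Prime]

namespace Amb

variable (h : Amb H V p) {A : Subgroup H} (hA : MOff V p A)

include h hA

omit h in
theorem moff_of_kset {T D : Subgroup H} (hD : D ∈ kset A T) : MOff V p D := by
  obtain ⟨⟨g, rfl⟩, -⟩ := hD
  exact hA.cj g

omit h in
theorem card_of_kset {T D : Subgroup H} (hD : D ∈ kset A T) : Nat.card D = Nat.card A := by
  obtain ⟨⟨g, rfl⟩, -⟩ := hD
  exact card_cj g A

theorem kset_commute {T : Sylow p H} {D E : Subgroup H} (hD : D ∈ kset A T) (hE : E ∈ kset A T) :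
    D ≤ centralizer (E : Set H) :=
  h.commute_of_pgroup (moff_of_kset hA hD) (moff_of_kset hA hE)
    ((card_of_kset hA hD).trans (card_of_kset hA hE).symm) (T.isPGroup'.to_le (sup_le hD.2 hE.2))

omit h hA in
theorem kset_ncard_eq (S T : Sylow p H) :
    (kset A (S : Subgroup H)).ncard = (kset A (T : Subgroup H)).ncard := by
  obtain ⟨g, rfl⟩ := MulAction.exists_smul_eq H T S
  rw [Sylow.coe_subgroup_smul]
  show (kset A (FFStruct.cj g (T : Subgroup H))).ncard = _
  rw [kset_cj, Set.ncard_image_of_injective _ (cj_injective g)]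

omit h in
theorem kset_nonempty (T : Sylow p H) : (kset A (T : Subgroup H)).Nonempty := by
  obtain ⟨S, hS⟩ := (Thompson.ea_isPGroup hA.ea).exists_le_sylow
  have hmem : A ∈ kset A (S : Subgroup H) := ⟨⟨1, (cj_one A).symm⟩, hS⟩
  have hne := Set.ncard_ne_zero_of_mem hmem
  rw [kset_ncard_eq S T] at hne
  exact Set.nonempty_of_ncard_ne_zero hne

omit h hA in
/-- A commuting family of conjugates lies in a Sylow subgroup. -/
theorem exists_sylow_kset {𝒮 : Set (Subgroup H)} (hA' : Cfsg.IsElementaryAbelian p A)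
    (hS : ∀ D ∈ 𝒮, ∃ g : H, D = FFStruct.cj g A)
    (hc : ∀ D ∈ 𝒮, ∀ E ∈ 𝒮, D ≤ centralizer (E : Set H)) :
    ∃ S : Sylow p H, 𝒮 ⊆ kset A (S : Subgroup H) := by
  have he : Cfsg.IsElementaryAbelian p (sSup 𝒮 : Subgroup H) := ea_sSup (fun D hD => by
    obtain ⟨g, rfl⟩ := hS D hD
    exact ea_cj hA' g) hc
  obtain ⟨S, hS'⟩ := (Thompson.ea_isPGroup he).exists_le_sylow
  exact ⟨S, fun D hD => ⟨hS D hD, (le_sSup hD).trans hS'⟩⟩

omit h in
theorem ncard_le_of_commuting (T : Sylow p H) {𝒮 : Set (Subgroup H)}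
    (hS : ∀ D ∈ 𝒮, ∃ g : H, D = FFStruct.cj g A)
    (hc : ∀ D ∈ 𝒮, ∀ E ∈ 𝒮, D ≤ centralizer (E : Set H)) :
    𝒮.ncard ≤ (kset A (T : Subgroup H)).ncard := by
  obtain ⟨S, hsub⟩ := exists_sylow_kset hA.ea hS hc
  exact (Set.ncard_le_ncard hsub).trans (kset_ncard_eq S T).le

omit h hA in
theorem kset_eq_of_subset {S T : Sylow p H}
    (hle : ∀ D ∈ kset A (T : Subgroup H), D ≤ (S : Subgroup H)) :
    kset A (S : Subgroup H) = kset A (T : Subgroup H) :=
  (Set.eq_of_subset_of_ncard_le (s := kset A (T : Subgroup H)) (t := kset A (S : Subgroup H))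
    (fun D hD => ⟨hD.1, hle D hD⟩) (kset_ncard_eq S T).le).symm

/-- An element permuting the conjugates in `T` lies in the maximal subgroup above `T`. -/
theorem mem_Mx_of_kset {T : Sylow p H} {g : H}
    (hg : FFStruct.cj g '' kset A (T : Subgroup H) = kset A (T : Subgroup H)) : g ∈ h.Mx T := by
  set J : Subgroup H := sSup (kset A (T : Subgroup H)) with hJ
  have hnorm : ∀ t : H, FFStruct.cj t '' kset A (T : Subgroup H) = kset A (T : Subgroup H) →
      t ∈ normalizer (J : Set H) := fun t ht => mem_normalizer_of_cj (by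
    show J.map _ = J
    rw [hJ, (gc_map_comap _).l_sSup]
    conv_rhs => rw [← ht, sSup_image])
  refine h.normalizer_le_Mx (Q := J) (sSup_le fun D hD => hD.2) ?_ (fun t ht => hnorm t ?_) (hnorm g hg)
  · intro e
    obtain ⟨D, hD⟩ := kset_nonempty hA T
    exact (moff_of_kset hA hD).ne (le_bot_iff.1 (e ▸ le_sSup hD))
  · rw [← kset_cj, cj_of_mem_normalizer (le_normalizer ht)]

theorem Mx_eq_of_kset {S T : Sylow p H}
    (hle : ∀ D ∈ kset A (T : Subgroup H), D ≤ (S : Subgroup H)) : h.Mx S = h.Mx T := by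
  refine h.Mx_unique (h.Mx_coatom T) fun s hs => h.mem_Mx_of_kset hA ?_
  rw [← kset_cj, ← kset_eq_of_subset hle]
  conv_rhs => rw [← cj_of_mem_normalizer (le_normalizer hs)]
  rw [kset_cj, kset_cj, kset_eq_of_subset hle]

end Amb

end Cfsg.Agent.FFStruct
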