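import Cfsg.Agent.FFStruct.Bridge

/-!
# Conjugation on an abelian subgroup as an action
-/

set_option autoImplicit false
set_option linter.unusedSectionVars false
set_option linter.style.haveILetI false

namespace Cfsg.Agent.FFStruct

open Subgroup
open scoped Pointwise IsMulCommutative commutatorElement

variable {G : Type*} [Group G] {P V : Subgroup G} [IsMulCommutative V]

/-- Conjugation by a normalising subgroup. -/
@[instance_reducible]
def conjAct' (hPV : P ≤ normalizer (V : Set G)) : DistribMulAction ↥P (Additive ↥V) where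
  smul e v := Additive.ofMul
    ⟨(e : G) * (Additive.toMul v : ↥V) * (e : G)⁻¹,
      (mem_normalizer_iff.1 (hPV e.2) _).1 (Additive.toMul v).2⟩
  one_smul v := Additive.toMul.injective (Subtype.ext (by
    show ((1 : ↥P) : G) * _ * ((1 : ↥P) : G)⁻¹ = _
    simp))
  mul_smul e f v := Additive.toMul.injective (Subtype.ext (by
    show (e : G) * f * ((Additive.toMul v : ↥V) : G) * ((e : G) * f)⁻¹ =
      (e : G) * ((f : G) * ((Additive.toMul v : ↥V) : G) * (f : G)⁻¹) * (e : G)⁻¹
    group))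
  smul_zero e := Additive.toMul.injective (Subtype.ext (by
    show (e : G) * ((1 : ↥V) : G) * (e : G)⁻¹ = 1
    simp))
  smul_add e u v := Additive.toMul.injective (Subtype.ext (by
    show (e : G) * (((Additive.toMul u : ↥V) : G) * ((Additive.toMul v : ↥V) : G)) * (e : G)⁻¹ =
      (e : G) * ((Additive.toMul u : ↥V) : G) * (e : G)⁻¹ *
        ((e : G) * ((Additive.toMul v : ↥V) : G) * (e : G)⁻¹)
    group))

theorem conjAct'_isConj (hPV : P ≤ normalizer (V : Set G)) :
    letI := conjAct' hPV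
    IsConj (MonoidHom.id ↥P) V := fun _ _ => rfl

theorem conjAct'_faithful (hPV : P ≤ normalizer (V : Set G))
    (hfaith : P ⊓ centralizer (V : Set G) = ⊥) :
    letI := conjAct' hPV
    FaithfulSMul ↥P (Additive ↥V) := by
  letI := conjAct' hPV
  refine ⟨fun {e f} h => ?_⟩
  have hmem : ((f⁻¹ * e : ↥P) : G) ∈ P ⊓ centralizer (V : Set G) := by
    refine ⟨(f⁻¹ * e).2, mem_centralizer_iff.2 fun v hv => ?_⟩
    have h1 : (f⁻¹ * e) • Additive.ofMul (⟨v, hv⟩ : ↥V) = Additive.ofMul (⟨v, hv⟩ : ↥V) := by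
      rw [mul_smul, h, inv_smul_smul]
    have h2 : ((f⁻¹ * e : ↥P) : G) * v * ((f⁻¹ * e : ↥P) : G)⁻¹ = v :=
      congrArg (fun w : Additive ↥V => ((Additive.toMul w : ↥V) : G)) h1
    exact (mul_inv_eq_iff_eq_mul.1 h2).symm
  rw [hfaith, mem_bot] at hmem
  exact (inv_mul_eq_one.1 (Subtype.ext hmem)).symm

theorem lift_id_bot : lift (MonoidHom.id ↥P) (⊥ : Subgroup ↥P) = ⊥ := by
  rw [lift, MonoidHom.comap_bot, MonoidHom.ker_id, Subgroup.map_bot]

theorem lift_id (X : Subgroup ↥P) : lift (MonoidHom.id ↥P) X = X.map P.subtype := rfl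

/-- An offender as a subgroup of the acting group. -/
theorem offender_data [Finite G] {p : ℕ} [Fact p.Prime] (hPV : P ≤ normalizer (V : Set G))
    (hfaith : P ⊓ centralizer (V : Set G) = ⊥) {A : Subgroup G} (hAP : A ≤ P)
    (hne : ¬ A ≤ centralizer (V : Set G)) (hA : Cfsg.IsBestOffenderOn p V A) :
    letI := conjAct' hPV
    Cfsg.IsElementaryAbelian p (A.subgroupOf P) ∧ A.subgroupOf P ≠ ⊥ ∧
      Nat.card (Additive ↥V) ≤
        Nat.card (A.subgroupOf P) * Nat.card (fx (V := Additive ↥V) (A.subgroupOf P)) := by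
  letI := conjAct' hPV
  obtain ⟨hmax, hcom, hpow⟩ := hA
  have hbot : ∀ g ∈ P, g ∈ centralizer (V : Set G) → g = 1 := fun g h1 h2 =>
    mem_bot.1 (hfaith.le ⟨h1, h2⟩)
  refine ⟨Thompson.ea_iff.2 ⟨fun a ha => mem_centralizer_iff.2 fun b hb => ?_, fun a ha => ?_⟩,
    fun e => ?_, ?_⟩
  · refine Subtype.ext ?_
    show (b : G) * a = (a : G) * b
    exact commutatorElement_eq_one_iff_mul_comm.1 (hbot _ (mul_mem (mul_mem (mul_mem b.2 a.2)
      (inv_mem b.2)) (inv_mem a.2)) (hcom (commutator_mem_commutator hb ha)))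
  · exact Subtype.ext (hbot _ (pow_mem a.2 p) (hpow _ ha))
  · rw [subgroupOf_eq_bot, disjoint_iff, inf_eq_left.2 hAP] at e
    exact hne (e ▸ bot_le)
  · have h1 := hmax ⊥ bot_le
    rw [Subgroup.card_bot, one_mul, coe_bot, inf_eq_left.2 (fun v _ => mem_centralizer_iff.2 fun g hg => by
      rw [Set.mem_singleton_iff.1 hg, one_mul, mul_one])] at h1
    refine h1.trans (le_of_eq ?_)
    rw [Nat.card_congr (subgroupOfEquivOfLe hAP).toEquiv]
    congr 1
    have e : toG (fx (V := Additive ↥V) (A.subgroupOf P)) = V ⊓ centralizer (A : Set G) := by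
      rw [toG_fx (π := MonoidHom.id ↥P) (fun x => ⟨x, rfl⟩) (conjAct'_isConj hPV), lift_id,
        subgroupOf_map_subtype, inf_eq_left.2 hAP]
    rw [← e, toG, card_map_of_injective V.subtype_injective]
    rfl

end Cfsg.Agent.FFStruct
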