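import Cfsg.Agent.FFStruct.Basic
import Cfsg.Agent.PMinOff.Linear
import Cfsg.Agent.SylowNumber.Formula
import Cfsg.Prelude.Def_Amalgam

/-!
# A minimal offender generates `SL₂(q)` with one of its conjugates
-/

set_option autoImplicit false
set_option linter.unusedSectionVars false
set_option linter.style.haveILetI false

namespace Cfsg.Agent.FFStruct

open Subgroup
open scoped Pointwise MatrixGroups

variable {H : Type*} [Group H] {V : Type*} [AddCommGroup V] [DistribMulAction H V]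

variable (V) in
/-- `A` and its conjugate by `x` generate `SL₂(|A|)` on a natural section. -/
structure Pair (A : Subgroup H) (x : H) : Prop where
  quad : ∀ a ∈ A, ∀ v : V, dm a v ∈ fx A
  exact_card : Nat.card A * Nat.card (fx (V := V) A) = Nat.card V
  span : fx (V := V) A ⊔ sm x (fx A) = ⊤
  card_fx : Nat.card (fx (V := V) A) = Nat.card A * Nat.card (fx (V := V) (A ⊔ cj x A))
  reg : ∀ a ∈ A, a ≠ 1 → ∀ v : V, dm a v ∈ fx (A ⊔ cj x A) → v ∈ fx A
  model : ∃ (K : Type) (_ : Field K) (_ : Fintype K), Fintype.card K = Nat.card A ∧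
    ∃ (ρ : ↥(A ⊔ cj x A) ≃* SL(2, K)) (ψ : V →+ (Fin 2 → K)), Function.Surjective ψ ∧
      (∀ v, ψ v = 0 ↔ v ∈ fx (A ⊔ cj x A)) ∧
      ∀ (e : ↥(A ⊔ cj x A)) (v : V),
        ψ ((e : H) • v) = (ρ e : Matrix (Fin 2) (Fin 2) K).mulVec (ψ v)

variable [Finite H] [Finite V] [FaithfulSMul H V] {p : ℕ} [Fact p.Prime]

/-- The hypotheses of the counting argument, for a group `L` and its subgroup `L ∩ N`. -/
structure Gen (p : ℕ) (V : Type*) [AddCommGroup V] [DistribMulAction H V] (A L N : Subgroup H) :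
    Prop where
  hp : ∀ v : V, p • v = 0
  hA : Cfsg.IsElementaryAbelian p A
  bound : Nat.card V ≤ Nat.card A * Nat.card (fx (V := V) A)
  strict : ∀ B ≤ A, B ≠ ⊥ → B ≠ A → Nat.card B * Nat.card (fx (V := V) B) <
      Nat.card A * Nat.card (fx (V := V) A)
  le : A ≤ L
  leN : A ≤ N
  coreN : Cfsg.pCoreOf p L ≤ N
  out : ∃ y ∈ L, y ∉ N
  gen : ∀ y ∈ L, y ∉ N → A ⊔ cj y A ⊔ Cfsg.pCoreOf p L = L
  moved : ∃ z ∈ fx (V := V) (A ⊔ Cfsg.pCoreOf p L), z ∉ fx L

namespace Gen

variable {A L N : Subgroup H} (h : Gen p V A L N)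

include h

theorem quad {a : H} (ha : a ∈ A) (v : V) : dm a v ∈ fx A :=
  quad_of_strict h.hp h.hA h.bound h.strict ha v

theorem ne_bot : A ≠ ⊥ := by
  rintro rfl
  obtain ⟨y, hy, hyN⟩ := h.out
  have := h.gen y hy hyN
  rw [show cj y (⊥ : Subgroup H) = ⊥ from map_bot _, bot_sup_eq, bot_sup_eq] at this
  exact hyN (h.coreN (this.ge hy))

omit h in
theorem core_le : Cfsg.pCoreOf p L ≤ L := map_subtype_le _

omit h in
theorem conj_core {y r : H} (hy : y ∈ L) (hr : r ∈ Cfsg.pCoreOf p L) :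
    y * r * y⁻¹ ∈ Cfsg.pCoreOf p L := by
  obtain ⟨r', hr', rfl⟩ := hr
  exact ⟨⟨y, hy⟩ * r' * ⟨y, hy⟩⁻¹, (Core.pCore_normal (p := p) (G := L)).conj_mem r' hr' _, rfl⟩

/-- The fixed points of the `p`-core are invariant. -/
theorem smul_mem_fxR {y : H} (hy : y ∈ L) {v : V} (hv : v ∈ fx (Cfsg.pCoreOf p L)) :
    y • v ∈ fx (Cfsg.pCoreOf p L) := fun r hr => by
  have h1 := hv _ (conj_core (L.inv_mem hy) hr)
  rw [inv_inv, mul_smul, mul_smul, inv_smul_eq_iff] at h1
  exact h1

theorem cj_le {y : H} (hy : y ∈ L) : cj y A ≤ L := by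
  rintro _ ⟨a, ha, rfl⟩
  exact mul_mem (mul_mem hy (h.le ha)) (inv_mem hy)

/-- Elements of `A` outside the `p`-core have a conjugate outside `N`. -/
theorem out_of_notMem {a : H} (ha : a ∈ A) (hR : a ∉ Cfsg.pCoreOf p L) :
    ∃ y ∈ L, y⁻¹ * a * y ∉ N := by
  by_contra hcon
  push Not at hcon
  let K : Subgroup ↥L := (N.subgroupOf L).normalCore
  have hAR : IsPGroup p ↥(A.subgroupOf L ⊔ Cfsg.pCore p L) :=
    ((Thompson.ea_isPGroup h.hA).comap_of_injective L.subtype L.subtype_injective).to_sup_of_normal_right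
      Core.pCore_isPGroup
  obtain ⟨T, hT⟩ := hAR.exists_le_sylow
  have hgen : ∀ X : Subgroup ↥L, (T : Subgroup ↥L) ≤ X → X = ⊤ ∨ X ≤ N.subgroupOf L := by
    intro X hX
    by_cases hXN : X ≤ N.subgroupOf L
    · exact Or.inr hXN
    obtain ⟨y, hy, hyN⟩ := SetLike.not_le_iff_exists.1 hXN
    refine Or.inl (Subgroup.map_injective L.subtype_injective ?_)
    rw [← MonoidHom.range_eq_map, range_subtype]
    refine le_antisymm (map_subtype_le X) ?_
    conv_lhs => rw [← h.gen y y.2 hyN]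
    have hA' : A ≤ X.map L.subtype := fun b hb =>
      ⟨⟨b, h.le hb⟩, hX (hT (mem_sup_left (show (⟨b, h.le hb⟩ : ↥L) ∈ A.subgroupOf L from hb))), rfl⟩
    refine sup_le (sup_le hA' ?_) (map_mono (le_sup_right.trans (hT.trans hX)))
    rintro _ ⟨b, hb, rfl⟩
    exact mul_mem (mul_mem ⟨y, hy, rfl⟩ (hA' hb)) (inv_mem ⟨y, hy, rfl⟩)
  obtain ⟨y, hy, hyN⟩ := h.out
  have hTN : (T : Subgroup ↥L) ≤ N.subgroupOf L := by
    refine (hgen T le_rfl).resolve_left fun e => hyN (h.coreN ?_)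
    have hL : IsPGroup p ↥L := T.isPGroup'.to_le e.ge |>.of_equiv Subgroup.topEquiv
    exact ⟨⟨y, hy⟩, (Core.pCore_eq_top hL).ge (mem_top _), rfl⟩
  haveI hn : ((T : Subgroup ↥L) ⊓ K).Normal := by
    rw [← normalizer_eq_top_iff]
    obtain ⟨R, hR⟩ := Cfsg.Agent.SylowNumber.exists_sylow_inf T K
    have hf := Sylow.normalizer_sup_eq_top R
    rw [show (R : Subgroup K).map K.subtype = (T : Subgroup ↥L) ⊓ K by
      rw [hR, subgroupOf_map_subtype, inf_assoc, inf_idem]] at hf
    refine (hgen _ ?_).resolve_right fun hle => hyN ?_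
    · refine Subgroup.le_normalizer_iff.mpr fun t ht r hr => ?_
      exact Subgroup.mem_inf.mpr ⟨mul_mem (mul_mem ht (Subgroup.mem_inf.mp hr).1) (inv_mem ht),
        (normalCore_normal _).conj_mem r (Subgroup.mem_inf.mp hr).2 t⟩
    · exact (sup_le hle (normalCore_le _)) (hf.ge (mem_top (⟨y, hy⟩ : ↥L)))
  refine hR ⟨⟨a, h.le ha⟩, ?_, rfl⟩
  refine Core.le_pCore (T.isPGroup'.to_le inf_le_left)
    (show (⟨a, h.le ha⟩ : ↥L) ∈ (T : Subgroup ↥L) ⊓ K from ⟨hT (mem_sup_left ha), ?_⟩)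
  intro z
  have := hcon (z : H)⁻¹ (inv_mem z.2)
  rwa [inv_inv] at this

/-- The main count. -/
theorem count : A ⊓ Cfsg.pCoreOf p L = ⊥ ∧ Nat.card A * Nat.card (fx (V := V) A) = Nat.card V ∧
    ∀ x ∈ L, x ∉ N → fx (V := V) A ⊔ sm x (fx A) = ⊤ ∧
      Nat.card (fx (V := V) A) = Nat.card A * Nat.card (fx (V := V) (A ⊔ cj x A)) ∧
      (∀ a ∈ A, a ≠ 1 → ∀ v : V, dm a v ∈ fx (A ⊔ cj x A) → v ∈ fx A) ∧
      ∀ g ∈ A ⊔ cj x A, g ∈ Cfsg.pCoreOf p L →
        (∀ v ∈ fx (V := V) (A ⊔ cj x A), g • v = v) → g = 1 := by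
  set R := Cfsg.pCoreOf p L with hRdef
  set C0 : AddSubgroup V := fx L with hC0
  set W : AddSubgroup V := fx A with hW
  set S : AddSubgroup V := fx R with hS
  set WS : AddSubgroup V := W ⊓ S with hWS
  have hC0S : C0 ≤ S := fx_anti core_le
  have hC0W : C0 ≤ WS := le_inf (fx_anti h.le) hC0S
  have hgenfx : ∀ y ∈ L, y ∉ N → W ⊓ sm y W ⊓ S = C0 := fun y hy hyN => by
    rw [hW, hS, hC0, ← fx_cj, ← fx_sup, ← fx_sup, h.gen y hy hyN]
  have hWScj : ∀ y ∈ L, sm y WS ≤ sm y W ⊓ S := by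
    rintro y hy _ ⟨w, hw, rfl⟩
    exact ⟨smul_mem_sm hw.1, h.smul_mem_fxR hy hw.2⟩
  have hC0sm : ∀ y ∈ L, C0 ≤ sm y WS := by
    intro y hy v hv
    rw [mem_sm, show y⁻¹ • v = v from hv _ (inv_mem hy)]
    exact hC0W hv
  have meet : ∀ y ∈ L, y ∉ N → WS ⊓ sm y WS ≤ C0 := fun y hy hyN v hv =>
    (hgenfx y hy hyN).le ⟨⟨hv.1.1, (hWScj y hy hv.2).1⟩, hv.1.2⟩
  have meet' : ∀ y ∈ L, ∀ z ∈ L, y⁻¹ * z ∉ N → sm y WS ⊓ sm z WS ≤ C0 := by
    intro y hy z hz hyz v hv
    have h1 : y⁻¹ • v ∈ WS ⊓ sm (y⁻¹ * z) WS := by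
      refine ⟨mem_sm.1 hv.1, mem_sm.2 ?_⟩
      rw [ mul_inv_rev, inv_inv, mul_smul, smul_inv_smul]
      exact mem_sm.1 hv.2
    have h2 := meet _ (mul_mem (inv_mem hy) hz) hyz h1
    have h3 := h2 y hy
    rw [smul_inv_smul] at h3
    exact h3 ▸ h2
  have main : ∀ x ∈ L, x ∉ N → A ⊓ R = ⊥ ∧ Nat.card A * Nat.card W = Nat.card V ∧
      W ⊔ sm x W = ⊤ ∧ Nat.card W = Nat.card A * Nat.card (W ⊓ sm x W : AddSubgroup V) ∧
      (∀ a ∈ A, a ≠ 1 → ∀ v : V, dm a v ∈ W ⊓ sm x W → v ∈ W) ∧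
      (W ⊔ (WS ⊔ sm x WS) = ⊤) ∧ W = (W ⊓ sm x W) ⊔ WS := by
    intro x hx hxN
    set U : AddSubgroup V := WS ⊔ sm x WS with hU
    have hUS : U ≤ S := sup_le inf_le_right ((hWScj x hx).trans inf_le_right)
    have hUinv : ∀ y ∈ L, ∀ u ∈ U, y • u ∈ U := by
      let P0 : Subgroup H :=
        { carrier := {g | g ∈ L ∧ sm g U = U}
          one_mem' := ⟨L.one_mem, by ext v; simp [mem_sm]⟩
          mul_mem' := fun {g k} hg hk => ⟨mul_mem hg.1 hk.1, by
            ext v
            rw [mem_sm, mul_inv_rev, mul_smul, ← mem_sm, hk.2, ← mem_sm, hg.2]⟩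
          inv_mem' := fun {g} hg => ⟨inv_mem hg.1, by
            ext v
            rw [mem_sm, inv_inv]
            conv_lhs => rw [← hg.2]
            rw [mem_sm, inv_smul_smul]⟩ }
      have hmem : ∀ g ∈ L, (∀ u ∈ U, g • u ∈ U) → g ∈ P0 := fun g hg hu => ⟨hg, by
        refine eq_of_le_of_card_ge_add ?_ (card_sm g U).ge
        rintro _ ⟨u, hu', rfl⟩; exact hu u hu'⟩
      have hle : L ≤ P0 := by
        conv_lhs => rw [← h.gen x hx hxN]
        refine sup_le (sup_le (fun a ha => hmem a (h.le ha) fun u hu => ?_) ?_)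
          (fun r hr => hmem r (core_le hr) fun u hu => by rwa [(hUS hu) r hr])
        · rw [show a • u = dm a u + u from (sub_add_cancel _ _).symm]
          refine U.add_mem (AddSubgroup.mem_sup_left ⟨h.quad ha u, ?_⟩) hu
          rw [dm_apply]
          exact S.sub_mem (h.smul_mem_fxR (h.le ha) (hUS hu)) (hUS hu)
        · rintro _ ⟨a, ha, rfl⟩
          refine hmem _ (h.cj_le hx ⟨a, ha, rfl⟩) fun u hu => ?_
          show (x * a * x⁻¹) • u ∈ U
          rw [show (x * a * x⁻¹) • u = dm (x * a * x⁻¹) u + u from (sub_add_cancel _ _).symm]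
          refine U.add_mem (AddSubgroup.mem_sup_right ?_) hu
          rw [dm_conj]
          refine smul_mem_sm ⟨h.quad ha _, ?_⟩
          rw [dm_apply]
          have := h.smul_mem_fxR (inv_mem hx) (hUS hu)
          exact S.sub_mem (h.smul_mem_fxR (h.le ha) this) this
      intro y hy u hu
      rw [← (hle hy).2]
      exact smul_mem_sm hu
    have regular : ∀ a ∈ A, (∃ y ∈ L, y⁻¹ * a * y ∉ N) → ∀ u ∈ U, dm a u ∈ C0 → u ∈ WS := by
      rintro a ha ⟨y, hy, hya⟩ u hu hd
      have hyN : y ∉ N := fun hm => hya (mul_mem (mul_mem (inv_mem hm) (h.leN ha)) hm)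
      -- `U = WS + y WS`
      have hUy : U = WS ⊔ sm y WS := by
        have hyU : sm y WS ≤ U := by
          rintro _ ⟨w, hw, rfl⟩
          exact hUinv y hy w (AddSubgroup.mem_sup_left hw)
        refine (eq_of_le_of_card_ge_add (sup_le le_sup_left hyU) ?_).symm
        have e1 := card_sup_inf WS (sm x WS)
        have e2 := card_sup_inf WS (sm y WS)
        rw [le_antisymm (meet x hx hxN) (le_inf hC0W (hC0sm x hx)), card_sm] at e1
        rw [le_antisymm (meet y hy hyN) (le_inf hC0W (hC0sm y hy)), card_sm, ← e1] at e2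
        exact (Nat.eq_of_mul_eq_mul_right Nat.card_pos e2).ge
      rw [hUy] at hu
      obtain ⟨w, hw, t, ht, rfl⟩ := AddSubgroup.mem_sup.1 hu
      rw [map_add, dm_eq_zero.2 (hw.1 a ha), zero_add] at hd
      refine WS.add_mem hw (hC0W ?_)
      refine meet' y hy (a * y) (mul_mem (h.le ha) hy) (by rwa [← mul_assoc]) ⟨ht, mem_sm.2 ?_⟩
      rw [mul_inv_rev, mul_smul]
      have h3 : a⁻¹ • t = t - dm a t := by
        rw [inv_smul_eq_iff, smul_sub, hd a (h.le ha), dm_apply, sub_sub_cancel]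
      rw [h3, smul_sub]
      refine WS.sub_mem (mem_sm.1 ht) ?_
      rw [hd _ (inv_mem hy)]
      exact hC0W hd
    obtain ⟨z, hz, hzC⟩ := h.moved
    rw [fx_sup] at hz
    have hxz : x • z ∈ U := AddSubgroup.mem_sup_right (smul_mem_sm ⟨hz.1, hz.2⟩)
    have hxzW : x • z ∉ WS := fun hm => hzC (by
      have h1 := meet x hx hxN ⟨hm, smul_mem_sm ⟨hz.1, hz.2⟩⟩
      have h2 := h1 x⁻¹ (inv_mem hx)
      rw [inv_smul_smul] at h2
      exact h2 ▸ h1)
    -- `|A| |C0| ≤ |A ∩ R| |WS|`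
    have hcard : Nat.card A * Nat.card C0 ≤ Nat.card (A ⊓ R : Subgroup H) * Nat.card WS := by
      have hd : ∀ a ∈ A, dm a (x • z) ∈ WS := fun a ha => ⟨h.quad ha _, by
        rw [dm_apply]; exact S.sub_mem (h.smul_mem_fxR (h.le ha) (hUS hxz)) (hUS hxz)⟩
      let f : Additive ↥A →+ V ⧸ C0 :=
        { toFun := fun a => QuotientAddGroup.mk (dm ((Additive.toMul a : ↥A) : H) (x • z))
          map_zero' := by
            show QuotientAddGroup.mk (dm (1 : H) (x • z)) = _
            rw [dm_apply, one_smul, sub_self]; rfl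
          map_add' := fun a b => by
            rw [← QuotientAddGroup.mk_add]
            congr 1
            show dm (((Additive.toMul a : ↥A) : H) * _) _ = _
            rw [dm_mul, (h.quad (Additive.toMul b).2 _) _ (Additive.toMul a).2, add_comm] }
      let π : ↥WS →+ V ⧸ C0 := (QuotientAddGroup.mk' C0).comp WS.subtype
      have hle : f.range ≤ π.range := by
        rintro _ ⟨a, rfl⟩
        exact ⟨⟨_, hd _ (Additive.toMul a).2⟩, rfl⟩
      have hπk : Nat.card π.ker = Nat.card C0 := Nat.card_congr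
        { toFun := fun w => ⟨((w : WS) : V), (QuotientAddGroup.eq_zero_iff _).1 w.2⟩
          invFun := fun w => ⟨⟨w, hC0W w.2⟩, (QuotientAddGroup.eq_zero_iff _).2 w.2⟩
          left_inv := fun _ => rfl
          right_inv := fun _ => rfl }
      have hfk : Nat.card f.ker ≤ Nat.card (A ⊓ R : Subgroup H) := by
        refine Nat.card_le_card_of_injective
          (fun a => (⟨((Additive.toMul (a : Additive ↥A) : ↥A) : H), (Additive.toMul (a : Additive ↥A)).2, ?_⟩ :
            ↥(A ⊓ R))) ?_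
        · by_contra hR
          exact hxzW (regular _ (Additive.toMul (a : Additive ↥A)).2
            (h.out_of_notMem (Additive.toMul (a : Additive ↥A)).2 hR) _ hxz
            ((QuotientAddGroup.eq_zero_iff _).1 a.2))
        · intro a b e
          exact Subtype.ext (Additive.toMul.injective (Subtype.ext (congrArg Subtype.val e :)))
      rw [← Nat.card_congr (Additive.ofMul : ↥A ≃ Additive ↥A).symm,
        AddSubgroup.card_eq_card_quotient_mul_card_addSubgroup f.ker,
        Nat.card_congr (QuotientAddGroup.quotientKerEquivRange f).toEquiv,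
        AddSubgroup.card_eq_card_quotient_mul_card_addSubgroup π.ker,
        Nat.card_congr (QuotientAddGroup.quotientKerEquivRange π).toEquiv, hπk]
      calc Nat.card f.range * Nat.card f.ker * Nat.card C0
          ≤ Nat.card π.range * Nat.card (A ⊓ R : Subgroup H) * Nat.card C0 := by
            have := card_le_of_le_add hle; gcongr
        _ = _ := by ring
    have hUcard : Nat.card WS * Nat.card WS ≤ Nat.card U * Nat.card C0 := by
      have e := card_sup_inf WS (sm x WS)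
      rw [card_sm] at e
      rw [← e]
      exact Nat.mul_le_mul_left _ (card_le_of_le_add (meet x hx hxN))
    have hWU : W ⊓ U = WS :=
      le_antisymm (le_inf inf_le_left (inf_le_right.trans hUS)) (le_inf inf_le_left le_sup_left)
    have eWU := card_sup_inf W U
    rw [hWU] at eWU
    have hA0 : A ⊓ R = ⊥ := by
      by_contra hne
      have hneA : A ⊓ R ≠ A := fun e => hxN (h.coreN (by
        have hAR : A ≤ R := inf_eq_left.1 e
        refine (sup_le (sup_le hAR ?_) le_rfl) ((h.gen x hx hxN).ge hx)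
        rintro _ ⟨a, ha, rfl⟩
        exact conj_core hx (hAR ha)))
      have h1 := h.strict _ inf_le_left hne hneA
      have h2 : Nat.card (W ⊔ U : AddSubgroup V) ≤ Nat.card (fx (V := V) (A ⊓ R)) :=
        card_le_of_le_add (sup_le (fx_anti inf_le_left) (hUS.trans (fx_anti inf_le_right)))
      have hWpos : 0 < Nat.card W := Nat.card_pos
      have hWSpos : 0 < Nat.card WS := Nat.card_pos
      have h3 : Nat.card (A ⊓ R : Subgroup H) * Nat.card U < Nat.card A * Nat.card WS := by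
        refine Nat.lt_of_mul_lt_mul_left (a := Nat.card W) ?_
        calc Nat.card W * (Nat.card (A ⊓ R : Subgroup H) * Nat.card U)
            = Nat.card (A ⊓ R : Subgroup H) * Nat.card (W ⊔ U : AddSubgroup V) * Nat.card WS := by
              rw [mul_assoc _ (Nat.card (W ⊔ U : AddSubgroup V)), eWU]; ring
          _ < Nat.card A * Nat.card W * Nat.card WS :=
              Nat.mul_lt_mul_of_pos_right ((Nat.mul_le_mul_left _ h2).trans_lt h1) hWSpos
          _ = _ := by ring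
      have h4 : Nat.card (A ⊓ R : Subgroup H) * Nat.card WS * Nat.card WS <
          Nat.card A * Nat.card C0 * Nat.card WS := by
        calc Nat.card (A ⊓ R : Subgroup H) * Nat.card WS * Nat.card WS
            ≤ Nat.card (A ⊓ R : Subgroup H) * Nat.card U * Nat.card C0 := by
              rw [mul_assoc, mul_assoc]; exact Nat.mul_le_mul_left _ hUcard
          _ < Nat.card A * Nat.card WS * Nat.card C0 :=
              Nat.mul_lt_mul_of_pos_right h3 Nat.card_pos
          _ = _ := by ring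
      exact absurd hcard (Nat.lt_of_mul_lt_mul_right h4).not_ge
    rw [hA0, Subgroup.card_bot, one_mul] at hcard
    have i1 : Nat.card (W ⊔ U : AddSubgroup V) ≤ Nat.card V := card_le_add _
    have i2 : Nat.card A * Nat.card W ≤ Nat.card (W ⊔ U : AddSubgroup V) := by
      refine Nat.le_of_mul_le_mul_right (c := Nat.card WS * Nat.card C0) ?_
        (Nat.mul_pos Nat.card_pos Nat.card_pos)
      calc Nat.card A * Nat.card W * (Nat.card WS * Nat.card C0)
          = (Nat.card A * Nat.card C0) * (Nat.card W * Nat.card WS) := by ring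
        _ ≤ Nat.card WS * (Nat.card W * Nat.card WS) := Nat.mul_le_mul_right _ hcard
        _ = Nat.card W * (Nat.card WS * Nat.card WS) := by ring
        _ ≤ Nat.card W * (Nat.card U * Nat.card C0) := Nat.mul_le_mul_left _ hUcard
        _ = (Nat.card W * Nat.card U) * Nat.card C0 := by ring
        _ = _ := by rw [← eWU]; ring
    have hexact : Nat.card A * Nat.card W = Nat.card V := le_antisymm (i2.trans i1) h.bound
    have hWUtop : W ⊔ U = ⊤ := eq_top_of_card_ge (h.bound.trans i2)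
    have hWx : W ⊔ sm x W = ⊤ := top_le_iff.1 (hWUtop.ge.trans (sup_le le_sup_left
      (sup_le (inf_le_left.trans le_sup_left)
        (((hWScj x hx).trans inf_le_left).trans le_sup_right))))
    have hWC : Nat.card W = Nat.card A * Nat.card (W ⊓ sm x W : AddSubgroup V) := by
      have e := card_sup_inf W (sm x W)
      rw [hWx, card_top_add, card_sm, ← hexact] at e
      have : Nat.card W * (Nat.card A * Nat.card (W ⊓ sm x W : AddSubgroup V)) =
          Nat.card W * Nat.card W := by rw [← e]; ring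
      exact (Nat.eq_of_mul_eq_mul_left Nat.card_pos this).symm
    have hout : ∀ a ∈ A, a ≠ 1 → ∃ y ∈ L, y⁻¹ * a * y ∉ N := fun a ha ha1 =>
      h.out_of_notMem ha fun hR => ha1 (mem_bot.1 (hA0.le ⟨ha, hR⟩))
    have hreg : ∀ a ∈ A, a ≠ 1 → ∀ v : V, dm a v ∈ W ⊓ sm x W → v ∈ W := by
      intro a ha ha1 v hv
      obtain ⟨w, hw, t, ht, rfl⟩ := AddSubgroup.mem_sup.1 (hWUtop.ge (AddSubgroup.mem_top v))
      rw [map_add, dm_eq_zero.2 (hw a ha), zero_add] at hv
      refine W.add_mem hw (regular a ha (hout a ha ha1) t ht ((hgenfx x hx hxN).le ⟨hv, ?_⟩)).1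
      rw [dm_apply]
      exact S.sub_mem (h.smul_mem_fxR (h.le ha) (hUS ht)) (hUS ht)
    have hWdec : W = (W ⊓ sm x W) ⊔ WS := by
      refine (eq_of_le_of_card_ge_add (sup_le inf_le_left inf_le_left) ?_).symm
      have e := card_sup_inf (W ⊓ sm x W) WS
      have hmeetC : (W ⊓ sm x W) ⊓ WS ≤ C0 := fun v hv => (hgenfx x hx hxN).le ⟨hv.1, hv.2.2⟩
      refine Nat.le_of_mul_le_mul_right (c := Nat.card C0) ?_ Nat.card_pos
      calc Nat.card W * Nat.card C0
          = Nat.card (W ⊓ sm x W : AddSubgroup V) * (Nat.card A * Nat.card C0) := by rw [hWC]; ring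
        _ ≤ Nat.card (W ⊓ sm x W : AddSubgroup V) * Nat.card WS := Nat.mul_le_mul_left _ hcard
        _ ≤ _ := by rw [← e]; exact Nat.mul_le_mul_left _ (card_le_of_le_add hmeetC)
    exact ⟨hA0, hexact, hWx, hWC, hreg, hWUtop, hWdec⟩
  obtain ⟨x₀, hx₀, hx₀N⟩ := h.out
  refine ⟨(main x₀ hx₀ hx₀N).1, (main x₀ hx₀ hx₀N).2.1, fun x hx hxN => ?_⟩
  obtain ⟨-, -, h3, h4, h5, h6, h7⟩ := main x hx hxN
  have e : fx (V := V) (A ⊔ cj x A) = W ⊓ sm x W := by rw [fx_sup, fx_cj]
  refine ⟨h3, e ▸ h4, fun a ha ha1 v hv => h5 a ha ha1 v (e ▸ hv), fun g hg hgR hC => ?_⟩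
  refine eq_one_of_dm (V := V) fun v => ?_
  have hker : W ⊔ (WS ⊔ sm x WS) ≤ (dm g).ker := by
    have hSk : S ≤ (dm g).ker := fun w hw => dm_eq_zero.2 (hw g hgR)
    refine sup_le ?_ (sup_le (inf_le_right.trans hSk) ((hWScj x hx).trans (inf_le_right.trans hSk)))
    rw [h7]
    exact sup_le (fun w hw => dm_eq_zero.2 (hC w (e.ge hw))) (inf_le_right.trans hSk)
  exact hker (h6.ge (AddSubgroup.mem_top v))

/-- A pair generating `SL₂(|A|)` exists. -/
theorem exists_pair : ∃ x ∈ L, x ∉ N ∧ Pair V A x ∧ Nat.card (A ⊔ cj x A : Subgroup H) ≤ Nat.card L := by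
  classical
  obtain ⟨hA0, hexact, hmain⟩ := h.count
  obtain ⟨x, ⟨hx, hxN⟩, hxmin⟩ := Set.exists_min_image {y | y ∈ L ∧ y ∉ N}
    (fun y => Nat.card (A ⊔ cj y A : Subgroup H)) (Set.toFinite _) h.out
  have hL'L : A ⊔ cj x A ≤ L := sup_le h.le (h.cj_le hx)
  refine ⟨x, hx, hxN, ?_, card_le_of_le hL'L⟩
  obtain ⟨hspan, hcardW, hreg, hfaith⟩ := hmain x hx hxN
  set L' := A ⊔ cj x A with hL'
  set C : AddSubgroup V := fx L' with hC
  refine ⟨fun a ha v => h.quad ha v, hexact, hspan, hcardW, hreg, ?_⟩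
  have hxL' : x ∈ L := hx
  have hgen : ∀ y ∈ L', y ∉ N → A ⊔ cj y A = L' := by
    intro y hy hyN
    have hle : A ⊔ cj y A ≤ L' := sup_le le_sup_left (by
      rintro _ ⟨a, ha, rfl⟩
      exact mul_mem (mul_mem hy (mem_sup_left ha)) (inv_mem hy))
    exact eq_of_le_of_card_ge hle (hxmin y ⟨hL'L hy, hyN⟩)
  -- the kernel of the action modulo `C`
  let Kk : Subgroup ↥L' :=
    { carrier := {g | ∀ v : V, dm (g : H) v ∈ C}
      one_mem' := fun v => by rw [OneMemClass.coe_one, dm_apply, one_smul, sub_self]; exact C.zero_mem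
      mul_mem' := fun {g k} hg hk v => by
        rw [Subgroup.coe_mul, dm_mul, (hk v) _ g.2]; exact C.add_mem (hk v) (hg v)
      inv_mem' := fun {g} hg v => by
        rw [Subgroup.coe_inv, dm_inv, (hg v) _ (inv_mem g.2)]; exact C.neg_mem (hg v) }
  have hKkstb : ∀ g ∈ Kk, (g : H) ∈ stb C := fun g hg => ⟨fun v hv => hv _ g.2, hg⟩
  have hKk : Kk = ⊥ := by
    refine (Subgroup.eq_bot_iff_forall _).2 fun g hg => Subtype.ext ?_
    refine hfaith g g.2 ?_ fun v hv => hv _ g.2
    -- the kernel is a `p`-group normalised by `L`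
    set R := Cfsg.pCoreOf p L with hR
    let KH : Subgroup H := Kk.map L'.subtype
    have hKp : IsPGroup p ↥(KH ⊔ R) := by
      refine IsPGroup.to_sup_of_normal_right' ?_ ((Core.pCore_isPGroup).map _) ?_
      · exact (Thompson.ea_isPGroup (ea_stb h.hp C)).to_le (by
          rintro _ ⟨k, hk, rfl⟩; exact hKkstb k hk)
      · rintro _ ⟨k, -, rfl⟩
        exact Subgroup.mem_normalizer_iff.2 fun r =>
          ⟨fun hr => conj_core (hL'L k.2) hr, fun hr => by
            simpa [mul_assoc] using conj_core (L.inv_mem (hL'L k.2)) hr⟩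
    have hKL : KH ⊔ R ≤ L := sup_le ((map_subtype_le _).trans hL'L) core_le
    haveI hn : ((KH ⊔ R).subgroupOf L).Normal := by
      refine (normal_subgroupOf_iff_le_normalizer hKL).2 ?_
      conv_lhs => rw [← h.gen x hx hxN, ← hL']
      refine sup_le ?_ (le_sup_right.trans le_normalizer)
      refine Subgroup.le_normalizer_iff.mpr fun y hy k hk => ?_
      have hle : KH ⊔ R ≤ (KH ⊔ R).comap (MulAut.conj y).toMonoidHom := by
        refine sup_le ?_ fun r hr => mem_sup_right (conj_core (hL'L hy) hr)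
        rintro _ ⟨k', hk', rfl⟩
        refine mem_sup_left ⟨⟨y, hy⟩ * k' * ⟨y, hy⟩⁻¹, fun v => ?_, rfl⟩
        rw [Subgroup.coe_mul, Subgroup.coe_mul, Subgroup.coe_inv, dm_conj, (hk' _) _ hy]
        exact hk' _
      exact hle hk
    have := Core.le_pCore (N := (KH ⊔ R).subgroupOf L)
      (hKp.comap_of_injective L.subtype L.subtype_injective)
      (show (⟨(g : H), hL'L g.2⟩ : ↥L) ∈ (KH ⊔ R).subgroupOf L from mem_sup_left ⟨g, hg, rfl⟩)
    exact ⟨_, this, rfl⟩
  let cv : ↥L' → (V →+ V) := fun y => DistribSMul.toAddMonoidHom V (y : H)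
  have hcvC : ∀ y : ↥L', C ≤ C.comap (cv y) := fun y v hv => by
    show (y : H) • v ∈ C
    rw [hv _ y.2]; exact hv
  let f : ↥L' → V ⧸ C →+ V ⧸ C := fun y => QuotientAddGroup.map C C (cv y) (hcvC y)
  have hf : ∀ (y : ↥L') (v : V), f y (QuotientAddGroup.mk v) = QuotientAddGroup.mk ((y : H) • v) :=
    fun _ _ => rfl
  have hmk : ∀ u v : V, (QuotientAddGroup.mk u : V ⧸ C) = QuotientAddGroup.mk v → u - v ∈ C :=
    fun u v e => by
      rw [← QuotientAddGroup.eq_zero_iff, QuotientAddGroup.mk_sub, e, sub_self]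
  let Ws : AddSubgroup (V ⧸ C) := (fx A).map (QuotientAddGroup.mk' C)
  have hCW : C ≤ fx A := fx_anti le_sup_left
  have hWs : ∀ v : V, (QuotientAddGroup.mk v : V ⧸ C) ∈ Ws ↔ v ∈ fx A := by
    intro v
    refine ⟨?_, fun hv => ⟨v, hv, rfl⟩⟩
    rintro ⟨w, hw, e⟩
    have := (fx A).sub_mem hw (hCW (hmk w v e))
    rwa [sub_sub_cancel] at this
  let A' : Subgroup ↥L' := A.subgroupOf L'
  let N' : Subgroup ↥L' := N.subgroupOf L'
  have hcardA' : Nat.card A' = Nat.card A :=
    Nat.card_congr (Subgroup.subgroupOfEquivOfLe le_sup_left).toEquiv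
  have hcardWs : Nat.card Ws = Nat.card A' := by
    let g : ↥(fx (V := V) A) →+ V ⧸ C := (QuotientAddGroup.mk' C).comp (fx A).subtype
    have hrg : g.range = Ws := by
      ext q
      constructor
      · rintro ⟨w, rfl⟩; exact ⟨w, w.2, rfl⟩
      · rintro ⟨w, hw, rfl⟩; exact ⟨⟨w, hw⟩, rfl⟩
    have hk : Nat.card g.ker = Nat.card C := Nat.card_congr
      { toFun := fun w => ⟨((w : fx (V := V) A) : V), (QuotientAddGroup.eq_zero_iff _).1 w.2⟩
        invFun := fun w => ⟨⟨w, hCW w.2⟩, (QuotientAddGroup.eq_zero_iff _).2 w.2⟩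
        left_inv := fun _ => rfl
        right_inv := fun _ => rfl }
    have e := AddSubgroup.card_eq_card_quotient_mul_card_addSubgroup g.ker
    rw [Nat.card_congr (QuotientAddGroup.quotientKerEquivRange g).toEquiv, hrg, hk, hcardW] at e
    rw [hcardA']
    exact (Nat.eq_of_mul_eq_mul_right Nat.card_pos e).symm
  obtain ⟨y', hy', hy'N⟩ : ∃ y ∈ L', y ∉ N := by
    by_contra hcon
    push Not at hcon
    exact hxN (sup_le (hcon : L' ≤ N) h.coreN ((h.gen x hx hxN).ge hx))
  have hgen' : A' ⊔ A'.map (MulAut.conj (⟨y', hy'⟩ : ↥L')).toMonoidHom = ⊤ := by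
    apply Subgroup.map_injective L'.subtype_injective
    rw [Subgroup.map_sup, Subgroup.map_map,
      show L'.subtype.comp (MulAut.conj (⟨y', hy'⟩ : ↥L')).toMonoidHom =
        (MulAut.conj y').toMonoidHom.comp L'.subtype from MonoidHom.ext fun _ => rfl,
      ← Subgroup.map_map, Subgroup.subgroupOf_map_subtype, inf_eq_left.2 le_sup_left,
      ← MonoidHom.range_eq_map, Subgroup.range_subtype]
    exact hgen y' hy' hy'N
  have hA'1 : A' ≠ ⊥ := fun e => h.ne_bot (by
    rw [← inf_eq_left.2 (le_sup_left : A ≤ L'), ← Subgroup.subgroupOf_map_subtype,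
      show A.subgroupOf L' = ⊥ from e, Subgroup.map_bot])
  obtain ⟨K, _, _, hK, ρ, μ, hρ⟩ := PMinOff.recognise_additive
    (fun q : V ⧸ C => by
      obtain ⟨v, rfl⟩ := QuotientAddGroup.mk_surjective q
      rw [← QuotientAddGroup.mk_nsmul, h.hp]; rfl)
    f
    (fun q => by
      obtain ⟨v, rfl⟩ := QuotientAddGroup.mk_surjective q
      rw [hf, OneMemClass.coe_one, one_smul])
    (fun y z q => by
      obtain ⟨v, rfl⟩ := QuotientAddGroup.mk_surjective q
      rw [hf, hf, hf, Subgroup.coe_mul, mul_smul])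
    (fun y hy => by
      have : y ∈ Kk := fun v => hmk _ _ (hy (QuotientAddGroup.mk v))
      rwa [hKk, Subgroup.mem_bot] at this)
    A' N' ⟨y', hy'⟩ Ws hgen' (fun a ha => h.leN ha) hy'N hA'1
    (by
      intro a ha q hq
      obtain ⟨v, rfl⟩ := QuotientAddGroup.mk_surjective q
      rw [hf]
      exact congrArg _ ((hWs v).1 hq _ ha))
    (by
      intro a ha q
      obtain ⟨v, rfl⟩ := QuotientAddGroup.mk_surjective q
      rw [hf, ← QuotientAddGroup.mk_sub, hWs]
      exact h.quad ha v)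
    (by
      intro a ha ha1 q hq
      obtain ⟨v, rfl⟩ := QuotientAddGroup.mk_surjective q
      exact (hWs v).2 (hreg a ha (fun e => ha1 (Subtype.ext e)) v (hmk _ _ hq)))
    hcardWs
    (by
      intro q
      obtain ⟨v, rfl⟩ := QuotientAddGroup.mk_surjective q
      obtain ⟨w, hw, t, ht, rfl⟩ := AddSubgroup.mem_sup.1
        ((hmain y' (hL'L hy') hy'N).1.ge (AddSubgroup.mem_top v))
      refine ⟨_, (hWs w).2 hw, _, (hWs (y'⁻¹ • t)).2 (mem_sm.1 ht), ?_⟩
      rw [hf, ← QuotientAddGroup.mk_add, smul_inv_smul])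
    (by
      intro y hy q hq hq'
      obtain ⟨v, rfl⟩ := QuotientAddGroup.mk_surjective q
      rw [hf] at hq' ⊢
      rw [QuotientAddGroup.eq_zero_iff, hC]
      refine (congrArg (fx (V := V)) (hgen y y.2 hy)).le ?_
      rw [fx_sup, fx_cj]
      exact ⟨(hWs _).1 hq', smul_mem_sm ((hWs v).1 hq)⟩)
  refine ⟨K, inferInstance, inferInstance, hK.trans hcardA', ρ,
    (μ.symm : V ⧸ C →+ (Fin 2 → K)).comp (QuotientAddGroup.mk' C),
    μ.symm.surjective.comp QuotientAddGroup.mk_surjective, fun v => ?_, fun e v => ?_⟩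
  · exact μ.symm.map_eq_zero_iff.trans (QuotientAddGroup.eq_zero_iff v)
  · show μ.symm (QuotientAddGroup.mk ((e : H) • v)) = _
    rw [← hf, AddEquiv.symm_apply_eq]
    conv_lhs => rw [← μ.apply_symm_apply (QuotientAddGroup.mk v)]
    exact hρ e _

end Gen

end Cfsg.Agent.FFStruct
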