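import Cfsg.Agent.FFStruct.Clique

/-!
# From one component to the whole system
-/

set_option autoImplicit false
set_option linter.unusedSectionVars false
set_option linter.style.haveILetI false

namespace Cfsg.Agent.FFStruct

open Subgroup Matrix
open scoped Pointwise MatrixGroups

variable {H : Type*} [Group H] {V : Type*} [AddCommGroup V] [DistribMulAction H V]

/-- The commutator of the module with a subgroup. -/
def cm (E : Subgroup H) : AddSubgroup V := ⨆ e : E, (dm (V := V) (e : H)).range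

theorem dm_mem_cm {E : Subgroup H} {e : H} (he : e ∈ E) (v : V) : dm e v ∈ cm (V := V) E :=
  le_iSup (fun e : E => (dm (V := V) (e : H)).range) ⟨e, he⟩ ⟨v, rfl⟩

theorem cm_le_iff {E : Subgroup H} {I : AddSubgroup V} :
    cm (V := V) E ≤ I ↔ ∀ e ∈ E, ∀ v : V, dm e v ∈ I := by
  refine ⟨fun hle e he v => hle (dm_mem_cm he v), fun hI => iSup_le fun e => ?_⟩
  rintro _ ⟨v, rfl⟩
  exact hI e e.2 v

theorem cm_cj (g : H) (E : Subgroup H) : cm (V := V) (cj g E) = sm g (cm (V := V) E) := by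
  refine le_antisymm (cm_le_iff.2 ?_) (AddSubgroup.map_le_iff_le_comap.2 (cm_le_iff.2 fun e he v => ?_))
  · rintro _ ⟨e, he, rfl⟩ v
    show dm (g * e * g⁻¹) v ∈ _
    rw [dm_conj]
    exact smul_mem_sm (dm_mem_cm he _)
  · show g • dm e v ∈ cm (V := V) (cj g E)
    rw [show v = g⁻¹ • g • v from (inv_smul_smul g v).symm, ← dm_conj]
    exact dm_mem_cm (conj_mem_cj he) _

/-- Elements commuting with `F` preserve its fixed points. -/
theorem smul_mem_fx_of_commute {F : Subgroup H} {g : H} (hg : ∀ f ∈ F, f * g = g * f) {v : V}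
    (hv : v ∈ fx (V := V) F) : g • v ∈ fx F := fun f hf => by
  rw [← mul_smul, hg f hf, mul_smul, hv f hf]

/-- The elements whose commutators lie in the fixed points of a commuting subgroup form a group. -/
theorem cm_sup_le {F : Subgroup H} {X Y : Subgroup H} (hX : X ≤ centralizer (F : Set H))
    (hY : Y ≤ centralizer (F : Set H)) (hX' : cm (V := V) X ≤ fx F) (hY' : cm (V := V) Y ≤ fx F) :
    cm (V := V) (X ⊔ Y) ≤ fx F := by
  let P0 : Subgroup H :=
    { carrier := {e | e ∈ centralizer (F : Set H) ∧ ∀ v : V, dm e v ∈ fx F}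
      one_mem' := ⟨one_mem _, fun v => by rw [dm_apply, one_smul, sub_self]; exact zero_mem _⟩
      mul_mem' := fun {a b} ha hb => ⟨mul_mem ha.1 hb.1, fun v => by
        rw [dm_mul]
        exact add_mem (smul_mem_fx_of_commute (mem_centralizer_iff.1 ha.1) (hb.2 v)) (ha.2 v)⟩
      inv_mem' := fun {a} ha => ⟨inv_mem ha.1, fun v => by
        rw [dm_inv]
        exact neg_mem (smul_mem_fx_of_commute (mem_centralizer_iff.1 (inv_mem ha.1)) (ha.2 v))⟩ }
  have hle : X ⊔ Y ≤ P0 := sup_le (fun e he => ⟨hX he, cm_le_iff.1 hX' e he⟩)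
    (fun e he => ⟨hY he, cm_le_iff.1 hY' e he⟩)
  exact cm_le_iff.2 fun e he => (hle he).2

variable (V) in
/-- `E` is `SL₂(pⁿ)` on a natural module, or a symmetric group of odd degree on an even permutation
module, modulo the fixed points. -/
def IsMod (p : ℕ) (E : Subgroup H) : Prop :=
  ∃ n : ℕ, 1 ≤ n ∧
    ((∃ (K : Type) (_ : Field K) (_ : Fintype K), Fintype.card K = p ^ n ∧
      ∃ (ρ : ↥E ≃* SL(2, K)) (ψ : V →+ (Fin 2 → K)), Function.Surjective ψ ∧
        (∀ v, ψ v = 0 ↔ v ∈ fx E) ∧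
        ∀ (e : ↥E) (v : V), ψ ((e : H) • v) = (ρ e : Matrix (Fin 2) (Fin 2) K).mulVec (ψ v)) ∨
    (p = 2 ∧ ∃ (ρ : ↥E ≃* Equiv.Perm (Fin (2 ^ n + 1))) (ψ : V →+ (Fin (2 ^ n + 1) → ZMod 2)),
        (∀ v, ∑ i, ψ v i = 0) ∧ (∀ f : Fin (2 ^ n + 1) → ZMod 2, ∑ i, f i = 0 → ∃ v, ψ v = f) ∧
        (∀ v, ψ v = 0 ↔ v ∈ fx E) ∧
        ∀ (e : ↥E) (v : V) i, ψ ((e : H) • v) i = ψ v ((ρ e)⁻¹ i)))

/-- Conjugation as an isomorphism onto the conjugate. -/
noncomputable def cjEquiv (g : H) (E : Subgroup H) : ↥E ≃* ↥(cj g E) :=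
  E.equivMapOfInjective (MulAut.conj g).toMonoidHom (MulAut.conj g).injective

theorem cjEquiv_coe (g : H) (E : Subgroup H) (e : ↥E) : (cjEquiv g E e : H) = g * e * g⁻¹ :=
  Subgroup.coe_equivMapOfInjective_apply E _ _ e

theorem cjEquiv_symm_coe (g : H) (E : Subgroup H) (e : ↥(cj g E)) :
    ((cjEquiv g E).symm e : H) = g⁻¹ * e * g := by
  have := cjEquiv_coe g E ((cjEquiv g E).symm e)
  rw [MulEquiv.apply_symm_apply] at this
  rw [this]; group

theorem smul_of_symm (g : H) (E : Subgroup H) (e : ↥(cj g E)) (v : V) :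
    g⁻¹ • (e : H) • v = ((cjEquiv g E).symm e : H) • g⁻¹ • v := by
  rw [cjEquiv_symm_coe, ← mul_smul, ← mul_smul]; congr 1; group

theorem IsMod.cj {p : ℕ} {E : Subgroup H} (hE : IsMod V p E) (g : H) :
    IsMod V p (FFStruct.cj g E) := by
  obtain ⟨n, hn, hcase⟩ := hE
  have hfx : ∀ v : V, g⁻¹ • v ∈ fx (V := V) E ↔ v ∈ fx (FFStruct.cj g E) := fun v => by
    rw [fx_cj, mem_sm]
  refine ⟨n, hn, hcase.imp ?_ ?_⟩
  · rintro ⟨K, i1, i2, hK, ρ, ψ, hs, hk, heq⟩
    refine ⟨K, i1, i2, hK, (cjEquiv g E).symm.trans ρ,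
      ψ.comp (DistribSMul.toAddMonoidHom V g⁻¹), hs.comp (MulAction.surjective g⁻¹),
      fun v => (hk _).trans (hfx v), fun e v => ?_⟩
    show ψ (g⁻¹ • (e : H) • v) = _
    rw [smul_of_symm, heq]
    rfl
  · rintro ⟨hp, ρ, ψ, he, hs, hk, heq⟩
    refine ⟨hp, (cjEquiv g E).symm.trans ρ, ψ.comp (DistribSMul.toAddMonoidHom V g⁻¹),
      fun v => he _, fun f hf => ?_, fun v => (hk _).trans (hfx v), fun e v i => ?_⟩
    · obtain ⟨v, rfl⟩ := hs f hf
      exact ⟨g • v, congrArg ψ (inv_smul_smul g v)⟩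
    · show ψ (g⁻¹ • (e : H) • v) i = _
      rw [smul_of_symm, heq]
      rfl

theorem three_le (n : ℕ) (hn : 1 ≤ n) : 3 ≤ 2 ^ n + 1 := by
  have := Nat.pow_le_pow_right (show 1 ≤ 2 by omega) hn
  omega

theorem exists_third {m : ℕ} (hm : 3 ≤ m) (i j : Fin m) : ∃ k, k ≠ i ∧ k ≠ j := by
  by_contra hcon
  push Not at hcon
  have h1 := Finset.card_le_card (show (Finset.univ : Finset (Fin m)) ⊆ {i, j} from fun k _ => by
    by_cases h : k = i
    · simp [h]
    · simp [hcon k h])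
  rw [Finset.card_univ, Fintype.card_fin] at h1
  have h2 := Finset.card_le_two (a := i) (b := j)
  omega

/-- The model is faithful. -/
theorem IsMod.eq_one {p : ℕ} {E : Subgroup H} (hE : IsMod V p E) {e : H} (he : e ∈ E)
    (hd : ∀ v : V, dm e v ∈ fx E) : e = 1 := by
  obtain ⟨n, hn, ⟨K, i1, i2, hK, ρ, ψ, hs, hk, heq⟩ | ⟨hp, ρ, ψ, hev, hs, hk, heq⟩⟩ := hE
  · have h1 : ρ ⟨e, he⟩ = 1 := by
      refine Matrix.SpecialLinearGroup.ext _ _ fun i j => ?_
      obtain ⟨v, hv⟩ := hs (Pi.single j 1)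
      have h2 : ψ (e • v) = ψ v := sub_eq_zero.1 (by rw [← map_sub]; exact (hk _).2 (hd v))
      rw [show e • v = ((⟨e, he⟩ : ↥E) : H) • v from rfl, heq, hv] at h2
      have h3 := congrFun h2 i
      rw [Matrix.mulVec_single_one] at h3
      rw [Matrix.SpecialLinearGroup.coe_one, Matrix.one_apply]
      simpa [Pi.single_apply] using h3
    exact congrArg Subtype.val (ρ.injective (h1.trans ρ.map_one.symm))
  · have h1 : ρ ⟨e, he⟩ = 1 := by
      by_contra hne
      obtain ⟨i, hi⟩ : ∃ i, (ρ ⟨e, he⟩)⁻¹ i ≠ i := by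
        by_contra hcon
        push Not at hcon
        exact hne (inv_eq_one.1 (Equiv.ext hcon))
      obtain ⟨k, hk1, hk2⟩ := exists_third (three_le n hn) i ((ρ ⟨e, he⟩)⁻¹ i)
      obtain ⟨v, hv⟩ := hs (Pi.single i 1 + Pi.single k 1) (by
        simp [Finset.sum_add_distrib]; decide)
      have h2 : ψ (e • v) = ψ v := sub_eq_zero.1 (by rw [← map_sub]; exact (hk _).2 (hd v))
      have h3 := congrFun h2 i
      rw [show e • v = ((⟨e, he⟩ : ↥E) : H) • v from rfl, heq, hv] at h3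
      generalize (ρ ⟨e, he⟩)⁻¹ i = l at h3 hi hk2
      simp [Pi.single_apply, hi, hk1.symm, hk2.symm] at h3
    exact congrArg Subtype.val (ρ.injective (h1.trans ρ.map_one.symm))

/-- The module is the sum of the fixed points and the commutator. -/
theorem IsMod.span {p : ℕ} {E : Subgroup H} (hE : IsMod V p E) :
    (fx E : AddSubgroup V) ⊔ cm E = ⊤ := by
  obtain ⟨n, hn, ⟨K, i1, i2, hK, ρ, ψ, hs, hk, heq⟩ | ⟨hp, ρ, ψ, hev, hs, hk, heq⟩⟩ := hE
  · refine top_le_iff.1 fun v _ => ?_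
    suffices hmem : ∃ u ∈ cm (V := V) E, ψ u = ψ v by
      obtain ⟨u, hu, e⟩ := hmem
      rw [← sub_add_cancel v u]
      exact add_mem (AddSubgroup.mem_sup_left ((hk _).1 (by rw [map_sub, e, sub_self])))
        (AddSubgroup.mem_sup_right hu)
    have key : ∀ (M : SL(2, K)) (f : Fin 2 → K),
        ∃ u ∈ cm (V := V) E, ψ u = (M : Matrix (Fin 2) (Fin 2) K).mulVec f - f := fun M f => by
      obtain ⟨w, rfl⟩ := hs f
      refine ⟨_, dm_mem_cm (ρ.symm M).2 w, ?_⟩
      rw [dm_apply, map_sub, heq, MulEquiv.apply_symm_apply]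
    obtain ⟨u, hu, eu⟩ := key
      (Matrix.SpecialLinearGroup.transvection (show (0 : Fin 2) ≠ 1 by decide) 1) ![0, ψ v 0]
    obtain ⟨u', hu', eu'⟩ := key
      (Matrix.SpecialLinearGroup.transvection (show (1 : Fin 2) ≠ 0 by decide) 1) ![ψ v 1, 0]
    refine ⟨u + u', add_mem hu hu', ?_⟩
    rw [map_add, eu, eu']
    funext i
    fin_cases i <;> simp [Matrix.SpecialLinearGroup.transvection, Matrix.transvection, Matrix.single,
      Matrix.mulVec, dotProduct, Fin.sum_univ_two]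
  · refine top_le_iff.1 fun v _ => ?_
    suffices hmem : ψ v ∈ (cm (V := V) E).map ψ by
      obtain ⟨u, hu, e⟩ := hmem
      rw [← sub_add_cancel v u]
      exact add_mem (AddSubgroup.mem_sup_left ((hk _).1 (by rw [map_sub, e, sub_self])))
        (AddSubgroup.mem_sup_right hu)
    have key : ∀ j, j ≠ 0 →
        (Pi.single j 1 + Pi.single 0 1 : Fin (2 ^ n + 1) → ZMod 2) ∈ (cm (V := V) E).map ψ := by
      intro j hj
      obtain ⟨l, hl1, hl2⟩ := exists_third (three_le n hn) j 0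
      obtain ⟨w, hw⟩ := hs (Pi.single j 1 + Pi.single l 1) (by
        simp [Finset.sum_add_distrib]; decide)
      refine ⟨_, dm_mem_cm (ρ.symm (Equiv.swap 0 j)).2 w, ?_⟩
      rw [dm_apply, map_sub]
      funext i
      rw [Pi.sub_apply, heq, MulEquiv.apply_symm_apply, Equiv.swap_inv, hw]
      have two : (1 : ZMod 2) + 1 = 0 := by decide
      rcases eq_or_ne i 0 with rfl | hi0
      · simp [Pi.single_apply, hj, hj.symm, hl1.symm, hl2.symm]
      rcases eq_or_ne i j with rfl | hij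
      · simp [Pi.single_apply, hj, hj.symm, hl1.symm, hl2.symm]
      · rw [Equiv.swap_apply_of_ne_of_ne hi0 hij]
        simp [Pi.single_apply, hi0, hij]
    have e : ψ v = ∑ j, ψ v j • (Pi.single j 1 + Pi.single 0 1 : Fin (2 ^ n + 1) → ZMod 2) := by
      funext i
      simp only [smul_add, Finset.sum_add_distrib, Pi.add_apply, Finset.sum_apply, Pi.smul_apply,
        smul_eq_mul, Pi.single_apply, mul_ite, mul_one, mul_zero]
      rw [Finset.sum_ite_eq]
      rcases eq_or_ne i 0 with rfl | hi0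
      · simp [hev]
      · simp [hi0]
    rw [e]
    refine sum_mem fun j _ => ?_
    rcases (show ∀ a : ZMod 2, a = 0 ∨ a = 1 by decide) (ψ v j) with h0 | h0
    · rw [h0, zero_smul]; exact zero_mem _
    · rw [h0, one_smul]
      rcases eq_or_ne j 0 with rfl | hj
      · convert zero_mem ((cm (V := V) E).map ψ) using 1
        funext i; exact CharTwo.add_self_eq_zero _
      · exact key j hj

variable (V) in
/-- A transitive system of commuting components. -/
structure SysData (p : ℕ) (T : Subgroup H) {r : ℕ} (E : Fin r → Subgroup H) : Prop where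
  pos : 1 ≤ r
  comm : ∀ i j, i ≠ j → E i ≤ centralizer (E j : Set H)
  cross : ∀ i j, i ≠ j → cm (V := V) (E i) ≤ fx (E j)
  indep : ∀ i, E i ⊓ (⨆ j ∈ {j | j ≠ i}, E j) = ⊥
  top : (⨆ i, E i) ⊔ T = ⊤
  trans : ∀ i j, ∃ t ∈ T, cj t (E i) = E j
  perm : ∀ t ∈ T, ∀ i, ∃ j, cj t (E i) = E j
  dec : (fx (⨆ i, E i) : AddSubgroup V) ⊔ (⨆ i, cm (E i)) = ⊤
  mod : ∀ i, IsMod V p (E i)

variable (V) in
/-- The conclusion. -/
def HasSys (p : ℕ) (T : Subgroup H) : Prop :=
  ∃ (r : ℕ) (E : Fin r → Subgroup H), SysData V p T E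

variable (V) in
/-- One component. -/
structure Seed (p : ℕ) (T M L : Subgroup H) : Prop where
  out : ¬ L ≤ M
  mod : IsMod V p L
  orb : ∀ t ∈ T, cj t L ≠ L →
    cj t L ≤ centralizer (L : Set H) ∧ cm (V := V) (cj t L) ≤ fx L

theorem cj_le_centralizer {g : H} {X Y : Subgroup H} (hXY : X ≤ centralizer (Y : Set H)) :
    cj g X ≤ centralizer (cj g Y : Set H) := by
  rintro _ ⟨x, hx, rfl⟩
  rw [mem_centralizer_iff]
  rintro _ ⟨y, hy, rfl⟩
  rw [← map_mul, ← map_mul, mem_centralizer_iff.1 (hXY hx) y hy]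

theorem Seed.cj {p : ℕ} {T M L : Subgroup H} (hL : Seed V p T M L) (g : H) :
    Seed V p (FFStruct.cj g T) (FFStruct.cj g M) (FFStruct.cj g L) where
  out := fun hle => hL.out (cj_le_iff.1 hle)
  mod := hL.mod.cj g
  orb := by
    rintro _ ⟨t, ht, rfl⟩ hne
    have e : FFStruct.cj ((MulAut.conj g).toMonoidHom t) (FFStruct.cj g L) =
        FFStruct.cj g (FFStruct.cj t L) := by
      rw [cj_cj, cj_cj]; congr 1; simp
    rw [e] at hne ⊢
    obtain ⟨h1, h2⟩ := hL.orb t ht fun e' => hne (by rw [e'])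
    refine ⟨cj_le_centralizer h1, ?_⟩
    rw [cm_cj, fx_cj]
    exact AddSubgroup.map_mono h2

variable [Finite H] [Finite V] [FaithfulSMul H V] {p : ℕ} [Fact p.Prime]

theorem Amb.exists_sys (h : Amb H V p) (T : Sylow p H) {L : Subgroup H}
    (hL : Seed V p (T : Subgroup H) (h.Mx T) L) : ∃ (r : ℕ) (E : Fin r → Subgroup H),
      SysData V p (T : Subgroup H) E ∧ ∀ i, ∃ t, cj t L = E i := by
  classical
  let O : Set (Subgroup H) := (fun t => FFStruct.cj t L) '' (T : Set H)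
  obtain ⟨r, ⟨e⟩⟩ := Finite.exists_equiv_fin O
  let E : Fin r → Subgroup H := fun i => (e.symm i : Subgroup H)
  have hmem : ∀ i, ∃ t ∈ (T : Subgroup H), FFStruct.cj t L = E i := fun i => (e.symm i).2
  have hinj : Function.Injective E := fun i j he => e.symm.injective (Subtype.ext he)
  have hsurj : ∀ t ∈ (T : Subgroup H), ∃ i, E i = FFStruct.cj t L := fun t ht =>
    ⟨e ⟨_, t, ht, rfl⟩, by simp [E]⟩
  have hpair : ∀ i j, i ≠ j →
      E i ≤ centralizer (E j : Set H) ∧ cm (V := V) (E i) ≤ fx (E j) := by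
    intro i j hij
    obtain ⟨t, ht, et⟩ := hmem i
    obtain ⟨s, hs, es⟩ := hmem j
    have hne : FFStruct.cj (s⁻¹ * t) L ≠ L := fun e' => hij (hinj (by
      rw [← et, ← es]
      conv_rhs => rw [← e']
      rw [cj_cj, mul_inv_cancel_left]))
    obtain ⟨h1, h2⟩ := hL.orb _ (mul_mem (inv_mem hs) ht) hne
    have eE : FFStruct.cj s (FFStruct.cj (s⁻¹ * t) L) = E i := by
      rw [cj_cj, mul_inv_cancel_left, et]
    constructor
    · rw [← eE, ← es]; exact cj_le_centralizer h1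
    · rw [← eE, ← es, cm_cj, fx_cj]; exact AddSubgroup.map_mono h2
  have hmod : ∀ i, IsMod V p (E i) := fun i => by
    obtain ⟨t, -, et⟩ := hmem i
    exact et ▸ hL.mod.cj t
  have hothers : ∀ i, (⨆ j ∈ {j | j ≠ i}, E j) ≤ centralizer (E i : Set H) ∧
      cm (V := V) (⨆ j ∈ {j | j ≠ i}, E j) ≤ fx (E i) := by
    intro i
    let P0 : Subgroup H :=
      { carrier := {g | g ∈ centralizer (E i : Set H) ∧ ∀ v : V, dm g v ∈ fx (E i)}
        one_mem' := ⟨one_mem _, fun v => by rw [dm_apply, one_smul, sub_self]; exact zero_mem _⟩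
        mul_mem' := fun {a b} ha hb => ⟨mul_mem ha.1 hb.1, fun v => by
          rw [dm_mul]
          exact add_mem (smul_mem_fx_of_commute (mem_centralizer_iff.1 ha.1) (hb.2 v)) (ha.2 v)⟩
        inv_mem' := fun {a} ha => ⟨inv_mem ha.1, fun v => by
          rw [dm_inv]
          exact neg_mem (smul_mem_fx_of_commute (mem_centralizer_iff.1 (inv_mem ha.1)) (ha.2 v))⟩ }
    have hle : (⨆ j ∈ {j | j ≠ i}, E j) ≤ P0 := iSup₂_le fun j hj g hg =>
      ⟨(hpair j i hj).1 hg, fun v => (hpair j i hj).2 (dm_mem_cm hg v)⟩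
    exact ⟨fun g hg => (hle hg).1, cm_le_iff.2 fun g hg => (hle hg).2⟩
  refine ⟨r, E, ⟨?_, fun i j hij => (hpair i j hij).1, fun i j hij => (hpair i j hij).2,
    fun i => ?_, ?_, fun i j => ?_, fun t ht i => ?_, ?_, hmod⟩, fun i => ?_⟩
  · obtain ⟨i, -⟩ := hsurj 1 (one_mem _)
    exact Nat.one_le_iff_ne_zero.2 fun h0 => by subst h0; exact i.elim0
  · refine (Subgroup.eq_bot_iff_forall _).2 fun g hg => ?_
    exact (hmod i).eq_one hg.1 fun v => (hothers i).2 (dm_mem_cm hg.2 v)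
  · have hperm : ∀ t ∈ (T : Subgroup H), FFStruct.cj t (⨆ i, E i) ≤ ⨆ i, E i := by
      intro t ht
      show (⨆ i, E i).map _ ≤ _
      rw [Subgroup.map_iSup]
      refine iSup_le fun i => ?_
      obtain ⟨s, hs, es⟩ := hmem i
      obtain ⟨j, ej⟩ := hsurj (t * s) (mul_mem ht hs)
      show FFStruct.cj t (E i) ≤ _
      rw [← es, cj_cj, ← ej]
      exact le_iSup E j
    refine h.sup_eq_top le_sup_right fun hle => hL.out ?_
    obtain ⟨i, ei⟩ := hsurj 1 (one_mem _)
    rw [cj_one] at ei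
    exact ei ▸ ((le_iSup E i).trans (le_sup_left.trans hle))
  · obtain ⟨t, ht, et⟩ := hmem i
    obtain ⟨s, hs, es⟩ := hmem j
    exact ⟨s * t⁻¹, mul_mem hs (inv_mem ht), by rw [← et, cj_cj, inv_mul_cancel_right, es]⟩
  · obtain ⟨s, hs, es⟩ := hmem i
    obtain ⟨j, ej⟩ := hsurj (t * s) (mul_mem ht hs)
    exact ⟨j, by rw [← es, cj_cj, ej]⟩
  · have key : ∀ s : Finset (Fin r),
        (⨅ i ∈ s, (fx (E i) : AddSubgroup V)) ⊔ (⨆ i ∈ s, cm (E i)) = ⊤ := by
      intro s
      induction s using Finset.induction_on with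
      | empty => simp
      | @insert k s hk ih =>
        refine top_le_iff.1 fun v _ => ?_
        obtain ⟨a, ha, b, hb, rfl⟩ := AddSubgroup.mem_sup.1 (ih.ge (AddSubgroup.mem_top v))
        obtain ⟨c, hc, d, hd, rfl⟩ :=
          AddSubgroup.mem_sup.1 ((hmod k).span.ge (AddSubgroup.mem_top a))
        rw [add_assoc]
        refine add_mem (AddSubgroup.mem_sup_left ?_) (AddSubgroup.mem_sup_right ?_)
        · refine AddSubgroup.mem_iInf.2 fun i => AddSubgroup.mem_iInf.2 fun hi => ?_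
          rcases Finset.mem_insert.1 hi with rfl | hi'
          · exact hc
          · have h1 := AddSubgroup.mem_iInf.1 (AddSubgroup.mem_iInf.1 ha i) hi'
            have h2 := (hpair k i fun e' => hk (e' ▸ hi')).2 hd
            simpa using (fx (E i) : AddSubgroup V).sub_mem h1 h2
        · have h1 : cm (V := V) (E k) ≤ ⨆ i ∈ insert k s, cm (V := V) (E i) :=
            le_iSup₂ (f := fun i (_ : i ∈ insert k s) => cm (V := V) (E i)) k (Finset.mem_insert_self k s)
          have h2 : (⨆ i ∈ s, cm (V := V) (E i)) ≤ ⨆ i ∈ insert k s, cm (V := V) (E i) :=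
            iSup₂_le fun i hi =>
              le_iSup₂ (f := fun i (_ : i ∈ insert k s) => cm (V := V) (E i)) i (Finset.mem_insert_of_mem hi)
          exact add_mem (h1 hd) (h2 hb)
    have h1 := key Finset.univ
    simp only [Finset.mem_univ, iInf_pos, iSup_pos] at h1
    refine top_le_iff.1 (h1.ge.trans (sup_le_sup_right ?_ _))
    intro v hv
    rw [mem_fx_iff_le_stabV]
    exact iSup_le fun i => mem_fx_iff_le_stabV.1 (AddSubgroup.mem_iInf.1 hv i)
  · obtain ⟨t, -, et⟩ := hmem i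
    exact ⟨t, et⟩

theorem Amb.hasSys (h : Amb H V p) (T : Sylow p H) {L : Subgroup H}
    (hL : Seed V p (T : Subgroup H) (h.Mx T) L) : HasSys V p (T : Subgroup H) :=
  let ⟨r, E, hE, _⟩ := h.exists_sys T hL
  ⟨r, E, hE⟩

end Cfsg.Agent.FFStruct
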