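import Cfsg.Agent.FFStruct.Glue
import Mathlib.FieldTheory.Fixed
import Mathlib.LinearAlgebra.FreeModule.Finite.Basic

/-!
# Elementary abelian groups normalising one component
-/

set_option autoImplicit false
set_option linter.unusedSectionVars false
set_option linter.style.haveILetI false

namespace Cfsg.Agent.FFStruct

open Subgroup Matrix
open scoped Pointwise MatrixGroups

variable {H : Type*} [Group H] {V : Type*} [AddCommGroup V] [DistribMulAction H V]

/-- The vectors fixed by `Q` modulo the fixed points of `E`. -/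
def fxMod (E Q : Subgroup H) : AddSubgroup V :=
  ⨅ q ∈ Q, (fx (V := V) E).comap (dm q)

theorem mem_fxMod {E Q : Subgroup H} {v : V} :
    v ∈ fxMod E Q ↔ ∀ q ∈ Q, dm q v ∈ fx (V := V) E := by
  simp only [fxMod, AddSubgroup.mem_iInf, AddSubgroup.mem_comap]

variable [Finite V]

theorem card_comap_eq {W : Type*} [AddCommGroup W] (ψ : V →+ W) (I : AddSubgroup V)
    (hI : ψ.ker ≤ I) : Nat.card I = Nat.card (I.map ψ) * Nat.card ψ.ker := by
  let f : ↥I →+ ↥(I.map ψ) := (ψ.comp I.subtype).codRestrict _ fun x => ⟨x, x.2, rfl⟩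
  have hf : Function.Surjective f := by
    rintro ⟨_, x, hx, rfl⟩; exact ⟨⟨x, hx⟩, rfl⟩
  rw [AddSubgroup.card_eq_card_quotient_mul_card_addSubgroup f.ker,
    Nat.card_congr (QuotientAddGroup.quotientKerEquivOfSurjective f hf).toEquiv]
  congr 1
  exact Nat.card_congr
    { toFun := fun x => ⟨((x : I) : V), congrArg Subtype.val (show f x = 0 from x.2)⟩
      invFun := fun x => ⟨⟨x, hI x.2⟩, Subtype.ext (show ψ x = 0 from x.2)⟩
      left_inv := fun _ => rfl
      right_inv := fun _ => rfl }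

theorem card_range_ker {A B : Type*} [Group A] [Group B] (f : A →* B) :
    Nat.card A = Nat.card f.range * Nat.card f.ker := by
  rw [Subgroup.card_eq_card_quotient_mul_card_subgroup f.ker,
    Nat.card_congr (QuotientGroup.quotientKerEquivRange f).toEquiv]

variable [Finite H] {p : ℕ} [Fact p.Prime]

/-- The linear maps induced on a model by elements normalising the component. -/
theorem exists_induced {W : Type*} [AddCommGroup W] {E Q : Subgroup H}
    (hQ : Q ≤ normalizer (E : Set H)) (ψ : V →+ W) (hs : Function.Surjective ψ)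
    (hk : ∀ v, ψ v = 0 ↔ v ∈ fx E) :
    ∃ β : Q → W → W, (∀ q v, β q (ψ v) = ψ ((q : H) • v)) ∧
      (∀ q x y, β q (x + y) = β q x + β q y) ∧ (∀ q, β q 0 = 0) ∧
      (∀ q r x, β (q * r) x = β q (β r x)) ∧ ∀ x, β 1 x = x := by
  choose s hsec using hs
  have hkey : ∀ (q : Q) (v : V), ψ ((q : H) • s (ψ v)) = ψ ((q : H) • v) := by
    intro q v
    rw [← sub_eq_zero, ← map_sub, hk, ← smul_sub]
    have h1 : s (ψ v) - v ∈ fx (V := V) E := (hk _).1 (by rw [map_sub, hsec, sub_self])
    have h2 : (q : H) • (s (ψ v) - v) ∈ fx (V := V) (FFStruct.cj (q : H) E) := by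
      rw [fx_cj]; exact smul_mem_sm h1
    rwa [cj_of_mem_normalizer (hQ q.2)] at h2
  refine ⟨fun q x => ψ ((q : H) • s x), hkey, fun q x y => ?_, fun q => ?_, fun q r x => ?_, fun x => ?_⟩
  · show ψ ((q : H) • s (x + y)) = _
    conv_lhs => rw [show x + y = ψ (s x + s y) by rw [map_add, hsec, hsec], hkey, smul_add, map_add]
  · show ψ ((q : H) • s 0) = 0
    conv_lhs => rw [show (0 : W) = ψ 0 from (map_zero ψ).symm, hkey, smul_zero, map_zero]
  · show ψ (((q * r : Q) : H) • s x) = ψ ((q : H) • s (ψ ((r : H) • s x)))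
    rw [hkey, Subgroup.coe_mul, mul_smul]
  · show ψ (((1 : Q) : H) • s x) = x
    rw [OneMemClass.coe_one, one_smul, hsec]

/-- An `SL₂` component. -/
theorem local_SL2 {E Q : Subgroup H} (hQ : Cfsg.IsElementaryAbelian p Q)
    (hQE : Q ≤ normalizer (E : Set H)) {K : Type} [Field K] [Fintype K]
    (hchar : ∃ n, 1 ≤ n ∧ Fintype.card K = p ^ n)
    (ρ : ↥E ≃* SL(2, K)) (ψ : V →+ (Fin 2 → K)) (hs : Function.Surjective ψ)
    (hk : ∀ v, ψ v = 0 ↔ v ∈ fx E)
    (heq : ∀ (e : ↥E) (v : V), ψ ((e : H) • v) = (ρ e : Matrix (Fin 2) (Fin 2) K).mulVec (ψ v)) :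
    ∃ Kk : Subgroup H, (∀ q, q ∈ Kk ↔ q ∈ Q ∧ ∀ v : V, dm q v ∈ fx E) ∧
      Nat.card Q * Nat.card (fxMod (V := V) E Q) ≤ Nat.card V * Nat.card Kk ∧
      (Nat.card V * Nat.card Kk ≤ Nat.card Q * Nat.card (fxMod (V := V) E Q) →
        ∀ q ∈ Q, ∃ e ∈ E, ∀ v : V, ψ (q • v) = ψ (e • v)) := by
  classical
  obtain ⟨n, hn, hK⟩ := hchar
  obtain ⟨β, hβ, hβadd, hβ0, hβmul, hβ1⟩ := exists_induced hQE ψ hs hk
  haveI : CharP K p := charP_of_card_eq_prime_pow hK
  let Kk : Subgroup H :=
    { carrier := {q | q ∈ Q ∧ ∀ v : V, ψ (q • v) = ψ v}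
      one_mem' := ⟨one_mem _, fun v => by rw [one_smul]⟩
      mul_mem' := fun {q r} hq hr => ⟨mul_mem hq.1 hr.1, fun v => by rw [mul_smul, hq.2, hr.2]⟩
      inv_mem' := fun {q} hq => ⟨inv_mem hq.1, fun v => by
        conv_rhs => rw [← smul_inv_smul q v, hq.2]⟩ }
  have hKk : ∀ q, q ∈ Kk ↔ q ∈ Q ∧ ∀ v : V, dm q v ∈ fx E := fun q => by
    refine and_congr_right fun _ => forall_congr' fun v => ?_
    rw [← hk, dm_apply, map_sub, sub_eq_zero]
  refine ⟨Kk, hKk, ?_⟩
  -- a common fixed vector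
  letI : MulAction Q (Fin 2 → K) :=
    { smul := β
      one_smul := hβ1
      mul_smul := hβmul }
  obtain ⟨e0, he0fix, he0⟩ : ∃ e : Fin 2 → K, (∀ q, β q e = e) ∧ e ≠ 0 := by
    have hd : p ∣ Nat.card (Fin 2 → K) := by
      rw [Nat.card_eq_fintype_card, Fintype.card_fun, hK, Fintype.card_fin, ← pow_mul]
      exact dvd_pow_self p (by omega)
    obtain ⟨e, he, hne⟩ := (Thompson.ea_isPGroup hQ).exists_fixed_point_of_prime_dvd_card_of_fixed_point
      (Fin 2 → K) hd (a := (0 : Fin 2 → K)) (fun q => hβ0 q)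
    exact ⟨e, fun q => he q, fun h => hne h.symm⟩
  obtain ⟨f0, hf0⟩ : ∃ f : Fin 2 → K, e0 0 * f 1 - f 0 * e0 1 = 1 := by
    by_cases h0 : e0 0 = 0
    · have h1 : e0 1 ≠ 0 := fun h1 => he0 (funext fun i => by fin_cases i <;> assumption)
      exact ⟨![-(e0 1)⁻¹, 0], by simp [h1]⟩
    · exact ⟨![0, (e0 0)⁻¹], by simp [h0]⟩
  let g : SL(2, K) := ⟨!![e0 0, f0 0; e0 1, f0 1], by rw [Matrix.det_fin_two]; simpa using hf0⟩
  let gm : Matrix (Fin 2) (Fin 2) K := (g : SL(2, K))
  let gi : Matrix (Fin 2) (Fin 2) K := ((g⁻¹ : SL(2, K)) : Matrix (Fin 2) (Fin 2) K)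
  have hgi : gm * gi = 1 := by
    rw [← Matrix.SpecialLinearGroup.coe_mul, mul_inv_cancel]; rfl
  have hig : gi * gm = 1 := by
    rw [← Matrix.SpecialLinearGroup.coe_mul, inv_mul_cancel]; rfl
  -- the induced maps in the new coordinates
  let b : Q → (Fin 2 → K) → (Fin 2 → K) := fun q x => gi.mulVec (β q (gm.mulVec x))
  have hbadd : ∀ q x y, b q (x + y) = b q x + b q y := fun q x y => by
    simp only [b, Matrix.mulVec_add, hβadd]
  have hb0 : ∀ q, b q 0 = 0 := fun q => by simp only [b, Matrix.mulVec_zero, hβ0]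
  have hb1 : ∀ x, b 1 x = x := fun x => by
    simp only [b, hβ1, Matrix.mulVec_mulVec, hig, Matrix.one_mulVec]
  have hbmul : ∀ q r x, b (q * r) x = b q (b r x) := fun q r x => by
    simp only [b, hβmul, Matrix.mulVec_mulVec (β r _), hgi, Matrix.one_mulVec]
  have he0' : gm.mulVec ![1, 0] = e0 := by
    funext i; fin_cases i <;> simp [gm, g, Matrix.mulVec, dotProduct, Fin.sum_univ_two]
  have hbe : ∀ q, b q ![1, 0] = ![1, 0] := fun q => by
    simp only [b, he0', he0fix]
    rw [← he0', Matrix.mulVec_mulVec, hig, Matrix.one_mulVec]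
  have hbinj : ∀ q x y, b q x = b q y → x = y := fun q x y h => by
    have := congrArg (b q⁻¹) h
    rwa [← hbmul, ← hbmul, inv_mul_cancel, hb1, hb1] at this
  -- conjugating a matrix of the component
  have hM : ∀ (q : Q) (M : SL(2, K)), ∃ M' : SL(2, K), ∀ x,
      b q ((M : Matrix (Fin 2) (Fin 2) K).mulVec x) = (M' : Matrix (Fin 2) (Fin 2) K).mulVec (b q x) := by
    intro q M
    set e := ρ.symm (g * M * g⁻¹) with he
    have hqe : (q : H) * e * (q : H)⁻¹ ∈ E := (mem_normalizer_iff.1 (hQE q.2) _).1 e.2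
    refine ⟨g⁻¹ * ρ ⟨_, hqe⟩ * g, fun x => ?_⟩
    obtain ⟨v, hv⟩ := hs (gm.mulVec x)
    have h1 : gm.mulVec ((M : Matrix (Fin 2) (Fin 2) K).mulVec x) = ψ ((e : H) • v) := by
      rw [heq, hv, he, MulEquiv.apply_symm_apply, Matrix.SpecialLinearGroup.coe_mul,
        Matrix.SpecialLinearGroup.coe_mul, Matrix.mulVec_mulVec, Matrix.mulVec_mulVec, mul_assoc (gm * _)]
      show _ = ((gm * (M : Matrix (Fin 2) (Fin 2) K)) * (gi * gm)) *ᵥ x
      rw [hig, mul_one]
    show gi.mulVec (β q (gm.mulVec _)) = _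
    rw [h1, hβ, show (q : H) • (e : H) • v = ((⟨_, hqe⟩ : ↥E) : H) • ((q : H) • v) by
      show _ = ((q : H) * e * (q : H)⁻¹) • ((q : H) • v); rw [← mul_smul, ← mul_smul]; congr 1; group,
      heq, ← hβ, hv, Matrix.mulVec_mulVec]
    show _ = ((g⁻¹ * ρ ⟨_, hqe⟩ * g : SL(2, K)) : Matrix (Fin 2) (Fin 2) K).mulVec
      (gi.mulVec (β q (gm.mulVec x)))
    rw [Matrix.SpecialLinearGroup.coe_mul, Matrix.SpecialLinearGroup.coe_mul, Matrix.mulVec_mulVec]
    congr 1
    show gi * _ = gi * _ * gm * gi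
    rw [mul_assoc (gi * _), hgi, mul_one]
  -- the line
  have hup : ∀ x : K, (Matrix.SpecialLinearGroup.transvection (show (0 : Fin 2) ≠ 1 by decide) x :
      Matrix (Fin 2) (Fin 2) K) = !![1, x; 0, 1] := fun x => by
    ext i j; fin_cases i <;> fin_cases j <;>
      simp [Matrix.SpecialLinearGroup.transvection, Matrix.transvection, Matrix.single]
  have hlo : ∀ x : K, (Matrix.SpecialLinearGroup.transvection (show (1 : Fin 2) ≠ 0 by decide) x :
      Matrix (Fin 2) (Fin 2) K) = !![1, 0; x, 1] := fun x => by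
    ext i j; fin_cases i <;> fin_cases j <;>
      simp [Matrix.SpecialLinearGroup.transvection, Matrix.transvection, Matrix.single]
  have hmv : ∀ (a c d e x y : K), (!![a, c; d, e]).mulVec ![x, y] = ![a * x + c * y, d * x + e * y] := by
    intros; funext i; fin_cases i <;> simp [Matrix.mulVec, dotProduct, Fin.sum_univ_two]
  have heta : ∀ x : Fin 2 → K, x = ![x 0, x 1] := fun x => by funext i; fin_cases i <;> rfl
  have hline : ∀ q (x : K), b q ![x, 0] 1 = 0 := by
    intro q x
    by_contra hne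
    obtain ⟨M', hM'⟩ := hM q (Matrix.SpecialLinearGroup.transvection (show (0 : Fin 2) ≠ 1 by decide) 1)
    have h1 := hM' ![1, 0]
    rw [hup, hmv, hbe] at h1
    simp only [mul_one, mul_zero, add_zero, zero_mul] at h1
    rw [hbe] at h1
    have a00 : (M' : Matrix (Fin 2) (Fin 2) K) 0 0 = 1 := by
      have := congrFun h1 0
      simpa [Matrix.mulVec, dotProduct, Fin.sum_univ_two, eq_comm] using this
    have a10 : (M' : Matrix (Fin 2) (Fin 2) K) 1 0 = 0 := by
      have := congrFun h1 1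
      simpa [Matrix.mulVec, dotProduct, Fin.sum_univ_two, eq_comm] using this
    have h2 := hM' ![x, 0]
    rw [hup, hmv] at h2
    simp only [one_mul, mul_zero, add_zero, zero_mul] at h2
    have a01 : (M' : Matrix (Fin 2) (Fin 2) K) 0 1 = 0 := by
      have := congrFun h2 0
      simp [Matrix.mulVec, dotProduct, Fin.sum_univ_two, a00, hne] at this
      exact this
    have a11 : (M' : Matrix (Fin 2) (Fin 2) K) 1 1 = 1 := by
      have := congrFun h2 1
      simp [Matrix.mulVec, dotProduct, Fin.sum_univ_two, a10] at this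
      exact (mul_eq_right₀ hne).1 this.symm
    have h3 := hM' ![0, 1]
    rw [hup, hmv] at h3
    simp only [one_mul, mul_one, mul_zero, add_zero, zero_add] at h3
    have hM1 : (M' : Matrix (Fin 2) (Fin 2) K) = 1 := by
      ext i j; fin_cases i <;> fin_cases j <;> simp [a00, a10, a01, a11]
    rw [hM1, Matrix.one_mulVec] at h3
    exact one_ne_zero (congrFun (hbinj q _ _ h3) 0)
  let φ : Q → K → K := fun q x => b q ![x, 0] 0
  have hφv : ∀ q x, b q ![x, 0] = ![φ q x, 0] := fun q x => by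
    rw [heta (b q ![x, 0]), hline]
  have hφadd : ∀ q x y, φ q (x + y) = φ q x + φ q y := fun q x y => by
    show b q ![x + y, 0] 0 = _
    rw [show (![x + y, 0] : Fin 2 → K) = ![x, 0] + ![y, 0] by simp, hbadd]; rfl
  have hφ1 : ∀ q, φ q 1 = 1 := fun q => by show b q ![1, 0] 0 = 1; rw [hbe]; rfl
  have hφ0 : ∀ q, φ q 0 = 0 := fun q => by
    have := hφadd q 0 0
    rw [add_zero] at this
    exact left_eq_add.1 this
  have hφmul : ∀ q x y, φ q (x * y) = φ q x * φ q y := by
    intro q r x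
    rcases eq_or_ne r 0 with rfl | hr
    · rw [zero_mul, hφ0, zero_mul]
    let D : SL(2, K) := ⟨!![r, 0; 0, r⁻¹], by rw [Matrix.det_fin_two]; simp [mul_inv_cancel₀ hr]⟩
    obtain ⟨M', hM'⟩ := hM q D
    have key : ∀ z, φ q (r * z) = (M' : Matrix (Fin 2) (Fin 2) K) 0 0 * φ q z := fun z => by
      have := congrFun (hM' ![z, 0]) 0
      rw [show ((D : SL(2, K)) : Matrix (Fin 2) (Fin 2) K) = !![r, 0; 0, r⁻¹] from rfl, hmv, hφv] at this
      simp [Matrix.mulVec, dotProduct, Fin.sum_univ_two] at this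
      exact this
    have h1 := key 1
    rw [mul_one, hφ1, mul_one] at h1
    rw [key, ← h1]
  have hφcomp : ∀ q r x, φ (q * r) x = φ q (φ r x) := fun q r x => by
    show b (q * r) ![x, 0] 0 = b q ![φ r x, 0] 0
    rw [hbmul, hφv]
  have hφid : ∀ x, φ 1 x = x := fun x => by show b 1 ![x, 0] 0 = x; rw [hb1]; rfl
  let c : Q → K := fun q => b q ![0, 1] 1
  let χ : Q → K := fun q => b q ![0, 1] 0
  have hbq : ∀ q y, b q ![0, y] 1 = c q * φ q y := by
    intro q y
    rcases eq_or_ne y 0 with rfl | hy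
    · rw [show (![0, 0] : Fin 2 → K) = 0 by funext i; fin_cases i <;> rfl, hb0, hφ0, mul_zero]; rfl
    have key : ∀ k, ∃ m : K, ∀ z, φ q (k * z) = m * b q ![0, z] 1 := by
      intro k
      obtain ⟨M', hM'⟩ := hM q (Matrix.SpecialLinearGroup.transvection (show (0 : Fin 2) ≠ 1 by decide) k)
      have a00 : (M' : Matrix (Fin 2) (Fin 2) K) 0 0 = 1 := by
        have := congrFun (hM' ![1, 0]) 0
        rw [hup, hmv, hbe] at this
        simp only [mul_one, mul_zero, add_zero, zero_mul] at this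
        rw [hbe] at this
        simpa [Matrix.mulVec, dotProduct, Fin.sum_univ_two, eq_comm] using this
      refine ⟨(M' : Matrix (Fin 2) (Fin 2) K) 0 1, fun z => ?_⟩
      have h := congrFun (hM' ![0, z]) 0
      rw [hup, hmv] at h
      simp only [one_mul, mul_zero, zero_add] at h
      rw [show (![k * z, z] : Fin 2 → K) = ![k * z, 0] + ![0, z] by simp, hbadd, hφv] at h
      simp [Matrix.mulVec, dotProduct, Fin.sum_univ_two, a00] at h
      linear_combination h
    obtain ⟨m, hm⟩ := key 1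
    have h1 := hm 1
    rw [one_mul, hφ1] at h1
    have h2 := hm y
    rw [one_mul] at h2
    rw [h2, ← mul_assoc]
    have : c q * m = 1 := by rw [mul_comm]; exact h1.symm
    rw [this, one_mul]
  have hgen : ∀ q x y, b q ![x, y] = ![φ q x + b q ![0, y] 0, c q * φ q y] := fun q x y => by
    rw [show (![x, y] : Fin 2 → K) = ![x, 0] + ![0, y] by simp, hbadd, hφv]
    funext i; fin_cases i <;> simp [hbq]
  -- the kernel of the action on the line
  have hK1 : ∀ q, (∀ x, φ q x = x) → c q = 1 ∧ ∀ x y, b q ![x, y] = ![x + χ q * y, y] := by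
    intro q hq
    have hpow : ∀ k : ℕ, b (q ^ k) ![0, 1] 1 = c q ^ k ∧ ∀ x, φ (q ^ k) x = x := by
      intro k
      induction k with
      | zero => rw [pow_zero, pow_zero, hb1]; exact ⟨rfl, hφid⟩
      | succ k ih =>
        refine ⟨?_, fun x => by rw [pow_succ', hφcomp, ih.2, hq]⟩
        rw [pow_succ', hbmul, heta (b (q ^ k) ![0, 1]), ih.1, hgen, hq]
        simp [pow_succ', hq]
    have hc : c q = 1 := by
      have h1 := (hpow p).1
      rw [show q ^ p = 1 from Subtype.ext ((Thompson.ea_iff.1 hQ).2 _ q.2), hb1] at h1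
      refine sub_eq_zero.1 ((pow_eq_zero_iff (n := p) (Fact.out : p.Prime).ne_zero).1 ?_)
      rw [sub_pow_char, one_pow, ← h1]; simp
    refine ⟨hc, fun x y => ?_⟩
    obtain ⟨M', hM'⟩ := hM q (Matrix.SpecialLinearGroup.transvection (show (1 : Fin 2) ≠ 0 by decide) 1)
    have hB : ∀ u z, b q ![u, z] = ![u + b q ![0, z] 0, z] := fun u z => by
      rw [hgen, hq, hq, hc, one_mul]
    have hlin : ∀ z, b q ![0, z] 0 = χ q * z := by
      intro z
      have key : ∀ z, z - b q ![0, z] 0 = (M' : Matrix (Fin 2) (Fin 2) K) 1 1 * z := fun z => by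
        have h1 := congrFun (hM' (![-(b q ![0, z] 0), z])) 1
        rw [hlo, hmv] at h1
        simp only [one_mul, zero_mul, add_zero] at h1
        rw [hB (-(b q ![0, z] 0)) (-(b q ![0, z] 0) + z), hB (-(b q ![0, z] 0)) z] at h1
        simp [Matrix.mulVec, dotProduct, Fin.sum_univ_two] at h1
        linear_combination h1
      show b q ![0, z] 0 = b q ![0, 1] 0 * z
      linear_combination -key z + z * key 1
    rw [hgen, hq, hlin, hc, one_mul, hq]
  -- sizes
  let K0 : Subfield K :=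
    { carrier := {x | ∀ q, φ q x = x}
      zero_mem' := hφ0
      one_mem' := hφ1
      add_mem' := fun {x y} hx hy q => by rw [hφadd, hx, hy]
      mul_mem' := fun {x y} hx hy q => by rw [hφmul, hx, hy]
      neg_mem' := fun {x} hx q => by
        have := hφadd q x (-x)
        rw [add_neg_cancel, hφ0, hx] at this
        exact (eq_neg_of_add_eq_zero_right this.symm)
      inv_mem' := fun x hx q => by
        rcases eq_or_ne x 0 with rfl | hx0
        · rw [_root_.inv_zero]; exact hφ0 q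
        have := hφmul q x x⁻¹
        rw [mul_inv_cancel₀ hx0, hφ1, hx] at this
        exact (inv_eq_of_mul_eq_one_right this.symm).symm }
  have hφinj : ∀ q x, φ q x = 0 → x = 0 := fun q x h => by
    have := congrArg (φ q⁻¹) h
    rwa [← hφcomp, inv_mul_cancel, hφid, hφ0] at this
  have hφinv : ∀ q x, φ q x⁻¹ = (φ q x)⁻¹ := fun q x => by
    rcases eq_or_ne x 0 with rfl | hx0
    · rw [_root_.inv_zero, hφ0, _root_.inv_zero]
    have := hφmul q x x⁻¹
    rw [mul_inv_cancel₀ hx0, hφ1] at this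
    exact (inv_eq_of_mul_eq_one_right this.symm).symm
  have hratio : ∀ (d : Q → K) (S : Set K), (∀ x ∈ S, ∀ q, φ q x = d q * x) →
      Nat.card S ≤ Nat.card K0 := by
    intro d S hS
    by_cases hex : ∃ x ∈ S, x ≠ 0
    · obtain ⟨x₁, hx₁, hx₁0⟩ := hex
      have hmem : ∀ x ∈ S, x * x₁⁻¹ ∈ K0 := fun x hx q => by
        have hd : d q ≠ 0 := fun h0 => hx₁0 (hφinj q _ (by rw [hS _ hx₁, h0, zero_mul]))
        rw [hφmul, hφinv, hS _ hx, hS _ hx₁]
        field_simp
      exact Nat.card_le_card_of_injective (fun x : S => (⟨(x : K) * x₁⁻¹, hmem x x.2⟩ : K0))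
        fun x y h => Subtype.ext (mul_right_cancel₀ (inv_ne_zero hx₁0) (congrArg Subtype.val h :))
    · push Not at hex
      exact Nat.card_le_card_of_injective (fun _ : S => (0 : K0)) fun x y _ =>
        Subtype.ext ((hex x x.2).trans (hex y y.2).symm)
  -- the hom to the automorphisms
  let τ : Q →* (K ≃ₐ[K0] K) :=
    { toFun := fun q => AlgEquiv.ofRingEquiv (f :=
        { toFun := φ q
          invFun := φ q⁻¹
          left_inv := fun x => by rw [← hφcomp, inv_mul_cancel, hφid]
          right_inv := fun x => by rw [← hφcomp, mul_inv_cancel, hφid]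
          map_mul' := hφmul q
          map_add' := hφadd q }) fun x => x.2 q
      map_one' := AlgEquiv.ext fun x => hφid x
      map_mul' := fun q r => AlgEquiv.ext fun x => hφcomp q r x }
  have hτker : ∀ q, q ∈ τ.ker ↔ ∀ x, φ q x = x := fun q =>
    ⟨fun h x => AlgEquiv.congr_fun (show τ q = 1 from h) x, fun h => AlgEquiv.ext h⟩
  let K1 : Subgroup Q := τ.ker
  have hcomm : ∀ (q : Q) (r : K1), φ q (χ r) = c q * χ r := by
    intro q r
    obtain ⟨-, hr⟩ := hK1 r ((hτker r).1 r.2)
    have hqr : q * (r : Q) = r * q :=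
      Subtype.ext (mem_centralizer_iff.1 ((Thompson.ea_iff.1 hQ).1 (r : Q).2) _ q.2)
    have h1 : b (q * (r : Q)) ![0, 1] 0 = b ((r : Q) * q) ![0, 1] 0 := by rw [hqr]
    rw [hbmul, hbmul, hr, hgen, heta (b q ![0, 1]), hr] at h1
    simp at h1
    show φ q (χ r) = _
    linear_combination h1
  let χh : K1 →* Multiplicative K :=
    MonoidHom.mk' (fun r => Multiplicative.ofAdd (χ r)) fun r r' => by
      rw [← ofAdd_add]
      congr 1
      show b ((r : Q) * r') ![0, 1] 0 = _
      rw [hbmul, (hK1 r' ((hτker r').1 r'.2)).2, (hK1 r ((hτker r).1 r.2)).2]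
      simp only [Matrix.cons_val_zero, mul_one, zero_add]
      exact add_comm _ _
  have hbk : ∀ q : Q, (∀ x y, b q ![x, y] = ![x, y]) → ∀ v : V, ψ ((q : H) • v) = ψ v := by
    intro q hq v
    have h1 := hq (gi.mulVec (ψ v) 0) (gi.mulVec (ψ v) 1)
    rw [← heta] at h1
    simp only [b, Matrix.mulVec_mulVec, hgi, Matrix.one_mulVec, hβ] at h1
    have h2 := congrArg gm.mulVec h1
    simpa only [Matrix.mulVec_mulVec, hgi, Matrix.one_mulVec] using h2
  have hχk : Nat.card χh.ker ≤ Nat.card Kk := by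
    refine Nat.card_le_card_of_injective (fun r => ⟨(((r : K1) : Q) : H), ((r : K1) : Q).2,
      hbk _ fun x y => ?_⟩) fun r r' h => Subtype.ext (Subtype.ext (Subtype.ext (congrArg Subtype.val h :)))
    rw [(hK1 _ ((hτker _).1 (r : K1).2)).2, show χ ((r : K1) : Q) = 0 from
      Multiplicative.ofAdd.injective (show χh r = 1 from r.2), zero_mul, add_zero]
  set F : AddSubgroup (Fin 2 → K) := (fxMod (V := V) E Q).map ψ with hF
  have hkerle : ψ.ker ≤ fxMod E Q := fun v hv => mem_fxMod.2 fun q hq => by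
    rw [dm_apply]
    refine AddSubgroup.sub_mem _ ?_ ((hk v).1 hv)
    have h2 : q • v ∈ fx (V := V) (FFStruct.cj q E) := by
      rw [fx_cj]; exact smul_mem_sm ((hk v).1 hv)
    rwa [cj_of_mem_normalizer (hQE hq)] at h2
  have hFfix : ∀ x ∈ F, ∀ q, b q (gi.mulVec x) = gi.mulVec x := by
    rintro _ ⟨v, hv, rfl⟩ q
    simp only [b, Matrix.mulVec_mulVec, hgi, Matrix.one_mulVec, hβ]
    congr 1
    rw [← sub_eq_zero, ← map_sub, hk]
    exact mem_fxMod.1 hv q q.2
  have hQc : Nat.card Q = Nat.card τ.range * (Nat.card χh.range * Nat.card χh.ker) := by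
    rw [← card_range_ker χh]
    exact card_range_ker τ
  have hVc : Nat.card V = Fintype.card K * Fintype.card K * Nat.card ψ.ker := by
    have := card_comap_eq ψ ⊤ le_top
    rw [card_top_add, AddSubgroup.map_top_of_surjective ψ hs, AddSubgroup.card_top,
      Nat.card_eq_fintype_card (α := Fin 2 → K), Fintype.card_fun, Fintype.card_fin, sq] at this
    exact this
  have hfc : Nat.card (fxMod (V := V) E Q) = Nat.card F * Nat.card ψ.ker :=
    card_comap_eq ψ _ hkerle
  set q0 := Nat.card K0 with hq0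
  set d := Module.finrank K0 K with hd
  have hKd : Fintype.card K = q0 ^ d := by
    rw [← Nat.card_eq_fintype_card, Module.natCard_eq_pow_finrank (K := K0)]
  have hτd : Nat.card τ.range ≤ d := by
    refine (Nat.card_le_card_of_injective Subtype.val Subtype.val_injective).trans ?_
    rw [Nat.card_eq_fintype_card]
    exact AlgEquiv.card_le
  -- the bound on the two small sets
  have hprod : Nat.card χh.range * Nat.card F ≤ q0 * q0 := by
    have hr : Nat.card χh.range ≤ q0 := by
      refine le_trans ?_ (hratio c {x | ∃ r : K1, χ r = x} (by rintro _ ⟨r, rfl⟩ q; exact hcomm q r))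
      exact Nat.card_le_card_of_injective (fun x : χh.range =>
        (⟨Multiplicative.toAdd (x : Multiplicative K), by
          obtain ⟨r, hr⟩ := x.2; exact ⟨r, congrArg Multiplicative.toAdd hr⟩⟩ : {x | ∃ r : K1, χ r = x}))
        fun x y h => Subtype.ext (Multiplicative.toAdd.injective (congrArg Subtype.val h :))
    let S : Set K := {y | ∃ x ∈ F, gi.mulVec x 1 = y}
    have hS : ∀ y ∈ S, ∀ q, c q * φ q y = y := by
      rintro y ⟨x, hx, rfl⟩ q
      have := congrFun (hFfix x hx q) 1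
      rw [heta (gi.mulVec x), hgen] at this
      simpa using this
    have hS' : Nat.card S ≤ q0 := hratio (fun q => (c q)⁻¹) S fun y hy q => by
      rcases eq_or_ne y 0 with rfl | hy0
      · rw [hφ0, mul_zero]
      have hc0 : c q ≠ 0 := fun h0 => hy0 (by rw [← hS y hy q, h0, zero_mul])
      rw [eq_inv_mul_iff_mul_eq₀ hc0]
      exact hS y hy q
    have hFle : Nat.card F ≤ q0 * Nat.card S := by
      let G0 : Set (Fin 2 → K) := {z | ∀ q, b q z = z ∧ z 1 = 0}
      rw [hq0, ← Nat.card_prod]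
      have hdiff : ∀ (y : S) (x : Fin 2 → K), x ∈ F → gi.mulVec x 1 = (y : K) → ∀ x' ∈ F,
          gi.mulVec x' 1 = (y : K) → gi.mulVec x 0 - gi.mulVec x' 0 ∈ K0 := by
        intro y x hx hxy x' hx' hxy' q
        have e1 := congrFun (hFfix x hx q) 0
        have e2 := congrFun (hFfix x' hx' q) 0
        rw [heta (gi.mulVec x), hgen, hxy] at e1
        rw [heta (gi.mulVec x'), hgen, hxy'] at e2
        simp only [Matrix.cons_val_zero] at e1 e2
        have h3 : φ q (gi.mulVec x 0 - gi.mulVec x' 0) + φ q (gi.mulVec x' 0) = φ q (gi.mulVec x 0) := by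
          rw [← hφadd, sub_add_cancel]
        linear_combination h3 + e1 - e2
      choose sec hsec hsec' using fun y : S => y.2
      refine Nat.card_le_card_of_injective (fun x : F =>
        ((⟨gi.mulVec (x : Fin 2 → K) 0 - gi.mulVec (sec ⟨_, x, x.2, rfl⟩) 0,
          hdiff _ _ x.2 rfl _ (hsec _) (hsec' _)⟩ : K0), (⟨_, x, x.2, rfl⟩ : S))) ?_
      rintro x x' h
      obtain ⟨h0, h1⟩ := Prod.ext_iff.1 h
      have h1' : gi.mulVec (x : Fin 2 → K) 1 = gi.mulVec (x' : Fin 2 → K) 1 := congrArg Subtype.val h1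
      have h0' := congrArg Subtype.val h0
      simp only [Subtype.coe_mk] at h0'
      have h2 : sec (⟨_, x, x.2, rfl⟩ : S) = sec (⟨_, x', x'.2, rfl⟩ : S) := congrArg sec h1
      rw [h2, sub_left_inj] at h0'
      have h3 : gi.mulVec (x : Fin 2 → K) = gi.mulVec (x' : Fin 2 → K) := by
        rw [heta (gi.mulVec (x : Fin 2 → K)), heta (gi.mulVec (x' : Fin 2 → K)), h0', h1']
      have h4 := congrArg gm.mulVec h3
      rw [Matrix.mulVec_mulVec, Matrix.mulVec_mulVec, hgi, Matrix.one_mulVec, Matrix.one_mulVec] at h4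
      exact Subtype.ext h4
    by_cases htriv : ∀ r : K1, χ r = 0
    · have h1 : Nat.card χh.range = 1 := by
        rw [Subgroup.card_eq_one, MonoidHom.range_eq_bot_iff]
        exact MonoidHom.ext fun r => by
          show Multiplicative.ofAdd (χ r) = 1
          rw [htriv r]; rfl
      rw [h1, one_mul]
      exact hFle.trans (Nat.mul_le_mul_left _ hS')
    · push Not at htriv
      obtain ⟨r, hr0⟩ := htriv
      refine Nat.mul_le_mul hr (hFle.trans ?_)
      have : Nat.card S ≤ 1 := by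
        refine Finite.card_le_one_iff_subsingleton.2 ⟨fun y y' => ?_⟩
        have key : ∀ y ∈ S, y = 0 := by
          rintro y ⟨x, hx, rfl⟩
          have e1 := congrFun (hFfix x hx r) 0
          rw [heta (gi.mulVec x), (hK1 _ ((hτker _).1 r.2)).2] at e1
          simp only [Matrix.cons_val_zero] at e1
          exact (mul_eq_zero.1 (add_eq_left.1 e1)).resolve_left hr0
        exact Subtype.ext ((key _ y.2).trans (key _ y'.2).symm)
      calc q0 * Nat.card S ≤ q0 * 1 := Nat.mul_le_mul_left _ this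
        _ = q0 := mul_one _
  have h2q : 2 ≤ q0 := Finite.one_lt_card (α := K0)
  have hd1 : 1 ≤ d := Module.finrank_pos
  have hmain : Nat.card Q * Nat.card (fxMod (V := V) E Q) ≤
      d * (q0 * q0) * Nat.card Kk * Nat.card ψ.ker := by
    rw [hQc, hfc]
    calc Nat.card τ.range * (Nat.card χh.range * Nat.card χh.ker) * (Nat.card F * Nat.card ψ.ker)
        = Nat.card τ.range * (Nat.card χh.range * Nat.card F) * Nat.card χh.ker * Nat.card ψ.ker := by ring
      _ ≤ _ := Nat.mul_le_mul_right _ (Nat.mul_le_mul (Nat.mul_le_mul hτd hprod) hχk)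
  have hbig : 2 ≤ d → d * (q0 * q0) < Fintype.card K * Fintype.card K := by
    intro h2
    have h3 : d < q0 ^ d := Nat.lt_pow_self (by omega)
    have h4 : q0 * q0 ≤ q0 ^ d := by
      rw [← sq]; exact Nat.pow_le_pow_right (by omega) h2
    rw [hKd]
    exact Nat.mul_lt_mul_of_lt_of_le h3 h4 (by positivity)
  refine ⟨?_, fun hge q hq => ?_⟩
  · refine hmain.trans ?_
    rw [hVc]
    have : d * (q0 * q0) ≤ Fintype.card K * Fintype.card K := by
      rcases eq_or_lt_of_le hd1 with h1 | h1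
      · rw [← h1, one_mul, hKd, ← h1, pow_one]
      · exact (hbig h1).le
    calc d * (q0 * q0) * Nat.card Kk * Nat.card ψ.ker
        ≤ Fintype.card K * Fintype.card K * Nat.card Kk * Nat.card ψ.ker :=
          Nat.mul_le_mul_right _ (Nat.mul_le_mul_right _ this)
      _ = _ := by ring
  · have hd2 : d = 1 := by
      by_contra hne
      have h1 := hbig (by omega)
      have h2 := hge.trans hmain
      rw [hVc] at h2
      have h3 : Fintype.card K * Fintype.card K * (Nat.card Kk * Nat.card ψ.ker) ≤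
          d * (q0 * q0) * (Nat.card Kk * Nat.card ψ.ker) := by
        calc Fintype.card K * Fintype.card K * (Nat.card Kk * Nat.card ψ.ker)
            = Fintype.card K * Fintype.card K * Nat.card ψ.ker * Nat.card Kk := by ring
          _ ≤ d * (q0 * q0) * Nat.card Kk * Nat.card ψ.ker := h2
          _ = _ := by ring
      exact absurd (Nat.le_of_mul_le_mul_right h3 (Nat.mul_pos Nat.card_pos Nat.card_pos)) h1.not_ge
    have hall : ∀ x, φ ⟨q, hq⟩ x = x := by
      have : Nat.card τ.range ≤ 1 := hd2 ▸ hτd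
      have h1 : τ.range = ⊥ := Subgroup.eq_bot_of_card_le _ this
      rw [MonoidHom.range_eq_bot_iff] at h1
      exact (hτker _).1 (show τ ⟨q, hq⟩ = 1 by rw [h1]; rfl)
    obtain ⟨-, hb⟩ := hK1 _ hall
    let M : SL(2, K) := Matrix.SpecialLinearGroup.transvection (show (0 : Fin 2) ≠ 1 by decide) (χ ⟨q, hq⟩)
    refine ⟨(ρ.symm (g * M * g⁻¹) : ↥E), (ρ.symm _).2, fun v => ?_⟩
    rw [heq, MulEquiv.apply_symm_apply, Matrix.SpecialLinearGroup.coe_mul,
      Matrix.SpecialLinearGroup.coe_mul]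
    have h1 : b ⟨q, hq⟩ (gi.mulVec (ψ v)) =
        (M : Matrix (Fin 2) (Fin 2) K).mulVec (gi.mulVec (ψ v)) := by
      rw [heta (gi.mulVec (ψ v)), hb, show (M : Matrix (Fin 2) (Fin 2) K) = _ from hup _, hmv]
      funext i; fin_cases i <;> simp
    simp only [b, Matrix.mulVec_mulVec, hgi, Matrix.one_mulVec, hβ] at h1
    have h2 := congrArg gm.mulVec h1
    rw [Matrix.mulVec_mulVec, Matrix.mulVec_mulVec, hgi, Matrix.one_mulVec, ← mul_assoc] at h2
    exact h2

end Cfsg.Agent.FFStruct
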