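import Cfsg.Agent.FFStruct.Local
import Mathlib.GroupTheory.GroupAction.Quotient

/-!
# Elementary abelian groups normalising a symmetric component
-/

set_option autoImplicit false
set_option linter.unusedSectionVars false
set_option linter.style.haveILetI false

namespace Cfsg.Agent.FFStruct

open Subgroup
open scoped Pointwise

theorem z2_cases' : ∀ c : ZMod 2, c = 0 ∨ c = 1 := by decide

/-- The even weight vectors. -/
def evenW (N : ℕ) : AddSubgroup (Fin N → ZMod 2) where
  carrier := {f | ∑ i, f i = 0}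
  zero_mem' := by simp
  add_mem' {f g} hf hg := by
    show ∑ i, (f + g) i = 0
    simp only [Pi.add_apply, Finset.sum_add_distrib]
    rw [hf, hg, add_zero]
  neg_mem' {f} hf := by
    show ∑ i, (-f) i = 0
    simp only [Pi.neg_apply, Finset.sum_neg_distrib]
    rw [hf, neg_zero]

/-- A weight two vector. -/
def ctr {N : ℕ} (a b : Fin N) : Fin N → ZMod 2 := Pi.single a 1 + Pi.single b 1

theorem ctr_mem {N : ℕ} (a b : Fin N) : ctr a b ∈ evenW N := by
  show ∑ i, ctr a b i = 0
  simp [ctr, Finset.sum_add_distrib]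
  decide

theorem ctr_apply {N : ℕ} (a b i : Fin N) :
    ctr a b i = (if i = a then 1 else 0) + (if i = b then 1 else 0) := by
  simp [ctr, Pi.single_apply]

theorem ctr_ext {N : ℕ} {a b c d : Fin N} (hab : a ≠ b) (hcd : c ≠ d) (h : ctr a b = ctr c d) :
    (a = c ∧ b = d) ∨ (a = d ∧ b = c) := by
  have ha := congrFun h a
  have hb := congrFun h b
  simp [ctr_apply, hab, hab.symm] at ha hb
  by_cases h1 : a = c
  · subst h1
    simp [hab.symm] at hb
    exact Or.inl ⟨rfl, hb⟩
  · simp [h1] at ha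
    subst ha
    simp [hab.symm] at hb
    exact Or.inr ⟨rfl, hb⟩

theorem ctr_meet {N : ℕ} {a b c d x y : Fin N} (hab : a ≠ b) (hcd : c ≠ d)
    (h : ctr a b + ctr c d = ctr x y) : a = c ∨ a = d ∨ b = c ∨ b = d := by
  by_contra hcon
  push Not at hcon
  obtain ⟨h1, h2, h3, h4⟩ := hcon
  have e : ∀ i, (if i = a then (1 : ZMod 2) else 0) + (if i = b then 1 else 0) +
      ((if i = c then 1 else 0) + (if i = d then 1 else 0)) =
      (if i = x then 1 else 0) + (if i = y then 1 else 0) := fun i => by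
    rw [← ctr_apply, ← ctr_apply, ← ctr_apply, ← h]; rfl
  have ea := e a
  have eb := e b
  have ec := e c
  simp [hab, hab.symm, h1, h1.symm, h2, h3, h3.symm, h4, hcd] at ea eb ec
  by_cases hax : a = x
  · subst hax
    simp [hab.symm, h1.symm] at eb ec
    exact h3 (eb.trans ec.symm)
  · simp [hax] at ea
    subst ea
    simp [hab.symm, h1.symm] at eb ec
    exact h3 (eb.trans ec.symm)

theorem perm_eq_of_even {N : ℕ} (hN : 3 ≤ N) {σ τ : Equiv.Perm (Fin N)}
    (h : ∀ f ∈ evenW N, ∀ i, f (σ i) = f (τ i)) : σ = τ := by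
  refine Equiv.ext fun i => ?_
  by_contra hne
  obtain ⟨k, hk1, hk2⟩ := exists_third hN (σ i) (τ i)
  have := h _ (ctr_mem (σ i) k) i
  simp [ctr_apply, Ne.symm hne, Ne.symm hk1, Ne.symm hk2] at this

theorem odd_exists_fifth {N : ℕ} (hN : Odd N) (a b c d : Fin N) (hab : a ≠ b) (hac : a ≠ c)
    (had : a ≠ d) (hbc : b ≠ c) (hbd : b ≠ d) (hcd : c ≠ d) :
    ∃ e, e ≠ a ∧ e ≠ b ∧ e ≠ c ∧ e ≠ d := by
  by_contra hcon
  push Not at hcon
  have hs : ({a, b, c, d} : Finset (Fin N)) = Finset.univ :=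
    Finset.eq_univ_of_forall fun e => by
      simp only [Finset.mem_insert, Finset.mem_singleton]
      by_contra h
      push Not at h
      exact h.2.2.2 (hcon e h.1 h.2.1 h.2.2.1)
  have h := congrArg Finset.card hs
  rw [Finset.card_univ, Fintype.card_fin] at h
  simp [hab, hac, had, hbc, hbd, hcd] at h
  subst h
  exact absurd hN (by decide)

/-- A permutation moving the even module along one vector is a transposition. -/
theorem swap_of_small {N : ℕ} (hN : Odd N) {σ : Equiv.Perm (Fin N)} (hσ : σ ≠ 1)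
    {w : Fin N → ZMod 2}
    (h : ∀ f ∈ evenW N, (fun i => f (σ⁻¹ i) + f i) = 0 ∨ (fun i => f (σ⁻¹ i) + f i) = w) :
    ∃ a b, a ≠ b ∧ σ = Equiv.swap a b ∧ w = ctr a b := by
  obtain ⟨a, ha⟩ : ∃ a, σ a ≠ a := by
    by_contra hc
    push Not at hc
    exact hσ (Equiv.ext hc)
  set b := σ a with hb
  have hval : ∀ c i, (ctr a c (σ⁻¹ i) + ctr a c i) = ctr b (σ c) i + ctr a c i := fun c i => by
    congr 1
    rw [ctr_apply, ctr_apply]
    have e : ∀ x, σ⁻¹ i = x ↔ i = σ x := fun x => Equiv.symm_apply_eq σ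
    simp only [e, hb]
  have hw : ∀ c, c ≠ a → ctr b (σ c) + ctr a c = 0 ∨ ctr b (σ c) + ctr a c = w := fun c hc => by
    have := h _ (ctr_mem a c)
    simp only [hval] at this
    exact this
  have hsb : σ b = a := by
    by_contra hne
    have hsbb : σ b ≠ b := fun e => ha (σ.injective e)
    have e1 : ctr b (σ b) + ctr a b = w := by
      refine (hw b ha).resolve_left fun e => ?_
      have := congrFun e a
      simp [ctr_apply, ha.symm, Ne.symm hne] at this
    have wb : w b = 0 := by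
      rw [← e1]; simp [ctr_apply, hsbb.symm, ha]
      decide
    obtain ⟨c, hca, hcb⟩ : ∃ c, c ≠ a ∧ c ≠ b := by
      obtain ⟨m, hm⟩ := hN
      exact exists_third (by
        by_contra h3
        have h0 : N = 1 := by omega
        subst h0
        exact ha (Subsingleton.elim _ _)) a b
    have hscb : σ c ≠ b := fun e => hca (σ.injective e)
    rcases hw c hca with e | e
    · have := congrFun e b
      simp [ctr_apply, ha, hcb.symm, hscb.symm] at this
    · have := congrFun e b
      rw [wb] at this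
      simp [ctr_apply, ha, hcb.symm, hscb.symm] at this
  have hkey : ∀ c, c ≠ a → c ≠ b → w = ctr a b + ctr c (σ c) := fun c hca hcb => by
    have hscb : σ c ≠ b := fun e => hca (σ.injective e)
    have hsca : σ c ≠ a := fun e => hcb (σ.injective (e.trans hsb.symm))
    have e : ctr b (σ c) + ctr a c = ctr a b + ctr c (σ c) := by
      funext i; simp [ctr_apply]; ring
    rcases hw c hca with e' | e'
    · have := congrFun e' b
      simp [ctr_apply, ha, hcb.symm, hscb.symm] at this
    · rw [← e', e]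
  have hfix : ∀ c, c ≠ a → c ≠ b → σ c = c := by
    intro c hca hcb
    by_contra hd
    set d := σ c with hdd
    have hdb : d ≠ b := fun e => hca (σ.injective e)
    have hda : d ≠ a := fun e => hcb (σ.injective (e.trans hsb.symm))
    have e1 := hkey c hca hcb
    have e2 := hkey d hda hdb
    have e3 := add_left_cancel (e1.symm.trans e2)
    rw [← hdd] at e3
    have hsd : σ d ≠ d := fun e => hd (σ.injective e)
    rcases ctr_ext (Ne.symm hd) hsd.symm e3 with ⟨e, -⟩ | ⟨e, -⟩
    · exact hd e.symm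
    obtain ⟨x, hxa, hxb, hxc, hxd⟩ := odd_exists_fifth hN a b c d ha.symm hca.symm hda.symm
      hcb.symm hdb.symm (Ne.symm hd)
    have e4 := add_left_cancel (e1.symm.trans (hkey x hxa hxb))
    rw [← hdd] at e4
    have := congrFun e4 c
    have hsxc : σ x ≠ c := fun e5 => hxd (σ.injective (e5.trans e))
    simp [ctr_apply, Ne.symm hd, hxc.symm, hsxc.symm] at this
  refine ⟨a, b, ha.symm, ?_, ?_⟩
  · refine Equiv.ext fun c => ?_
    rcases eq_or_ne c a with rfl | hca
    · rw [Equiv.swap_apply_left]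
    rcases eq_or_ne c b with rfl | hcb
    · rw [Equiv.swap_apply_right, hsb]
    rw [Equiv.swap_apply_of_ne_of_ne hca hcb, hfix c hca hcb]
  · obtain ⟨c, hca, hcb⟩ : ∃ c, c ≠ a ∧ c ≠ b := by
      obtain ⟨m, hm⟩ := hN
      exact exists_third (by
        by_contra h3
        have h0 : N = 1 := by omega
        subst h0
        exact ha (Subsingleton.elim _ _)) a b
    rw [hkey c hca hcb, hfix c hca hcb]
    funext i
    simp [ctr_apply]
    split <;> decide

/-- An abelian permutation group is no larger than allowed by its orbits. -/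
theorem perm_bound {N : ℕ} (hN : Odd N) (P : Subgroup (Equiv.Perm (Fin N)))
    (hP : ∀ x ∈ P, ∀ y ∈ P, x * y = y * x) (F : AddSubgroup (Fin N → ZMod 2))
    (hFe : F ≤ evenW N) (hF : ∀ f ∈ F, ∀ x ∈ P, ∀ i, f (x i) = f i)
    (h1 : ∃ i, ∀ x ∈ P, x i = i) :
    Nat.card P * Nat.card F * 2 ≤ 2 ^ N := by
  classical
  let Ω := MulAction.orbitRel.Quotient P (Fin N)
  let rep : Ω → Fin N := Quotient.out
  have hrep : ∀ i : Fin N, ∃ x : P, (x : Equiv.Perm (Fin N)) (rep (Quotient.mk'' i)) = i := by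
    intro i
    have : (rep (Quotient.mk'' i)) ∈ MulAction.orbit P i := by
      rw [← MulAction.orbitRel_apply]; exact Quotient.mk_out (s := MulAction.orbitRel P (Fin N)) i
    obtain ⟨x, hx⟩ := this
    exact ⟨x⁻¹, by rw [← hx]; exact inv_smul_smul x i⟩
  have hinjP : Nat.card P ≤ ∏ ω : Ω, Nat.card (MulAction.orbit P (rep ω)) := by
    rw [← Nat.card_pi]
    refine Nat.card_le_card_of_injective
      (fun x : P => fun ω : Ω => (⟨x • rep ω, MulAction.mem_orbit _ _⟩ : MulAction.orbit P (rep ω))) ?_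
    intro x y h
    refine Subtype.ext (Equiv.ext fun i => ?_)
    obtain ⟨z, hz⟩ := hrep i
    have e : x • rep (Quotient.mk'' i) = y • rep (Quotient.mk'' i) :=
      congrArg Subtype.val (congrFun h (Quotient.mk'' i))
    have e' : (x : Equiv.Perm (Fin N)) (rep (Quotient.mk'' i)) =
        (y : Equiv.Perm (Fin N)) (rep (Quotient.mk'' i)) := e
    rw [← hz, ← Equiv.Perm.mul_apply, ← Equiv.Perm.mul_apply, hP _ x.2 _ z.2, hP _ y.2 _ z.2,
      Equiv.Perm.mul_apply, Equiv.Perm.mul_apply, e']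
  have hsum : ∑ ω : Ω, Nat.card (MulAction.orbit P (rep ω)) = N := by
    have h := Nat.card_congr (MulAction.selfEquivSigmaOrbits' P (Fin N))
    rw [Nat.card_sigma, Nat.card_eq_fintype_card, Fintype.card_fin] at h
    refine Eq.trans (Finset.sum_congr rfl fun ω _ => ?_) h.symm
    rw [MulAction.orbitRel.Quotient.orbit_eq_orbit_out ω (hφ := Quotient.out_eq')]
  have hbound : Nat.card P * 2 ^ Fintype.card Ω ≤ 2 ^ N := by
    refine (Nat.mul_le_mul_right _ hinjP).trans ?_
    refine le_of_le_of_eq ?_ (congrArg (2 ^ ·) hsum)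
    rw [← Finset.prod_pow_eq_pow_sum, ← Finset.card_univ, ← Finset.prod_const,
      ← Finset.prod_mul_distrib]
    refine Finset.prod_le_prod' fun ω _ => ?_
    haveI : Nonempty (MulAction.orbit P (rep ω)) := ⟨⟨rep ω, MulAction.mem_orbit_self _⟩⟩
    have h0 : 1 ≤ Nat.card (MulAction.orbit P (rep ω)) := Nat.card_pos
    obtain ⟨k, hk⟩ : ∃ k, Nat.card (MulAction.orbit P (rep ω)) = k + 1 := ⟨_, (Nat.sub_add_cancel h0).symm⟩
    rw [hk, pow_succ]
    exact Nat.mul_le_mul_right _ (Nat.lt_pow_self (by norm_num))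
  -- invariant even vectors
  obtain ⟨i₀, hi₀⟩ := h1
  have hFc : Nat.card F * 2 ≤ 2 ^ Fintype.card Ω := by
    set ω₀ : Ω := Quotient.mk'' i₀
    have hc2 : Nat.card (ZMod 2) = 2 := Nat.card_zmod 2
    calc Nat.card F * 2 = Nat.card (F × ZMod 2) := by rw [Nat.card_prod, hc2]
      _ ≤ Nat.card (Ω → ZMod 2) := by
        refine Nat.card_le_card_of_injective
          (fun fc : F × ZMod 2 => fun ω => (fc.1 : Fin N → ZMod 2) (rep ω) + (if ω = ω₀ then fc.2 else 0)) ?_
        rintro ⟨f, c⟩ ⟨f', c'⟩ h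
        have hoff : ∀ i, i ≠ i₀ → (f : Fin N → ZMod 2) i = (f' : Fin N → ZMod 2) i := by
          intro i hi
          obtain ⟨x, hx⟩ := hrep i
          have hne : (Quotient.mk'' i : Ω) ≠ ω₀ := fun e => hi (by
            have : i ∈ MulAction.orbit P i₀ := MulAction.orbitRel_apply.1 (Quotient.exact' e)
            obtain ⟨y, hy⟩ := this
            exact hy.symm.trans (hi₀ y y.2))
          have := congrFun h (Quotient.mk'' i)
          simp only [hne, if_false, add_zero] at this
          rw [← hx, hF _ f.2 _ x.2, hF _ f'.2 _ x.2, this]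
        have hat : (f : Fin N → ZMod 2) i₀ = (f' : Fin N → ZMod 2) i₀ := by
          have e1 : ∑ i, (f : Fin N → ZMod 2) i = 0 := hFe f.2
          have e2 : ∑ i, (f' : Fin N → ZMod 2) i = 0 := hFe f'.2
          rw [← Finset.add_sum_erase _ _ (Finset.mem_univ i₀)] at e1 e2
          rw [Finset.sum_congr rfl fun i hi => hoff i (Finset.ne_of_mem_erase hi)] at e1
          exact add_right_cancel (e1.trans e2.symm)
        have hff : f = f' := Subtype.ext (funext fun i => by
          rcases eq_or_ne i i₀ with rfl | hi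
          · exact hat
          · exact hoff i hi)
        subst hff
        have := congrFun h ω₀
        simp only [if_true, add_left_cancel_iff] at this
        exact Prod.ext rfl this
      _ = _ := by rw [Nat.card_eq_fintype_card, Fintype.card_fun, ZMod.card]
  calc Nat.card P * Nat.card F * 2 = Nat.card P * (Nat.card F * 2) := by ring
    _ ≤ Nat.card P * 2 ^ Fintype.card Ω := Nat.mul_le_mul_left _ hFc
    _ ≤ _ := hbound

variable {H : Type*} [Group H] {V : Type*} [AddCommGroup V] [DistribMulAction H V]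
variable [Finite V] [Finite H]

/-- A symmetric component. -/
theorem local_Perm {E Q : Subgroup H} (hQ : Cfsg.IsElementaryAbelian 2 Q)
    (hQE : Q ≤ normalizer (E : Set H)) {n : ℕ} (hn : 1 ≤ n)
    (ρ : ↥E ≃* Equiv.Perm (Fin (2 ^ n + 1))) (ψ : V →+ (Fin (2 ^ n + 1) → ZMod 2))
    (hev : ∀ v, ∑ i, ψ v i = 0)
    (hs : ∀ f : Fin (2 ^ n + 1) → ZMod 2, ∑ i, f i = 0 → ∃ v, ψ v = f)
    (hk : ∀ v, ψ v = 0 ↔ v ∈ fx E)
    (heq : ∀ (e : ↥E) (v : V) i, ψ ((e : H) • v) i = ψ v ((ρ e)⁻¹ i)) :
    ∃ Kk : Subgroup H, (∀ q, q ∈ Kk ↔ q ∈ Q ∧ ∀ v : V, dm q v ∈ fx E) ∧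
      Nat.card Q * Nat.card (fxMod (V := V) E Q) ≤ Nat.card V * Nat.card Kk ∧
      ∀ q ∈ Q, ∃ e ∈ E, ∀ v : V, ψ (q • v) = ψ (e • v) := by
  classical
  let N := 2 ^ n + 1
  have h3 : 3 ≤ N := three_le n hn
  have hodd : Odd N := ⟨2 ^ (n - 1), by
    show 2 ^ n + 1 = 2 * 2 ^ (n - 1) + 1
    rw [← pow_succ', Nat.sub_add_cancel hn]⟩
  let ψ' : V →+ evenW N := ψ.codRestrict _ hev
  have hs' : Function.Surjective ψ' := fun f => by
    obtain ⟨v, hv⟩ := hs f f.2
    exact ⟨v, Subtype.ext hv⟩
  have hk' : ∀ v, ψ' v = 0 ↔ v ∈ fx E := fun v => by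
    rw [← hk]; exact Subtype.ext_iff
  obtain ⟨β, hβ, hβadd, hβ0, hβmul, hβ1⟩ := exists_induced hQE ψ' hs' hk'
  have hinj : ∀ q x y, β q x = β q y → x = y := fun q x y h => by
    have := congrArg (β q⁻¹) h
    rwa [← hβmul, ← hβmul, inv_mul_cancel, hβ1, hβ1] at this
  have hev' : ∀ (q : Q) (v : V), (β q (ψ' v) : Fin N → ZMod 2) = ψ ((q : H) • v) := fun q v => by
    rw [hβ]; rfl
  let C : (a b : Fin N) → evenW N := fun a b => ⟨ctr a b, ctr_mem a b⟩
  -- centres go to centres
  have hctr : ∀ q a b, a ≠ b → ∃ c d, c ≠ d ∧ β q (C a b) = C c d := by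
    intro q a b hab
    set e := ρ.symm (Equiv.swap a b) with he
    have hqe : (q : H) * e * (q : H)⁻¹ ∈ E := (mem_normalizer_iff.1 (hQE q.2) _).1 e.2
    set σ := ρ ⟨_, hqe⟩ with hσ
    have hσ1 : σ ≠ 1 := fun h1 => hab (by
      have h2 : ((q : H) * e * (q : H)⁻¹) = 1 := congrArg Subtype.val (ρ.injective (h1.trans ρ.map_one.symm))
      have h4 : (e : H) = 1 := by
        have := congrArg (fun z => (q : H)⁻¹ * z * q) h2
        simpa [mul_assoc] using this
      have h5 : Equiv.swap a b = 1 := by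
        have h6 : e = 1 := Subtype.ext h4
        rw [← ρ.apply_symm_apply (Equiv.swap a b), ← he, h6, map_one]
      have := congrArg (fun s : Equiv.Perm (Fin N) => s a) h5
      simpa using this.symm)
    have hsmall : ∀ f ∈ evenW N, (fun i => f (σ⁻¹ i) + f i) = 0 ∨
        (fun i => f (σ⁻¹ i) + f i) = (β q (C a b) : Fin N → ZMod 2) := by
      intro f hf
      obtain ⟨v, hv⟩ := hs f hf
      set u := (q : H)⁻¹ • v with hu
      have h1 : ψ ((e : H) • u) = ψ u + (ψ u a + ψ u b) • ctr a b := by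
        funext i
        rw [heq, he, MulEquiv.apply_symm_apply, Equiv.swap_inv]
        simp only [Pi.add_apply, Pi.smul_apply, smul_eq_mul, ctr_apply]
        rcases eq_or_ne i a with rfl | hia
        · rw [Equiv.swap_apply_left]
          simp [hab]
          generalize ψ u i = s
          generalize ψ u b = t
          revert s t; decide
        rcases eq_or_ne i b with rfl | hib
        · rw [Equiv.swap_apply_right]
          simp [hia]
          generalize ψ u i = s
          generalize ψ u a = t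
          revert s t; decide
        rw [Equiv.swap_apply_of_ne_of_ne hia hib]
        simp [hia, hib]
      have h2 : (fun i => f (σ⁻¹ i)) = ψ ((q : H) • ((e : H) • u)) := by
        funext i
        rw [hu, ← mul_smul, ← mul_smul, ← hv, hσ, ← heq]
      rcases z2_cases' (ψ u a + ψ u b) with hc | hc
      · left
        rw [hc, zero_smul, add_zero] at h1
        have h3 : ψ ((q : H) • (e : H) • u) = f := by
          rw [← hev', show ψ' ((e : H) • u) = ψ' u from Subtype.ext h1, hev', hu, smul_inv_smul, hv]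
        funext i
        rw [congrFun (h2.trans h3) i]
        exact CharTwo.add_self_eq_zero _
      · right
        rw [hc, one_smul] at h1
        have h3 : ψ ((q : H) • (e : H) • u) = f + (β q (C a b) : Fin N → ZMod 2) := by
          rw [← hev', show ψ' ((e : H) • u) = ψ' u + C a b from Subtype.ext h1, hβadd, AddSubgroup.coe_add,
            hev', hu, smul_inv_smul, hv]
        funext i
        rw [congrFun (h2.trans h3) i, Pi.add_apply, add_comm (f i), add_assoc,
          CharTwo.add_self_eq_zero, add_zero]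
    obtain ⟨c, d, hcd, -, hw⟩ := swap_of_small hodd hσ1 hsmall
    exact ⟨c, d, hcd, Subtype.ext hw⟩
  -- the induced permutation
  have hperm : ∀ q, ∃ σ : Equiv.Perm (Fin N), ∀ f i, (β q f : Fin N → ZMod 2) i = (f : Fin N → ZMod 2) (σ⁻¹ i) := by
    intro q
    have hC0 : ∀ j : Fin N, j ≠ 0 → ∃ c d, c ≠ d ∧ β q (C 0 j) = C c d := fun j hj => hctr q 0 j hj.symm
    choose P1 P2 hP12 hPβ using hC0
    obtain ⟨j₁, hj₁, -⟩ := exists_third h3 0 0
    obtain ⟨j₂, hj₂, hj₂₁⟩ := exists_third h3 0 j₁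
    have hadd0 : ∀ j k, C 0 j + C 0 k = C j k := fun j k => Subtype.ext (by
      show ctr 0 j + ctr 0 k = ctr j k
      funext i; simp [ctr_apply]
      generalize (if i = (0 : Fin N) then (1 : ZMod 2) else 0) = s
      generalize (if i = j then (1 : ZMod 2) else 0) = t
      generalize (if i = k then (1 : ZMod 2) else 0) = r
      revert s t r; decide)
    have hmeet : ∀ j k (hj : j ≠ 0) (hk : k ≠ 0), j ≠ k →
        P1 j hj = P1 k hk ∨ P1 j hj = P2 k hk ∨ P2 j hj = P1 k hk ∨ P2 j hj = P2 k hk := by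
      intro j k hj hk hjk
      obtain ⟨c, d, -, e⟩ := hctr q j k hjk
      rw [← hadd0, hβadd, hPβ j hj, hPβ k hk] at e
      exact ctr_meet (hP12 j hj) (hP12 k hk) (congrArg Subtype.val e)
    obtain ⟨ω, x, y, h1, h2, hxω, hyω, hxy⟩ : ∃ ω x y, β q (C 0 j₁) = C ω x ∧ β q (C 0 j₂) = C ω y ∧
        x ≠ ω ∧ y ≠ ω ∧ x ≠ y := by
      have hcomm : ∀ c d, C c d = C d c := fun c d => Subtype.ext (add_comm _ _)
      have aux : ∀ ω x y, β q (C 0 j₁) = C ω x → β q (C 0 j₂) = C ω y → x ≠ y := fun ω x y e1 e2 e => by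
        subst e
        have := hinj q _ _ (e1.trans e2.symm)
        rcases ctr_ext hj₁.symm hj₂.symm (congrArg Subtype.val this) with ⟨-, e'⟩ | ⟨e', -⟩
        · exact hj₂₁ e'.symm
        · exact hj₂ e'.symm
      rcases hmeet j₁ j₂ hj₁ hj₂ hj₂₁.symm with e | e | e | e
      · refine ⟨_, _, _, hPβ j₁ hj₁, e ▸ hPβ j₂ hj₂, (hP12 _ _).symm, e ▸ (hP12 _ _).symm, ?_⟩
        exact aux _ _ _ (hPβ j₁ hj₁) (e ▸ hPβ j₂ hj₂)
      · refine ⟨_, _, P1 j₂ hj₂, hPβ j₁ hj₁, (hPβ j₂ hj₂).trans (by rw [e, hcomm]), (hP12 _ _).symm,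
          e ▸ hP12 _ _, aux _ _ _ (hPβ j₁ hj₁) ((hPβ j₂ hj₂).trans (by rw [e, hcomm]))⟩
      · refine ⟨P2 j₁ hj₁, P1 j₁ hj₁, P2 j₂ hj₂, (hPβ j₁ hj₁).trans (hcomm _ _), e ▸ hPβ j₂ hj₂, hP12 _ _,
          e ▸ (hP12 _ _).symm, aux _ _ _ ((hPβ j₁ hj₁).trans (hcomm _ _)) (e ▸ hPβ j₂ hj₂)⟩
      · refine ⟨P2 j₁ hj₁, P1 j₁ hj₁, P1 j₂ hj₂, (hPβ j₁ hj₁).trans (hcomm _ _),
          (hPβ j₂ hj₂).trans (by rw [e, hcomm]), hP12 _ _, e ▸ hP12 _ _,
          aux _ _ _ ((hPβ j₁ hj₁).trans (hcomm _ _)) ((hPβ j₂ hj₂).trans (by rw [e, hcomm]))⟩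
    have hstar : ∀ j, j ≠ 0 → ∃ z, z ≠ ω ∧ β q (C 0 j) = C ω z := by
      intro j hj
      rcases eq_or_ne j j₁ with rfl | hne1
      · exact ⟨x, hxω, h1⟩
      rcases eq_or_ne j j₂ with rfl | hne2
      · exact ⟨y, hyω, h2⟩
      have hcomm : ∀ c d, C c d = C d c := fun c d => Subtype.ext (add_comm _ _)
      by_cases hω1 : P1 j hj = ω
      · exact ⟨P2 j hj, fun e => hP12 j hj (hω1.trans e.symm), by rw [hPβ j hj, hω1]⟩
      by_cases hω2 : P2 j hj = ω
      · exact ⟨P1 j hj, hω1, by rw [hPβ j hj, hω2, hcomm]⟩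
      exfalso
      have m1 : P1 j hj = x ∨ P2 j hj = x := by
        obtain ⟨c, d, -, e⟩ := hctr q j j₁ hne1
        rw [← hadd0, hβadd, hPβ j hj, h1] at e
        rcases ctr_meet (hP12 j hj) hxω.symm (congrArg Subtype.val e) with e' | e' | e' | e'
        · exact absurd e' hω1
        · exact Or.inl e'
        · exact absurd e' hω2
        · exact Or.inr e'
      have m2 : P1 j hj = y ∨ P2 j hj = y := by
        obtain ⟨c, d, -, e⟩ := hctr q j j₂ hne2
        rw [← hadd0, hβadd, hPβ j hj, h2] at e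
        rcases ctr_meet (hP12 j hj) hyω.symm (congrArg Subtype.val e) with e' | e' | e' | e'
        · exact absurd e' hω1
        · exact Or.inl e'
        · exact absurd e' hω2
        · exact Or.inr e'
      have hxyP : β q (C 0 j) = C x y := by
        rw [hPβ j hj]
        rcases m1 with a1 | a1 <;> rcases m2 with a2 | a2
        · exact absurd (a1.symm.trans a2) hxy
        · rw [a1, a2]
        · rw [a1, a2, hcomm]
        · exact absurd (a1.symm.trans a2) hxy
      have hsum : C ω x + C ω y = C x y := Subtype.ext (by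
        show ctr ω x + ctr ω y = ctr x y
        funext i; simp [ctr_apply]
        generalize (if i = ω then (1 : ZMod 2) else 0) = s
        generalize (if i = x then (1 : ZMod 2) else 0) = t
        generalize (if i = y then (1 : ZMod 2) else 0) = r
        revert s t r; decide)
      rw [← hsum, ← h1, ← h2, ← hβadd, hadd0] at hxyP
      rcases ctr_ext hj.symm hj₂₁.symm (congrArg Subtype.val (hinj q _ _ hxyP)) with ⟨e, -⟩ | ⟨e, -⟩
      · exact hj₁ e.symm
      · exact hj₂ e.symm
    choose z hzω hz using hstar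
    let σf : Fin N → Fin N := fun j => if hj : j = 0 then ω else z j hj
    have hσinj : Function.Injective σf := by
      intro j k e
      by_cases hj : j = 0 <;> by_cases hk : k = 0
      · rw [hj, hk]
      · simp [σf, hj, hk] at e; exact absurd e.symm (hzω k hk)
      · simp [σf, hj, hk] at e; exact absurd e (hzω j hj)
      · simp [σf, hj, hk] at e
        have := hinj q _ _ ((hz j hj).trans (by rw [e, ← hz k hk]))
        rcases ctr_ext (Ne.symm hj) (Ne.symm hk) (congrArg Subtype.val this) with ⟨-, e'⟩ | ⟨e', -⟩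
        · exact e'
        · exact absurd e'.symm hk
    refine ⟨Equiv.ofBijective σf ((Finite.injective_iff_bijective).1 hσinj), fun f i => ?_⟩
    set σ := Equiv.ofBijective σf ((Finite.injective_iff_bijective).1 hσinj)
    let D : evenW N →+ ZMod 2 := AddMonoidHom.mk'
      (fun f => (β q f : Fin N → ZMod 2) i + (f : Fin N → ZMod 2) (σ⁻¹ i)) fun f g => by
        simp only [hβadd, AddSubgroup.coe_add, Pi.add_apply]; abel
    have hD0 : ∀ j, D (C 0 j) = 0 := by
      intro j
      by_cases hj : j = 0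
      · rw [show C 0 j = 0 from Subtype.ext (by
          subst hj; show ctr 0 0 = 0; funext i; simp [ctr_apply]; split <;> decide), map_zero]
      show (β q (C 0 j) : Fin N → ZMod 2) i + ctr 0 j (σ⁻¹ i) = 0
      rw [hz j hj]
      show ctr ω (z j hj) i + ctr 0 j (σ⁻¹ i) = 0
      have e : ∀ x, σ⁻¹ i = x ↔ i = σ x := fun x => Equiv.symm_apply_eq σ
      have e0 : σ 0 = ω := by simp [σ, σf]
      have ej : σ j = z j hj := by simp [σ, σf, hj]
      rw [ctr_apply, ctr_apply]
      simp only [e, e0, ej]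
      exact CharTwo.add_self_eq_zero _
    have hfsum : f = ∑ j, if (f : Fin N → ZMod 2) j = 0 then 0 else C 0 j := by
      refine Subtype.ext (funext fun k => ?_)
      rw [AddSubgroup.val_finsetSum, Finset.sum_apply]
      have : ∀ j, ((if (f : Fin N → ZMod 2) j = 0 then 0 else C 0 j : evenW N) : Fin N → ZMod 2) k =
          (f : Fin N → ZMod 2) j * (if k = 0 then 1 else 0) + (if k = j then (f : Fin N → ZMod 2) j else 0) := by
        intro j
        rcases z2_cases' ((f : Fin N → ZMod 2) j) with h | h <;> rw [h]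
        · simp
        · simp [C, ctr_apply]
      simp only [this, Finset.sum_add_distrib, ← Finset.sum_mul]
      rw [show ∑ j, (f : Fin N → ZMod 2) j = 0 from f.2, zero_mul, zero_add, Finset.sum_ite_eq,
        if_pos (Finset.mem_univ k)]
    have : D f = 0 := by
      rw [hfsum, map_sum]
      refine Finset.sum_eq_zero fun j _ => ?_
      split
      · exact map_zero D
      · exact hD0 j
    exact CharTwo.add_eq_zero.1 this
  choose σ hσ using hperm
  let π : Q →* Equiv.Perm (Fin N) := MonoidHom.mk' σ fun q r => by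
    refine inv_injective (perm_eq_of_even h3 fun f hf i => ?_)
    have e1 := hσ (q * r) ⟨f, hf⟩ i
    rw [hβmul, hσ, hσ] at e1
    rw [_root_.mul_inv_rev, Equiv.Perm.mul_apply]
    exact e1.symm
  let Kk : Subgroup H := π.ker.map Q.subtype
  have hKk : ∀ q, q ∈ Kk ↔ q ∈ Q ∧ ∀ v : V, dm q v ∈ fx E := by
    intro q
    constructor
    · rintro ⟨r, hr, rfl⟩
      refine ⟨r.2, fun v => ?_⟩
      rw [← hk, dm_apply, map_sub]
      show ψ ((r : H) • v) - ψ v = 0
      rw [sub_eq_zero, ← hev']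
      funext i
      rw [hσ, show σ r = 1 from hr]
      rfl
    · rintro ⟨hq, hd⟩
      refine ⟨⟨q, hq⟩, ?_, rfl⟩
      refine inv_injective (perm_eq_of_even h3 fun f hf i => ?_)
      show f ((σ ⟨q, hq⟩)⁻¹ i) = f ((1 : Equiv.Perm (Fin N))⁻¹ i)
      obtain ⟨v, hv⟩ := hs f hf
      have h1 := hσ ⟨q, hq⟩ (ψ' v) i
      rw [hev'] at h1
      have h2 : ψ (q • v) = ψ v := sub_eq_zero.1 (by rw [← map_sub]; exact (hk _).2 (hd v))
      rw [h2] at h1
      rw [← hv, inv_one]
      exact h1.symm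
  refine ⟨Kk, hKk, ?_, fun q hq => ⟨(ρ.symm (σ ⟨q, hq⟩) : ↥E), (ρ.symm _).2, fun v => ?_⟩⟩
  · haveI : Fact (Nat.Prime 2) := ⟨Nat.prime_two⟩
    set F : AddSubgroup (Fin N → ZMod 2) := (fxMod (V := V) E Q).map ψ with hF
    have hkerle : ψ.ker ≤ fxMod E Q := fun v hv => mem_fxMod.2 fun q hq => by
      rw [dm_apply]
      refine AddSubgroup.sub_mem _ ?_ ((hk v).1 hv)
      have h2 : q • v ∈ fx (V := V) (FFStruct.cj q E) := by
        rw [fx_cj]; exact smul_mem_sm ((hk v).1 hv)
      rwa [cj_of_mem_normalizer (hQE hq)] at h2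
    have hFinv : ∀ f ∈ F, ∀ x ∈ π.range, ∀ i, f (x i) = f i := by
      rintro _ ⟨v, hv, rfl⟩ _ ⟨q, rfl⟩ i
      have h1 := hσ q (ψ' v) (π q i)
      rw [hev', show (π q) = σ q from rfl, Equiv.Perm.inv_def, Equiv.symm_apply_apply] at h1
      have h2 : ψ ((q : H) • v) = ψ v := sub_eq_zero.1 (by
        rw [← map_sub]; exact (hk _).2 (mem_fxMod.1 hv q q.2))
      rw [h2] at h1
      exact h1
    have hP := perm_bound hodd π.range (by
      rintro _ ⟨q, rfl⟩ _ ⟨r, rfl⟩
      rw [← map_mul, ← map_mul]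
      exact congrArg π (Subtype.ext (mem_centralizer_iff.1 ((Thompson.ea_iff.1 hQ).1 r.2) _ q.2))) F
      (by rintro _ ⟨v, -, rfl⟩; exact hev v) hFinv (by
        have hpg : IsPGroup 2 π.range :=
          ((Thompson.ea_isPGroup hQ).of_surjective _ π.rangeRestrict_surjective)
        obtain ⟨i, hi⟩ := hpg.nonempty_fixed_point_of_prime_not_dvd_card (Fin N) (by
          rw [Nat.card_eq_fintype_card, Fintype.card_fin]
          exact fun h => (Nat.not_even_iff_odd.2 hodd) (even_iff_two_dvd.2 h))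
        exact ⟨i, fun x hx => hi ⟨x, hx⟩⟩)
    have hQc : Nat.card Q = Nat.card π.range * Nat.card Kk := by
      rw [card_range_ker π]
      congr 1
      exact (card_map_of_injective Q.subtype_injective).symm
    have hfc := card_comap_eq ψ _ hkerle
    have hVc : Nat.card V * 2 = 2 ^ N * Nat.card ψ.ker := by
      have h1 := card_comap_eq ψ ⊤ le_top
      rw [card_top_add] at h1
      have hr : (⊤ : AddSubgroup V).map ψ = evenW N := by
        refine le_antisymm ?_ fun f hf => ?_
        · rintro _ ⟨v, -, rfl⟩; exact hev v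
        · obtain ⟨v, hv⟩ := hs f hf; exact ⟨v, trivial, hv⟩
      rw [hr] at h1
      let sm' : (Fin N → ZMod 2) →+ ZMod 2 :=
        AddMonoidHom.mk' (fun f => ∑ i, f i) fun f g => Finset.sum_add_distrib
      have h2 : Nat.card (Fin N → ZMod 2) = 2 * Nat.card (evenW N) := by
        rw [AddSubgroup.card_eq_card_quotient_mul_card_addSubgroup sm'.ker,
          Nat.card_congr (QuotientAddGroup.quotientKerEquivOfSurjective sm' fun c =>
            ⟨Pi.single 0 c, by simp [sm']⟩).toEquiv, Nat.card_zmod]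
        rfl
      rw [h1, Nat.card_eq_fintype_card (α := Fin N → ZMod 2), Fintype.card_fun, Fintype.card_fin,
        ZMod.card] at *
      rw [h2]; ring
    refine Nat.le_of_mul_le_mul_right (c := 2) ?_ (by norm_num)
    rw [hQc, hfc]
    calc Nat.card π.range * Nat.card Kk * (Nat.card F * Nat.card ψ.ker) * 2
        = Nat.card π.range * Nat.card F * 2 * (Nat.card Kk * Nat.card ψ.ker) := by ring
      _ ≤ 2 ^ N * (Nat.card Kk * Nat.card ψ.ker) := Nat.mul_le_mul_right _ hP
      _ = 2 ^ N * Nat.card ψ.ker * Nat.card Kk := by ring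
      _ = _ := by rw [← hVc]; ring
  · funext i
    rw [heq, MulEquiv.apply_symm_apply, ← show (β ⟨q, hq⟩ (ψ' v) : Fin N → ZMod 2) i = _ from congrFun (hev' ⟨q, hq⟩ v) i,
      hσ]
    rfl

end Cfsg.Agent.FFStruct
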