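import Cfsg.Agent.FFStruct.Struct
import Cfsg.Agent.FFStruct.LocalPerm

/-!
# Every offender lies in the product of the components
-/

set_option autoImplicit false
set_option linter.unusedSectionVars false
set_option linter.style.haveILetI false

namespace Cfsg.Agent.FFStruct

open Subgroup
open scoped Pointwise

variable {H : Type*} [Group H] {V : Type*} [AddCommGroup V] [DistribMulAction H V]
variable [Finite H] [Finite V] [FaithfulSMul H V] {p : ℕ} [Fact p.Prime]

theorem smul_mem_fx_norm {E : Subgroup H} {g : H} (hg : g ∈ normalizer (E : Set H)) {v : V}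
    (hv : v ∈ fx (V := V) E) : g • v ∈ fx E := by
  have h : g • v ∈ fx (V := V) (cj g E) := by rw [fx_cj]; exact smul_mem_sm hv
  rwa [cj_of_mem_normalizer hg] at h

/-- The one component statement. -/
theorem IsMod.local_bound {E Q : Subgroup H} (hE : IsMod V p E)
    (hQ : Cfsg.IsElementaryAbelian p Q) (hQE : Q ≤ normalizer (E : Set H)) :
    4 ≤ (fx (V := V) E).index ∧
    ∃ Kk : Subgroup H, (∀ q, q ∈ Kk ↔ q ∈ Q ∧ ∀ v : V, dm q v ∈ fx E) ∧
      Nat.card Q * Nat.card (fxMod (V := V) E Q) ≤ Nat.card V * Nat.card Kk ∧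
      (Nat.card V * Nat.card Kk ≤ Nat.card Q * Nat.card (fxMod (V := V) E Q) →
        ∀ q ∈ Q, ∃ e ∈ E, ∀ v : V, q • v - e • v ∈ fx E) := by
  obtain ⟨n, hn, ⟨K, i1, i2, hK, ρ, ψ, hs, hk, heq⟩ | ⟨hp2, ρ, ψ, hev, hs, hk, heq⟩⟩ := hE
  · have hker : ψ.ker = fx E := AddSubgroup.ext fun v => hk v
    refine ⟨?_, ?_⟩
    · rw [← hker, AddSubgroup.index_ker, AddMonoidHom.range_eq_top.2 hs, AddSubgroup.card_top,
        Nat.card_eq_fintype_card, Fintype.card_fun, Fintype.card_fin]
      have := Fintype.one_lt_card (α := K)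
      nlinarith
    · obtain ⟨Kk, h1, h2, h3⟩ := local_SL2 hQ hQE ⟨n, hn, hK⟩ ρ ψ hs hk heq
      refine ⟨Kk, h1, h2, fun hge q hq => ?_⟩
      obtain ⟨e, he, h4⟩ := h3 hge q hq
      exact ⟨e, he, fun v => (hk _).1 (by rw [map_sub, h4, sub_self])⟩
  · subst hp2
    have hker : ψ.ker = fx E := AddSubgroup.ext fun v => hk v
    refine ⟨?_, ?_⟩
    · rw [← hker, AddSubgroup.index_ker]
      let N := 2 ^ n + 1
      have h3 : 3 ≤ N := three_le n hn
      have hsub : ({0, ctr (⟨0, by omega⟩ : Fin N) ⟨1, by omega⟩, ctr (⟨0, by omega⟩ : Fin N) ⟨2, by omega⟩,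
          ctr (⟨1, by omega⟩ : Fin N) ⟨2, by omega⟩} : Finset (Fin N → ZMod 2)) ⊆
          (ψ.range : Set (Fin N → ZMod 2)).toFinite.toFinset := by
        intro f hf
        rw [Set.Finite.mem_toFinset]
        simp only [Finset.mem_insert, Finset.mem_singleton] at hf
        rcases hf with rfl | rfl | rfl | rfl
        · exact zero_mem _
        · exact hs _ (ctr_mem _ _)
        · exact hs _ (ctr_mem _ _)
        · exact hs _ (ctr_mem _ _)
      have h4 := Finset.card_le_card hsub
      rw [← Set.ncard_eq_toFinset_card, ← Nat.card_coe_set_eq] at h4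
      refine le_trans (le_of_eq ?_) h4
      have e0 : ∀ i : Fin N, (0 : Fin N → ZMod 2) i = 0 := fun i => rfl
      rw [Finset.card_insert_of_notMem, Finset.card_insert_of_notMem, Finset.card_insert_of_notMem,
        Finset.card_singleton]
      · simp only [Finset.mem_singleton]
        intro h; have := congrFun h ⟨0, by omega⟩; simp [ctr_apply] at this
      · simp only [Finset.mem_insert, Finset.mem_singleton, not_or]
        refine ⟨fun h => ?_, fun h => ?_⟩
        · have := congrFun h ⟨1, by omega⟩; simp [ctr_apply] at this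
        · have := congrFun h ⟨0, by omega⟩; simp [ctr_apply] at this
      · simp only [Finset.mem_insert, Finset.mem_singleton, not_or]
        refine ⟨fun h => ?_, fun h => ?_, fun h => ?_⟩
        · have := congrFun h ⟨0, by omega⟩; simp [ctr_apply] at this
        · have := congrFun h ⟨0, by omega⟩; simp [ctr_apply] at this
        · have := congrFun h ⟨1, by omega⟩; simp [ctr_apply] at this
    · obtain ⟨Kk, h1, h2, h3⟩ := local_Perm hQ hQE hn ρ ψ hev hs hk heq
      refine ⟨Kk, h1, h2, fun _ q hq => ?_⟩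
      obtain ⟨e, he, h4⟩ := h3 q hq
      exact ⟨e, he, fun v => (hk _).1 (by rw [map_sub, h4, sub_self])⟩

namespace SysData

variable {T : Subgroup H} {r : ℕ} {E : Fin r → Subgroup H} (hE : SysData V p T E)

include hE

/-- The other components act trivially on one section. -/
theorem sup_others {k : Fin r} {s : Finset (Fin r)} (hk : k ∉ s) :
    (⨆ i ∈ s, E i) ≤ centralizer (E k : Set H) ∧ cm (V := V) (⨆ i ∈ s, E i) ≤ fx (E k) := by
  let P0 : Subgroup H :=
    { carrier := {g | g ∈ centralizer (E k : Set H) ∧ ∀ v : V, dm g v ∈ fx (E k)}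
      one_mem' := ⟨one_mem _, fun v => by rw [dm_apply, one_smul, sub_self]; exact zero_mem _⟩
      mul_mem' := fun {a b} ha hb => ⟨mul_mem ha.1 hb.1, fun v => by
        rw [dm_mul]
        exact add_mem (smul_mem_fx_of_commute (mem_centralizer_iff.1 ha.1) (hb.2 v)) (ha.2 v)⟩
      inv_mem' := fun {a} ha => ⟨inv_mem ha.1, fun v => by
        rw [dm_inv]
        exact neg_mem (smul_mem_fx_of_commute (mem_centralizer_iff.1 (inv_mem ha.1)) (ha.2 v))⟩ }
  have hle : (⨆ i ∈ s, E i) ≤ P0 := iSup₂_le fun i hi g hg =>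
    have hne : i ≠ k := fun e => hk (e ▸ hi)
    ⟨hE.comm i k hne hg, fun v => hE.cross i k hne (dm_mem_cm hg v)⟩
  exact ⟨fun g hg => (hle hg).1, cm_le_iff.2 fun g hg => (hle hg).2⟩

theorem le_normalizer_sup (i : Fin r) : (⨆ j, E j) ≤ normalizer (E i : Set H) := by
  refine iSup_le fun j => ?_
  rcases eq_or_ne j i with rfl | h
  · exact le_normalizer
  · exact (hE.comm j i h).trans (centralizer_le_normalizer _)

theorem ne_bot (i : Fin r) : E i ≠ ⊥ := fun e => by
  obtain ⟨h4, -⟩ := (hE.mod i).local_bound (Q := ⊥) Thompson.ea_bot bot_le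
  rw [e, fx_bot, AddSubgroup.index_top] at h4
  omega

theorem injective : Function.Injective E := fun i j e => by
  by_contra hne
  refine hE.ne_bot i (le_bot_iff.1 ((le_inf le_rfl ?_).trans (hE.indep i).le))
  exact e.le.trans (le_iSup₂ (f := fun k (_ : k ∈ {k | k ≠ i}) => E k) j (Ne.symm hne))

theorem eq_one_of_trivial : ∀ s : Finset (Fin r), ∀ e ∈ ⨆ i ∈ s, E i,
    (∀ i ∈ s, ∀ v : V, dm e v ∈ fx (E i)) → e = 1 := by
  intro s
  induction s using Finset.induction_on with
  | empty =>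
    intro e he _
    simpa using he
  | @insert k s hk ih =>
    intro e he htriv
    have hsplit : (⨆ i ∈ insert k s, E i) = E k ⊔ ⨆ i ∈ s, E i := Finset.iSup_insert k s E
    obtain ⟨h1, h2⟩ := hE.sup_others hk
    rw [hsplit, ← SetLike.mem_coe, Subgroup.coe_mul_of_right_le_normalizer_left (E k) (⨆ i ∈ s, E i)
      (h1.trans (centralizer_le_normalizer _))] at he
    obtain ⟨a, ha, d, hd, rfl⟩ := he
    have ha1 : a = 1 := by
      refine (hE.mod k).eq_one ha fun v => ?_
      have h3 := htriv k (Finset.mem_insert_self k s) (d⁻¹ • v)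
      have h4 := cm_le_iff.1 h2 d⁻¹ (inv_mem hd) v
      have h5 : dm a v = dm (a * d) (d⁻¹ • v) + dm d⁻¹ v := by
        rw [dm_apply, dm_apply, dm_apply, mul_smul, smul_inv_smul]; abel
      rw [h5]; exact add_mem h3 h4
    subst ha1
    show (1 : H) * d = 1
    rw [one_mul]
    exact ih d hd fun i hi v => by simpa using htriv i (Finset.mem_insert_of_mem hi) v

theorem normal : ((⨆ i, E i) : Subgroup H).Normal := by
  rw [← normalizer_eq_top_iff, ← top_le_iff, ← hE.top]
  refine sup_le le_normalizer fun t ht => mem_normalizer_of_cj ?_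
  refine eq_of_le_of_card_ge ?_ (card_cj t _).ge
  show (⨆ i, E i).map _ ≤ _
  rw [Subgroup.map_iSup]
  refine iSup_le fun i => ?_
  obtain ⟨j, ej⟩ := hE.perm t ht i
  show cj t (E i) ≤ _
  rw [ej]
  exact le_iSup E j

/-- The action on the sections is faithful. -/
theorem faithful (hT : IsPGroup p T) (hOp : Cfsg.pCore p H = ⊥) {x : H}
    (hn : ∀ i, x ∈ normalizer (E i : Set H)) (hd : ∀ i, ∀ v : V, dm x v ∈ fx (E i)) : x = 1 := by
  set S := (⨆ i, E i) with hS
  haveI := hE.normal
  have hcen : ∀ i, ∀ e ∈ E i, x * e * x⁻¹ = e := by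
    intro i e he
    refine mul_inv_eq_one.1 ((hE.mod i).eq_one
      (mul_mem ((mem_normalizer_iff.1 (hn i) e).1 he) (inv_mem he)) fun v => ?_)
    set u := e⁻¹ • v with hu
    set w := x⁻¹ • u with hw
    have h5 : dm (x * e * x⁻¹ * e⁻¹) v = dm x (e • w) - e • dm x w := by
      simp only [dm_apply, mul_smul, smul_sub, ← hu, ← hw]
      rw [show x • w = u from smul_inv_smul x u, show e • u = v from smul_inv_smul e v]
      abel
    rw [h5]
    exact AddSubgroup.sub_mem _ (hd i _) (smul_mem_fx_norm (le_normalizer he) (hd i _))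
  let K0 : Subgroup H :=
    { carrier := {y | y ∈ centralizer (S : Set H) ∧ ∀ v : V, dm y v ∈ fx S}
      one_mem' := ⟨one_mem _, fun v => by rw [dm_apply, one_smul, sub_self]; exact zero_mem _⟩
      mul_mem' := fun {a b} ha hb => ⟨mul_mem ha.1 hb.1, fun v => by
        rw [dm_mul]
        exact add_mem (smul_mem_fx_of_commute (mem_centralizer_iff.1 ha.1) (hb.2 v)) (ha.2 v)⟩
      inv_mem' := fun {a} ha => ⟨inv_mem ha.1, fun v => by
        rw [dm_inv]
        exact neg_mem (smul_mem_fx_of_commute (mem_centralizer_iff.1 (inv_mem ha.1)) (ha.2 v))⟩ }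
  haveI hK0 : K0.Normal := by
    refine ⟨fun y hy g => ⟨(Subgroup.normal_centralizer (H := S)).conj_mem y hy.1 g, fun v => ?_⟩⟩
    rw [dm_conj]
    exact smul_mem_fx_norm (by rw [normalizer_eq_top_iff.2 hE.normal]; exact mem_top g) (hy.2 _)
  have hinf : K0 ⊓ S = ⊥ := by
    refine (Subgroup.eq_bot_iff_forall _).2 fun e he => ?_
    refine hE.eq_one_of_trivial Finset.univ e ?_ fun i _ v => fx_anti (le_iSup E i) (he.1.2 v)
    simpa using he.2
  have hp : IsPGroup p K0 := by
    obtain ⟨m, hm⟩ := hT.exists_card_eq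
    refine IsPGroup.iff_card.2 ?_
    have h1 : Nat.card K0 = S.relIndex K0 := by
      rw [← Subgroup.inf_relIndex_right, inf_comm, hinf, Subgroup.relIndex_bot_left]
    have h2 : S.relIndex K0 ∣ S.index := Subgroup.relIndex_dvd_index_of_normal _ _
    have h3 : S.index ∣ p ^ m := by
      rw [← Subgroup.relIndex_top_right, ← hE.top, ← hS, Subgroup.relIndex_sup_left, ← hm]
      exact Subgroup.relIndex_dvd_card _ _
    rw [h1]
    obtain ⟨k, -, hk⟩ := (Nat.dvd_prime_pow (Fact.out : p.Prime)).1 (h2.trans h3)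
    exact ⟨k, hk⟩
  refine mem_bot.1 (hOp.le (Core.le_pCore hp (show x ∈ K0 from ⟨?_, fun v => ?_⟩)))
  · have : S ≤ centralizer ({x} : Set H) := iSup_le fun i e he => by
      rw [mem_centralizer_singleton_iff]
      have := hcen i e he
      rw [mul_inv_eq_iff_eq_mul] at this
      exact this.symm
    exact mem_centralizer_iff.2 fun e he => mem_centralizer_singleton_iff.1 (this he)
  · rw [mem_fx_iff_le_stabV]
    exact iSup_le fun i => mem_fx_iff_le_stabV.1 (hd i v)

/-- Every offender in `T` lies in the product of the components. -/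
theorem offender_le (hT : IsPGroup p T) (hOp : Cfsg.pCore p H = ⊥) {B : Subgroup H}
    (hB : Cfsg.IsElementaryAbelian p B) (hBT : B ≤ T)
    (hb : Nat.card V ≤ Nat.card B * Nat.card (fx (V := V) B)) : B ≤ ⨆ i, E i := by
  classical
  -- the action on the indices
  choose σ hσ using fun (b : B) (i : Fin r) => hE.perm b (hBT b.2) i
  have hσ1 : ∀ i, σ 1 i = i := fun i => hE.injective (by rw [← hσ, OneMemClass.coe_one, cj_one])
  have hσmul : ∀ b c i, σ (b * c) i = σ b (σ c i) := fun b c i =>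
    hE.injective (by rw [← hσ, ← hσ, ← hσ, Subgroup.coe_mul, cj_cj])
  letI : MulAction B (Fin r) := { smul := σ, one_smul := hσ1, mul_smul := hσmul }
  have hstab : ∀ (b : B) i, σ b i = i → (b : H) ∈ normalizer (E i : Set H) := fun b i h =>
    mem_normalizer_of_cj (by rw [hσ, h])
  -- the local data
  let Q : Fin r → Subgroup H := fun i => B ⊓ normalizer (E i : Set H)
  have hQea : ∀ i, Cfsg.IsElementaryAbelian p (Q i) := fun i => Thompson.ea_mono hB inf_le_left
  choose hw4 Kk hKk hbd himg using fun i => (hE.mod i).local_bound (hQea i) inf_le_right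
  let w : Fin r → ℕ := fun i => (fx (V := V) (E i)).index
  let m : Fin r → ℕ := fun i =>
    Nat.card ((fxMod (V := V) (E i) (Q i)).map (QuotientAddGroup.mk' (fx (V := V) (E i))))
  let pp : Fin r → ℕ := fun i => ((Kk i).subgroupOf (Q i)).index
  have hKQ : ∀ i, Kk i ≤ Q i := fun i q hq => ((hKk i q).1 hq).1
  have hQc : ∀ i, Nat.card (Q i) = Nat.card (Kk i) * pp i := fun i => by
    rw [← ((Kk i).subgroupOf (Q i)).card_mul_index,
      Nat.card_congr (Subgroup.subgroupOfEquivOfLe (hKQ i)).toEquiv]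
  have hMc : ∀ i, Nat.card (fxMod (V := V) (E i) (Q i)) = m i * Nat.card (fx (V := V) (E i)) :=
    fun i => by
      have h1 := card_comap_eq (QuotientAddGroup.mk' (fx (V := V) (E i))) (fxMod (E i) (Q i))
        (fun v hv => mem_fxMod.2 fun q hq => by
          rw [QuotientAddGroup.ker_mk'] at hv
          rw [dm_apply]
          exact AddSubgroup.sub_mem _ (smul_mem_fx_norm hq.2 hv) hv)
      rwa [QuotientAddGroup.ker_mk'] at h1
  have hpm : ∀ i, pp i * m i ≤ w i := fun i => by
    have h1 := hbd i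
    rw [hQc, hMc, ← (fx (V := V) (E i)).card_mul_index] at h1
    refine Nat.le_of_mul_le_mul_right (c := Nat.card (Kk i) * Nat.card (fx (V := V) (E i))) ?_
      (Nat.mul_pos Nat.card_pos Nat.card_pos)
    calc pp i * m i * (Nat.card (Kk i) * Nat.card (fx (V := V) (E i)))
        = Nat.card (Kk i) * pp i * (m i * Nat.card (fx (V := V) (E i))) := by ring
      _ ≤ Nat.card (fx (V := V) (E i)) * w i * Nat.card (Kk i) := h1
      _ = _ := by ring
  -- the joint map
  let Φ : V →+ ((i : Fin r) → V ⧸ fx (V := V) (E i)) :=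
    AddMonoidHom.mk' (fun v i => QuotientAddGroup.mk v) fun u v => rfl
  have hΦs : Function.Surjective Φ := by
    intro f
    choose v hv using fun i => QuotientAddGroup.mk_surjective (f i)
    have hsp : ∀ i, ∃ u ∈ cm (V := V) (E i), v i - u ∈ fx (E i) := fun i => by
      obtain ⟨a, ha, b, hb', e⟩ := AddSubgroup.mem_sup.1 ((hE.mod i).span.ge (AddSubgroup.mem_top (v i)))
      exact ⟨b, hb', by rw [← e, add_sub_cancel_right]; exact ha⟩
    choose u hu hu' using hsp
    refine ⟨∑ i, u i, funext fun i => ?_⟩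
    show QuotientAddGroup.mk (∑ j, u j) = f i
    rw [← hv, QuotientAddGroup.eq_iff_sub_mem, ← Finset.sum_erase_add _ _ (Finset.mem_univ i),
      add_sub_assoc]
    refine AddSubgroup.add_mem _ (AddSubgroup.sum_mem _ fun j hj => ?_) ?_
    · exact hE.cross j i (Finset.ne_of_mem_erase hj) (hu j)
    · rw [← neg_sub]; exact AddSubgroup.neg_mem _ (hu' i)
  have hVc : Nat.card V = (∏ i, w i) * Nat.card Φ.ker := by
    rw [AddSubgroup.card_eq_card_quotient_mul_card_addSubgroup Φ.ker,
      Nat.card_congr (QuotientAddGroup.quotientKerEquivOfSurjective Φ hΦs).toEquiv, Nat.card_pi]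
    rfl
  have hkerfx : ∀ v, v ∈ Φ.ker → ∀ b ∈ B, dm b v ∈ Φ.ker := by
    intro v hv b hb'
    refine funext fun i => (QuotientAddGroup.eq_zero_iff _).2 ?_
    rw [dm_apply]
    refine AddSubgroup.sub_mem _ ?_ ((QuotientAddGroup.eq_zero_iff _).1 (congrFun hv i))
    set j := σ (⟨b, hb'⟩ : B)⁻¹ i with hj
    have hij : cj b (E j) = E i := by
      rw [show b = ((⟨b, hb'⟩ : B) : H) from rfl, hσ, hj, ← hσmul, mul_inv_cancel, hσ1]
    rw [← hij, fx_cj]
    exact smul_mem_sm ((QuotientAddGroup.eq_zero_iff _).1 (congrFun hv j))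
  have hfc : Nat.card (fx (V := V) B) ≤ Nat.card ((fx (V := V) B).map Φ) * Nat.card Φ.ker := by
    refine (card_le_of_le_add le_sup_left).trans (card_comap_eq Φ ((fx (V := V) B) ⊔ Φ.ker) le_sup_right).le |>.trans ?_
    refine Nat.mul_le_mul_right _ (le_of_eq ?_)
    rw [AddSubgroup.map_sup, show Φ.ker.map Φ = ⊥ from (AddSubgroup.map_eq_bot_iff _).2 le_rfl, sup_bot_eq]
  -- orbit representatives
  let Ω := MulAction.orbitRel.Quotient B (Fin r)
  let rep : Ω → Fin r := Quotient.out
  have hrep : ∀ i : Fin r, ∃ b : B, σ b (rep (Quotient.mk'' i)) = i := by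
    intro i
    have : rep (Quotient.mk'' i) ∈ MulAction.orbit B i := by
      rw [← MulAction.orbitRel_apply]; exact Quotient.mk_out (s := MulAction.orbitRel B (Fin r)) i
    obtain ⟨b, hb'⟩ := this
    exact ⟨b⁻¹, by rw [← hb']; exact inv_smul_smul b i⟩
  have hImg : Nat.card ((fx (V := V) B).map Φ) ≤ ∏ ω : Ω, m (rep ω) := by
    rw [← Nat.card_pi]
    refine Nat.card_le_card_of_injective (fun x : (fx (V := V) B).map Φ => fun ω =>
      (⟨(x : (i : Fin r) → V ⧸ fx (V := V) (E i)) (rep ω), ?_⟩ :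
        (fxMod (V := V) (E (rep ω)) (Q (rep ω))).map (QuotientAddGroup.mk' (fx (V := V) (E (rep ω)))))) ?_
    · obtain ⟨v, hv, e⟩ := x.2
      exact ⟨v, mem_fxMod.2 fun q hq => by rw [dm_eq_zero.2 (hv q hq.1)]; exact zero_mem _, by rw [← e]; rfl⟩
    · rintro ⟨_, v, hv, rfl⟩ ⟨_, v', hv', rfl⟩ h
      refine Subtype.ext (funext fun i => ?_)
      obtain ⟨b, hb'⟩ := hrep i
      have h1 : v - v' ∈ fx (V := V) (E (rep (Quotient.mk'' i))) :=
        QuotientAddGroup.eq_iff_sub_mem.1 (congrArg Subtype.val (congrFun h (Quotient.mk'' i)) :)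
      refine QuotientAddGroup.eq_iff_sub_mem.2 ?_
      have h2 : (b : H) • (v - v') ∈ fx (V := V) (cj (b : H) (E (rep (Quotient.mk'' i)))) := by
        rw [fx_cj]; exact smul_mem_sm h1
      rw [hσ, hb', smul_sub, hv _ b.2, hv' _ b.2] at h2
      exact h2
  let B0 : Subgroup B := ⨅ ω : Ω, MulAction.stabilizer B (rep ω)
  have hcommB : ∀ b c : B, b * c = c * b := fun b c =>
    Subtype.ext (mem_centralizer_iff.1 ((Thompson.ea_iff.1 hB).1 c.2) _ b.2)
  have hB0 : ∀ b ∈ B0, ∀ i, σ b i = i := fun b hb' i => by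
    obtain ⟨c, hc⟩ := hrep i
    rw [← hc, ← hσmul, hcommB, hσmul]
    exact congrArg (σ c) (Subgroup.mem_iInf.1 hb' (Quotient.mk'' i))
  let rr : Ω → ℕ := fun ω => Nat.card (MulAction.orbit B (rep ω))
  have hB0c : Nat.card B0 ≤ ∏ ω : Ω, pp (rep ω) := by
    simp only [pp, Subgroup.index]
    rw [← Nat.card_pi]
    refine Nat.card_le_card_of_injective (fun b : B0 => fun ω =>
      (QuotientGroup.mk (⟨((b : B) : H), (b : B).2, hstab _ _ (hB0 _ b.2 _)⟩ : Q (rep ω)) :
        Q (rep ω) ⧸ (Kk (rep ω)).subgroupOf (Q (rep ω)))) ?_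
    intro b c h
    have key : ((b : B) : H)⁻¹ * ((c : B) : H) = 1 := by
      have hn : ∀ i, ((b : B) : H)⁻¹ * ((c : B) : H) ∈ normalizer (E i : Set H) := fun i =>
        mul_mem (inv_mem (hstab _ _ (hB0 _ b.2 i))) (hstab _ _ (hB0 _ c.2 i))
      refine hE.faithful hT hOp hn fun i v => ?_
      obtain ⟨s, hs⟩ := hrep i
      have h1 := QuotientGroup.eq.1 (congrFun h (Quotient.mk'' i))
      rw [Subgroup.mem_subgroupOf, hKk] at h1
      set d := ((b : B) : H)⁻¹ * ((c : B) : H) with hd
      have h2 : dm d ((s : H)⁻¹ • v) ∈ fx (V := V) (E (rep (Quotient.mk'' i))) := h1.2 _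
      have h3 : (s : H) • dm d ((s : H)⁻¹ • v) ∈ fx (V := V) (cj (s : H) (E (rep (Quotient.mk'' i)))) := by
        rw [fx_cj]; exact smul_mem_sm h2
      rw [hσ, hs, ← dm_conj] at h3
      have hcd : (s : H) * d * (s : H)⁻¹ = d := by
        have := hcommB s ((b : B)⁻¹ * (c : B))
        have := congrArg Subtype.val this
        simp only [Subgroup.coe_mul, Subgroup.coe_inv] at this
        rw [hd, this, mul_inv_cancel_right]
      rwa [hcd] at h3
    exact Subtype.ext (Subtype.ext (inv_mul_eq_one.1 key))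
  have hBc : Nat.card B ≤ (∏ ω : Ω, rr ω) * Nat.card B0 := by
    rw [Subgroup.card_eq_card_quotient_mul_card_subgroup B0]
    refine Nat.mul_le_mul_right _ ?_
    rw [← Nat.card_pi]
    refine Nat.card_le_card_of_injective (fun x : B ⧸ B0 => fun ω =>
      (⟨Quotient.out x • rep ω, MulAction.mem_orbit _ _⟩ : MulAction.orbit B (rep ω))) ?_
    intro x y h
    rw [← QuotientGroup.out_eq' x, ← QuotientGroup.out_eq' y]
    refine QuotientGroup.eq.2 (Subgroup.mem_iInf.2 fun ω => ?_)
    have h1 : Quotient.out x • rep ω = Quotient.out y • rep ω := congrArg Subtype.val (congrFun h ω)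
    rw [MulAction.mem_stabilizer_iff, mul_smul, inv_smul_eq_iff, h1]
  have hwc : ∀ i, w i = w (rep (Quotient.mk'' i)) := fun i => by
    obtain ⟨b, hb'⟩ := hrep i
    have h0 := (fx (V := V) (E i)).card_mul_index
    have h0' := (fx (V := V) (E (rep (Quotient.mk'' i)))).card_mul_index
    have hc : Nat.card (fx (V := V) (E i)) = Nat.card (fx (V := V) (E (rep (Quotient.mk'' i)))) := by
      conv_lhs => rw [← hb', ← hσ, fx_cj, card_sm]
    rw [hc] at h0
    exact Nat.eq_of_mul_eq_mul_left Nat.card_pos (h0.trans h0'.symm)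
  have hprodw : ∏ i, w i = ∏ ω : Ω, w (rep ω) ^ rr ω := by
    have h1 : ∀ ω : Ω, rr ω = (Finset.univ.filter fun i : Fin r => (Quotient.mk'' i : Ω) = ω).card := by
      intro ω
      rw [← Fintype.card_subtype, ← Nat.card_eq_fintype_card]
      refine Nat.card_congr (Equiv.subtypeEquivRight fun i => ?_)
      rw [← MulAction.orbitRel_apply]
      conv_rhs => rw [← Quotient.out_eq' ω]
      exact (Quotient.eq'' (s₁ := MulAction.orbitRel B (Fin r))).symm
    rw [← Finset.prod_fiberwise Finset.univ (fun i => (Quotient.mk'' i : Ω)) w]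
    refine Finset.prod_congr rfl fun ω _ => ?_
    rw [h1, ← Finset.prod_const]
    refine Finset.prod_congr rfl fun i hi => ?_
    rw [hwc i, (Finset.mem_filter.1 hi).2]
  -- the count
  have hcount : ∏ i, w i ≤ ∏ ω : Ω, rr ω * (pp (rep ω) * m (rep ω)) := by
    refine Nat.le_of_mul_le_mul_right (c := Nat.card Φ.ker) ?_ Nat.card_pos
    rw [← hVc, Finset.prod_mul_distrib, Finset.prod_mul_distrib]
    refine hb.trans ?_
    calc Nat.card B * Nat.card (fx (V := V) B)
        ≤ ((∏ ω : Ω, rr ω) * ∏ ω : Ω, pp (rep ω)) * ((∏ ω : Ω, m (rep ω)) * Nat.card Φ.ker) :=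
          Nat.mul_le_mul (hBc.trans (Nat.mul_le_mul_left _ hB0c))
            (hfc.trans (Nat.mul_le_mul_right _ hImg))
      _ = _ := by ring
  have hrpos : ∀ ω, 0 < rr ω := fun ω => by
    haveI : Nonempty (MulAction.orbit B (rep ω)) := ⟨⟨rep ω, MulAction.mem_orbit_self _⟩⟩
    exact Nat.card_pos
  have hppos : ∀ i, 0 < pp i * m i := fun i =>
    Nat.mul_pos (Nat.pos_of_ne_zero (Subgroup.index_ne_zero_of_finite)) Nat.card_pos
  have hstrict : ∀ k a, 4 ≤ a → 2 ≤ k → k * a < a ^ k := fun k a ha hk => by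
    obtain ⟨j, rfl⟩ : ∃ j, k = j + 2 := ⟨k - 2, by omega⟩
    rw [show j + 2 = (j + 1) + 1 from rfl, pow_succ]
    refine Nat.mul_lt_mul_of_pos_right ?_ (by omega)
    have h1 : j + 1 < 2 ^ (j + 1) := Nat.lt_pow_self (by norm_num)
    have h2 : 2 * 2 ^ (j + 1) ≤ a ^ (j + 1) := by
      calc 2 * 2 ^ (j + 1) ≤ 2 ^ (j + 1) * 2 ^ (j + 1) := by
            refine Nat.mul_le_mul_right _ ?_
            exact Nat.le_self_pow (by omega) 2
        _ = 4 ^ (j + 1) := by rw [← mul_pow]; norm_num
        _ ≤ _ := Nat.pow_le_pow_left ha _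
    omega
  have hle1 : ∀ ω : Ω, rr ω * (pp (rep ω) * m (rep ω)) ≤ w (rep ω) ^ rr ω := fun ω => by
    refine (Nat.mul_le_mul_left _ (hpm _)).trans ?_
    rcases eq_or_lt_of_le (show 1 ≤ rr ω from hrpos ω) with h1 | h1
    · rw [← h1, one_mul, pow_one]
    · exact (hstrict _ _ (hw4 _) h1).le
  have heqω : ∀ ω : Ω, rr ω = 1 ∧ pp (rep ω) * m (rep ω) = w (rep ω) := by
    intro ω
    by_contra hne
    have hlt : rr ω * (pp (rep ω) * m (rep ω)) < w (rep ω) ^ rr ω := by
      rcases eq_or_lt_of_le (show 1 ≤ rr ω from hrpos ω) with h1 | h1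
      · rw [← h1, one_mul, pow_one]
        exact lt_of_le_of_ne (hpm _) fun e => hne ⟨h1.symm, e⟩
      · exact (Nat.mul_le_mul_left _ (hpm _)).trans_lt (hstrict _ _ (hw4 _) h1)
    rw [hprodw] at hcount
    exact hcount.not_gt (Finset.prod_lt_prod (fun ω _ => Nat.mul_pos (hrpos ω) (hppos _))
      (fun ω _ => hle1 ω) ⟨ω, Finset.mem_univ ω, hlt⟩)
  have hfix : ∀ (b : B) (i : Fin r), σ b i = i := by
    intro b i
    obtain ⟨c, hc⟩ := hrep i
    obtain ⟨h1, -⟩ := heqω (Quotient.mk'' i)
    have hsub : Subsingleton (MulAction.orbit B (rep (Quotient.mk'' i))) :=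
      Finite.card_le_one_iff_subsingleton.1 h1.le
    have e1 : ∀ s : B, σ s (rep (Quotient.mk'' i)) = rep (Quotient.mk'' i) := fun s =>
      congrArg Subtype.val (hsub.elim ⟨s • rep (Quotient.mk'' i), MulAction.mem_orbit _ _⟩
        ⟨_, MulAction.mem_orbit_self _⟩)
    rw [← hc, ← hσmul, e1, e1]
  have hBN : ∀ i, B ≤ normalizer (E i : Set H) := fun i b hb' => hstab ⟨b, hb'⟩ i (hfix _ i)
  have himg' : ∀ i, ∀ q ∈ B, ∃ e ∈ E i, ∀ v : V, q • v - e • v ∈ fx (E i) := by
    intro i q hq
    refine himg i ?_ q ⟨hq, hBN i hq⟩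
    have hri : rep (Quotient.mk'' i) = i := by
      obtain ⟨c, hc⟩ := hrep i
      exact (hfix c _).symm.trans hc
    have h1 := (heqω (Quotient.mk'' i)).2
    rw [hri] at h1
    rw [hQc, hMc, ← (fx (V := V) (E i)).card_mul_index]
    show Nat.card (fx (V := V) (E i)) * w i * Nat.card (Kk i) ≤ _
    rw [← h1]
    exact le_of_eq (by ring)
  intro b hb'
  have hglue : ∀ s : Finset (Fin r), ∃ e ∈ ⨆ i ∈ s, E i, ∀ i ∈ s, ∀ v : V, b • v - e • v ∈ fx (E i) := by
    intro s
    induction s using Finset.induction_on with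
    | empty => exact ⟨1, one_mem _, fun i hi => absurd hi (Finset.notMem_empty i)⟩
    | @insert k s hk ih =>
      obtain ⟨e, he, het⟩ := ih
      obtain ⟨a, ha, hat⟩ := himg' k b hb'
      obtain ⟨hc1, hc2⟩ := hE.sup_others hk
      have hsplit : (⨆ i ∈ insert k s, E i) = E k ⊔ ⨆ i ∈ s, E i := Finset.iSup_insert k s E
      refine ⟨a * e, hsplit ▸ mul_mem_sup ha he, fun i hi v => ?_⟩
      rcases Finset.mem_insert.1 hi with rfl | hi'
      · have h3 : a • dm e v ∈ fx (V := V) (E i) :=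
          smul_mem_fx_norm (le_normalizer ha) (cm_le_iff.1 hc2 e he v)
        rw [dm_apply, smul_sub, ← mul_smul] at h3
        have := AddSubgroup.sub_mem _ (hat v) h3
        rwa [sub_sub_sub_cancel_right] at this
      · have hne : k ≠ i := fun e' => hk (e' ▸ hi')
        have h3 : dm a (e • v) ∈ fx (V := V) (E i) := hE.cross k i hne (dm_mem_cm ha _)
        rw [dm_apply, ← mul_smul] at h3
        have := AddSubgroup.sub_mem _ (het i hi' v) h3
        rwa [sub_sub_sub_cancel_right] at this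
  obtain ⟨e, he, het⟩ := hglue Finset.univ
  have heS : e ∈ ⨆ i, E i := by simpa using he
  have hone : e⁻¹ * b = 1 := by
    refine hE.faithful hT hOp (fun i => mul_mem (inv_mem (hE.le_normalizer_sup i heS)) (hBN i hb'))
      fun i v => ?_
    have h1 : e • dm (e⁻¹ * b) v ∈ fx (V := V) (E i) := by
      rw [dm_apply, smul_sub, mul_smul, smul_inv_smul]
      exact het i (Finset.mem_univ i) v
    have h2 := smul_mem_fx_norm (inv_mem (hE.le_normalizer_sup i heS)) h1
    rwa [inv_smul_smul] at h2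
  rw [← inv_mul_eq_one.1 hone]
  exact heS

end SysData

end Cfsg.Agent.FFStruct
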