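import Cfsg.Agent.FFStruct.Quot
import Cfsg.Agent.FFStruct.Offender
import Cfsg.Agent.Baumann.CharP
import Cfsg.Agent.Fusion.ThompsonComplement

/-!
# The local `C**(G,T)` theorem for minimal parabolic groups
-/

set_option autoImplicit false
set_option linter.unusedSectionVars false
set_option linter.style.haveILetI false

namespace Cfsg.Agent.FFStruct

open Subgroup
open scoped Pointwise IsMulCommutative

variable {G : Type*} [Group G] [Finite G] {p : ℕ} [Fact p.Prime]

theorem omega_sylow_le (hG : centralizer (Cfsg.pCore p G : Set G) ≤ Cfsg.pCore p G) (T : Sylow p G) :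
    Cfsg.omegaOneCenter p (T : Subgroup G) ≤ Cfsg.omegaOneCenter p (Cfsg.pCore p G) := by
  refine (closure_le _).2 fun x hx => ?_
  have hc : x ∈ centralizer (Cfsg.pCore p G : Set G) := centralizer_le (Core.pCore_le_sylow T) hx.1.2
  exact Thompson.mem_omegaOne ⟨hG hc, hc⟩ hx.2

theorem thompson_normal : (Cfsg.thompsonSubgroup p G).Normal :=
  ⟨fun x hx g => by
    rw [← Thompson.map_thompson (MulAut.conj g)]
    exact ⟨x, hx, rfl⟩⟩

/-- An elementary abelian subgroup of largest order gives an offender. -/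
theorem maxEA_offender {V A : Subgroup G} (hV : Cfsg.IsElementaryAbelian p V)
    (hA : A ∈ Cfsg.maxElementaryAbelianSubgroups p G) :
    Nat.card V * Nat.card (A ⊓ centralizer (V : Set G) : Subgroup G) ≤
      Nat.card A * Nat.card (V ⊓ centralizer (A : Set G) : Subgroup G) := by
  set A0 := A ⊓ centralizer (V : Set G) with hA0
  have hc : V ≤ centralizer (A0 : Set G) := le_centralizer_iff.1 inf_le_right
  have e := Thompson.card_sup_mul_card_inf_of_comm hc
  rw [← e]
  refine Nat.mul_le_mul (hA.2 _ (Thompson.ea_sup hV (Thompson.ea_mono hA.1 inf_le_left) hc)) ?_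
  exact card_le_of_le (le_inf inf_le_left
    ((inf_le_right.trans inf_le_left).trans (Thompson.ea_iff.1 hA.1).1))

theorem local_cStarStar (hmin : Cfsg.IsPMinimal p G)
    (hG : centralizer (Cfsg.pCore p G : Set G) ≤ Cfsg.pCore p G) (T : Sylow p G)
    (hne : Cfsg.cStarStarOf p (T : Subgroup G) ≠ ⊤)
    {C : Subgroup G} [C.Normal] {V : Subgroup G}
    (hVdef : V = Cfsg.omegaOneCenter p (Cfsg.pCore p G))
    (hC : C = centralizer (V : Set G))
    [IsMulCommutative V] [DistribMulAction (G ⧸ C) (Additive ↥V)]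
    [FaithfulSMul (G ⧸ C) (Additive ↥V)]
    (hc : IsConj ((QuotientGroup.mk' C).comp (⊤ : Subgroup G).subtype) V) :
    ∃ (r : ℕ) (E : Fin r → Subgroup (G ⧸ C)),
      SysData (Additive ↥V) p ((T : Subgroup G).map (QuotientGroup.mk' C)) E ∧
      (⨆ i, E i) = (Cfsg.thompsonSubgroup p G).map (QuotientGroup.mk' C) := by
  classical
  have hVea : Cfsg.IsElementaryAbelian p V := hVdef ▸ Thompson.omegaOne_centre_ea p _
  set mk := QuotientGroup.mk' C with hmk
  have hmks : Function.Surjective mk := QuotientGroup.mk'_surjective C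
  set π := mk.comp (⊤ : Subgroup G).subtype with hπdef
  have hπ : Function.Surjective π := fun x => by
    obtain ⟨g, rfl⟩ := hmks x
    exact ⟨⟨g, mem_top g⟩, rfl⟩
  set CS := Cfsg.cStarStarOf p (T : Subgroup G) with hCS
  set Ω := Cfsg.omegaOneCenter p (T : Subgroup G) with hΩ
  have hΩV : Ω ≤ V := hVdef ▸ omega_sylow_le hG T
  have hCle : C ≤ CS := by
    rw [hC]; exact (centralizer_le hΩV).trans le_sup_left
  have hTCS : (T : Subgroup G) ≤ CS := by
    refine le_trans ?_ le_sup_left
    exact le_centralizer_iff.1 (Baumann.omegaOneCenter_comm _)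
  have hNJ : ∀ {U : Subgroup G}, Cfsg.thompsonSubgroupOf p U = Cfsg.thompsonSubgroupOf p (T : Subgroup G) →
      normalizer (U : Set G) ≤ CS := fun {U} e g hg => by
    refine mem_sup_right ?_
    rw [← e]
    exact Fusion.mem_normalizer_thompsonSubgroupOf hg
  obtain ⟨M, ⟨hM, hTM⟩, hMu⟩ := (hmin T).2
  have hCSM : CS ≤ M := by
    obtain ⟨X, hX, hle⟩ := (eq_top_or_exists_le_coatom CS).resolve_left hne
    rw [← hMu X ⟨hX, hTCS.trans hle⟩]
    exact hle
  have hCM : C ≤ M := hCle.trans hCSM
  -- the image of a Sylow subgroup is not normal, and lies in one maximal subgroup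
  have hpmin : Cfsg.IsPMinimal p (G ⧸ C) := by
    intro S'
    obtain ⟨S, rfl⟩ := Sylow.mapSurjective_surjective hmks p S'
    obtain ⟨g, rfl⟩ := MulAction.exists_smul_eq G T S
    set S : Sylow p G := g • T with hS
    rw [Sylow.coe_mapSurjective]
    have hSc : (S : Subgroup G) = cj g (T : Subgroup G) := Sylow.coe_subgroup_smul
    refine ⟨fun hn => ?_, ?_⟩
    · have h1 : ((T : Subgroup G) ⊔ C).Normal := by
        have h2 : ((S : Subgroup G).map mk).comap mk = (S : Subgroup G) ⊔ C := by
          rw [comap_map_eq, QuotientGroup.ker_mk']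
        haveI h3 : ((S : Subgroup G) ⊔ C).Normal := h2 ▸ hn.comap mk
        have h4 : (T : Subgroup G) ⊔ C = cj g⁻¹ ((S : Subgroup G) ⊔ C) := by
          show _ = Subgroup.map _ _
          rw [Subgroup.map_sup, hSc]
          congr 1
          · exact (cj_inv_cj g _).symm
          · exact (cj_of_mem_normalizer (by rw [normalizer_eq_top_iff.2 ‹C.Normal›]; exact mem_top _)).symm
        rw [h4, cj_of_mem_normalizer (by rw [normalizer_eq_top_iff.2 h3]; exact mem_top _)]
        exact h3
      haveI := h1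
      obtain ⟨R, hR⟩ := Cfsg.Agent.SylowNumber.exists_sylow_inf T ((T : Subgroup G) ⊔ C)
      have hf := Sylow.normalizer_sup_eq_top R
      rw [hR, subgroupOf_map_subtype, inf_assoc, inf_idem, inf_eq_left.2 le_sup_left] at hf
      exact hne (top_le_iff.1 (hf ▸ sup_le (hNJ rfl) (sup_le hTCS hCle)))
    · obtain ⟨M', ⟨hM', hSM'⟩, hu⟩ := (hmin S).2
      have hM'eq : M' = cj g M := (hu (cj g M) ⟨((MulAut.conj g).mapSubgroup.isCoatom_iff M).2 hM, by
        rw [hSc]; exact cj_mono g hTM⟩).symm
      have hCM' : C ≤ M' := by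
        rw [hM'eq]
        refine le_trans (le_of_eq ?_) (cj_mono g hCM)
        exact (cj_of_mem_normalizer (by rw [normalizer_eq_top_iff.2 ‹C.Normal›]; exact mem_top _)).symm
      have hcm : (M'.map mk).comap mk = M' := by
        rw [comap_map_eq, QuotientGroup.ker_mk', sup_eq_left.2 hCM']
      refine ⟨M'.map mk, ⟨⟨fun e => hM'.1 (by rw [← hcm, e, comap_top]), fun Y hY => ?_⟩,
        map_mono hSM'⟩, fun Y hY => ?_⟩
      · have h1 : M' < Y.comap mk := by
          rw [← hcm]
          exact (comap_lt_comap_of_surjective hmks).2 hY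
        have h2 := hM'.2 _ h1
        rw [← map_comap_eq_self_of_surjective hmks Y, h2, map_top_of_surjective mk hmks]
      · have hY' : IsCoatom (Y.comap mk) := by
          refine ⟨fun e => hY.1.1 ?_, fun Z hZ => ?_⟩
          · rw [← map_comap_eq_self_of_surjective hmks Y, e, map_top_of_surjective mk hmks]
          · have hCZ : C ≤ Z := by
              exact le_trans ((QuotientGroup.ker_mk' C).ge.trans (mk.ker_le_comap Y)) hZ.le
            have hcz : (Z.map mk).comap mk = Z := by
              rw [comap_map_eq, QuotientGroup.ker_mk', sup_eq_left.2 hCZ]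
            have h3 : Y < Z.map mk := (comap_lt_comap_of_surjective hmks).1 (hcz.symm ▸ hZ)
            rw [← hcz, hY.1.2 _ h3, comap_top]
        rw [← map_comap_eq_self_of_surjective hmks Y,
          hu _ ⟨hY', map_le_iff_le_comap.1 hY.2⟩]
  let T' : Sylow p (G ⧸ C) := Sylow.mapSurjective hmks T
  have hT' : (T' : Subgroup (G ⧸ C)) = (T : Subgroup G).map mk := Sylow.coe_mapSurjective ..
  have hOp : Cfsg.pCore p (G ⧸ C) = ⊥ := by
    set D := (Cfsg.pCore p (G ⧸ C)).comap mk with hD
    haveI : D.Normal := (Core.pCore_normal (p := p) (G := G ⧸ C)).comap mk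
    obtain ⟨R, hR⟩ := Cfsg.Agent.SylowNumber.exists_sylow_inf T D
    have hf := Sylow.normalizer_sup_eq_top R
    rw [hR, subgroupOf_map_subtype, inf_assoc, inf_idem] at hf
    have hDT : D ≤ ((T : Subgroup G) ⊓ D) ⊔ C := by
      intro d hd
      obtain ⟨t, ht, e⟩ := (Core.pCore_le_sylow (p := p) T') hd
      have htd : t⁻¹ * d ∈ C := QuotientGroup.eq.1 e
      have htD : t ∈ D := by
        rw [hD, mem_comap, show mk t = mk d from e]; exact hd
      rw [show d = t * (t⁻¹ * d) by group]
      exact mul_mem_sup ⟨ht, htD⟩ htd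
    have htop : normalizer (((T : Subgroup G) ⊓ D : Subgroup G) : Set G) = ⊤ := by
      by_contra hn
      obtain ⟨X, hX, hle⟩ := (eq_top_or_exists_le_coatom _).resolve_left hn
      have hTX : (T : Subgroup G) ≤ X := by
        refine le_trans (fun t ht => mem_normalizer_iff.2 fun y => ?_) hle
        have hnD := mem_normalizer_iff.1
          (show t ∈ normalizer (D : Set G) by rw [normalizer_eq_top_iff.2 ‹D.Normal›]; exact mem_top t) y
        have hnT := mem_normalizer_iff.1 (le_normalizer ht : t ∈ normalizer ((T : Subgroup G) : Set G)) y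
        exact and_congr hnT hnD
      rw [hMu X ⟨hX, hTX⟩] at hle
      exact hM.1 (top_le_iff.1 (hf ▸ sup_le hle (hDT.trans (sup_le (inf_le_left.trans hTM) hCM))))
    haveI := normalizer_eq_top_iff.1 htop
    have hTD : ((T : Subgroup G) ⊓ D) ≤ C := by
      refine (Core.le_pCore (T.isPGroup'.to_le inf_le_left)).trans ?_
      rw [hC, hVdef, le_centralizer_iff]
      exact Baumann.omegaOneCenter_comm _
    rw [eq_bot_iff, ← map_comap_eq_self_of_surjective hmks (Cfsg.pCore p (G ⧸ C)), map_le_iff_le_comap,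
      MonoidHom.comap_bot, QuotientGroup.ker_mk']
    exact hDT.trans (sup_le hTD le_rfl)
  have hp : ∀ v : Additive ↥V, p • v = 0 := fun v =>
    Additive.toMul.injective (Subtype.ext ((Thompson.ea_iff.1 hVea).2 _ (Additive.toMul v).2))
  have hMC : (M.map mk).comap mk = M := by
    rw [comap_map_eq, QuotientGroup.ker_mk', sup_eq_left.2 hCM]
  obtain ⟨M'', ⟨hM'', hTM''⟩, hu''⟩ := (hpmin T').2
  have hM''le : M.map mk ≤ M'' := by
    have hMne : M.map mk ≠ ⊤ := fun e => hM.1 (by rw [← hMC, e, comap_top])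
    obtain ⟨X, hX, hle⟩ := (eq_top_or_exists_le_coatom _).resolve_left hMne
    rw [← hu'' X ⟨hX, hT' ▸ (map_mono hTM).trans hle⟩]
    exact hle
  have hA : Amb (G ⧸ C) (Additive ↥V) p := by
    refine Amb.of_one hp hpmin hOp T' M'' hM'' hTM'' fun x hx => ?_
    obtain ⟨g, rfl⟩ := hmks x
    refine hM''le ⟨g, hCSM (mem_sup_left (mem_centralizer_iff.2 fun z hz => ?_)), rfl⟩
    have hzV := hΩV hz
    have hzfix : Additive.ofMul (⟨z, hzV⟩ : ↥V) ∈ fx (T' : Subgroup (G ⧸ C)) := by
      rw [hT']
      rintro _ ⟨t, ht, rfl⟩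
      refine Additive.toMul.injective (Subtype.ext ?_)
      refine (hc ⟨t, mem_top t⟩ _).trans ?_
      show t * z * t⁻¹ = z
      rw [mem_centralizer_iff.1 ((Baumann.omegaOneCenter_comm _) hz) t ht, mul_inv_cancel_right]
    have h1 := congrArg (fun w : Additive ↥V => ((Additive.toMul w : ↥V) : G)) (hx _ hzfix)
    exact (mul_inv_eq_iff_eq_mul.1 ((hc ⟨g, mem_top g⟩ _).symm.trans h1)).symm
  have hoff : ∀ A : Subgroup G, A ∈ Cfsg.maxElementaryAbelianSubgroups p G →
      Cfsg.IsElementaryAbelian p (A.map mk) ∧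
      Nat.card (Additive ↥V) ≤ Nat.card (A.map mk) * Nat.card (fx (V := Additive ↥V) (A.map mk)) := by
    intro A hAm
    refine ⟨Thompson.ea_map hAm.1 _, ?_⟩
    have h1 := maxEA_offender hVea hAm
    rw [← hC] at h1
    have h2 : Nat.card A = Nat.card (A.map mk) * Nat.card (A ⊓ C : Subgroup G) := by
      have h3 := card_range_ker (mk.comp A.subtype)
      rw [MonoidHom.range_comp, range_subtype] at h3
      rw [h3]
      congr 1
      refine Nat.card_congr
        { toFun := fun x => ⟨((x : A) : G), (x : A).2, (QuotientGroup.eq_one_iff _).1 x.2⟩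
          invFun := fun x => ⟨⟨x, x.2.1⟩, (QuotientGroup.eq_one_iff (x : G)).2 x.2.2⟩
          left_inv := fun _ => rfl
          right_inv := fun _ => rfl }
    have h4 : Nat.card (V ⊓ centralizer (A : Set G) : Subgroup G) ≤
        Nat.card (fx (V := Additive ↥V) (A.map mk)) := by
      refine Nat.card_le_card_of_injective (fun x => ⟨Additive.ofMul (⟨x, x.2.1⟩ : ↥V), ?_⟩) ?_
      · rintro _ ⟨a, ha, rfl⟩
        refine Additive.toMul.injective (Subtype.ext ?_)
        refine (hc ⟨a, mem_top a⟩ _).trans ?_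
        show a * (x : G) * a⁻¹ = x
        rw [mem_centralizer_iff.1 x.2.2 a ha, mul_inv_cancel_right]
      · intro x y h
        have h' := congrArg (fun w => ((Additive.toMul (Subtype.val w) : ↥V) : G)) h
        exact Subtype.ext h'
    rw [h2] at h1
    refine Nat.le_of_mul_le_mul_right (c := Nat.card (A ⊓ C : Subgroup G)) ?_ Nat.card_pos
    calc Nat.card (Additive ↥V) * Nat.card (A ⊓ C : Subgroup G)
        = Nat.card V * Nat.card (A ⊓ C : Subgroup G) := rfl
      _ ≤ _ := h1
      _ ≤ Nat.card (A.map mk) * Nat.card (A ⊓ C : Subgroup G) *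
          Nat.card (fx (V := Additive ↥V) (A.map mk)) := Nat.mul_le_mul_left _ h4
      _ = _ := by ring
  -- some offender acts nontrivially
  obtain ⟨A₀, hA₀, hA₀C⟩ : ∃ A ∈ Cfsg.maxElementaryAbelianSubgroups p G, ¬ A ≤ C := by
    by_contra hcon
    push Not at hcon
    obtain ⟨R, hR⟩ := Cfsg.Agent.SylowNumber.exists_sylow_inf T C
    have hf := Sylow.normalizer_sup_eq_top R
    rw [hR, subgroupOf_map_subtype, inf_assoc, inf_idem] at hf
    refine hne (top_le_iff.1 (hf ▸ sup_le (hNJ (le_antisymm ?_ ?_)) hCle))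
    · refine Thompson.thompsonOf_le_iff.2 fun B hB hBe hBmax => ?_
      refine Thompson.le_thompsonOf (hB.trans inf_le_left) hBe fun B' hB' hB'e => ?_
      obtain ⟨A₁, hA₁⟩ := Thompson.exists_maxEA p ↥(T : Subgroup G)
      have hA₁G := Thompson.maxEA_of_sylow T (map_subtype_le A₁) (Thompson.ea_map hA₁.1 _)
        ((Thompson.maxEA_subgroup_iff (map_subtype_le A₁)).1 (by
          rwa [show (A₁.map (T : Subgroup G).subtype).subgroupOf T = A₁ from
            comap_map_eq_self_of_injective (T : Subgroup G).subtype_injective A₁])).2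
      exact (hA₁G.2 B' hB'e).trans (hBmax _ (le_inf (map_subtype_le A₁) (hcon _ hA₁G)) hA₁G.1)
    · refine Thompson.thompsonOf_le_iff.2 fun B hB hBe hBmax => ?_
      refine Thompson.le_thompsonOf (le_inf hB (hcon B (Thompson.maxEA_of_sylow T hB hBe hBmax))) hBe
        fun B' hB' hB'e => hBmax B' (hB'.trans inf_le_left) hB'e
  obtain ⟨hA₀e, hA₀b⟩ := hoff A₀ hA₀
  have hA₀ne : A₀.map mk ≠ ⊥ := fun e => hA₀C (by
    have h1 := map_le_iff_le_comap.1 e.le
    rwa [MonoidHom.comap_bot, QuotientGroup.ker_mk'] at h1)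
  obtain ⟨A₁, hA₁le, hA₁⟩ := exists_moff hA₀e hA₀ne hA₀b
  obtain ⟨L, hL, hLn⟩ := hA.exists_seed T' hA₁
  obtain ⟨r, E, hE, hEL⟩ := hA.exists_sys T' hL
  refine ⟨r, E, hT' ▸ hE, le_antisymm ?_ ?_⟩
  · haveI hJn : ((Cfsg.thompsonSubgroup p G).map mk).Normal :=
      (thompson_normal (p := p) (G := G)).map mk hmks
    have hL' : L ≤ (Cfsg.thompsonSubgroup p G).map mk :=
      hLn.trans (normalClosure_le_normal (hA₁le.trans (map_mono (Thompson.le_thompson hA₀))))
    refine iSup_le fun i => ?_
    obtain ⟨t, et⟩ := hEL i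
    rw [← et]
    rintro _ ⟨y, hy, rfl⟩
    exact hJn.conj_mem y (hL' hy) t
  · rw [map_le_iff_le_comap]
    refine sSup_le fun A hAm => ?_
    obtain ⟨S, hAS⟩ := (Thompson.ea_isPGroup hAm.1).exists_le_sylow
    obtain ⟨g, hg⟩ := MulAction.exists_smul_eq G S T
    have hmap : cj g A ∈ Cfsg.maxElementaryAbelianSubgroups p G :=
      Thompson.maxEA_map_equiv (MulAut.conj g) hAm
    obtain ⟨h1, h2⟩ := hoff _ hmap
    have h3 : (cj g A).map mk ≤ (T' : Subgroup (G ⧸ C)) := by
      rw [hT', ← hg, Sylow.coe_subgroup_smul]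
      exact map_mono (cj_mono g hAS)
    have h4 := hE.offender_le T'.isPGroup' hOp h1 h3 h2
    haveI := hE.normal
    intro a ha
    have h5 : mk g * mk a * (mk g)⁻¹ ∈ ⨆ i, E i := by
      rw [← map_inv, ← map_mul, ← map_mul]
      exact h4 ⟨_, conj_mem_cj ha, rfl⟩
    have h6 := hE.normal.conj_mem _ h5 (mk g)⁻¹
    simpa [mul_assoc] using h6

end Cfsg.Agent.FFStruct
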