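import Cfsg.Agent.FFStruct.Offender
import Cfsg.Agent.FFStruct.Bridge
import Cfsg.Agent.Fusion.PGroup
import Cfsg.Agent.SylowNumber.Formula

/-!
# A group with an offender moves a fixed point of its Sylow subgroup
-/

set_option autoImplicit false
set_option linter.unusedSectionVars false
set_option linter.style.haveILetI false

namespace Cfsg.Agent.FFStruct

open Subgroup Matrix
open scoped Pointwise MatrixGroups

variable {H : Type*} [Group H] {V : Type*} [AddCommGroup V] [DistribMulAction H V]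

/-- The action on the quotient by an invariant subgroup. -/
@[instance_reducible]
def quotMod (W : AddSubgroup V) (hW : ∀ (h : H), ∀ w ∈ W, h • w ∈ W) :
    DistribMulAction H (V ⧸ W) where
  smul h := QuotientAddGroup.map W W (DistribSMul.toAddMonoidHom V h) fun w hw => hW h w hw
  one_smul x := by
    obtain ⟨v, rfl⟩ := QuotientAddGroup.mk_surjective x
    exact congrArg _ (one_smul H v)
  mul_smul g h x := by
    obtain ⟨v, rfl⟩ := QuotientAddGroup.mk_surjective x
    exact congrArg _ (mul_smul g h v)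
  smul_zero h := map_zero (QuotientAddGroup.map W W (DistribSMul.toAddMonoidHom V h) fun w hw => hW h w hw)
  smul_add h := map_add (QuotientAddGroup.map W W (DistribSMul.toAddMonoidHom V h) fun w hw => hW h w hw)

/-- An element of order prime to `p` acting trivially on `W` and `V / W` fixes `v`. -/
theorem smul_eq_of_dm_fixed [Finite H] {p : ℕ} [Fact p.Prime] (hp : ∀ v : V, p • v = 0) {x : H}
    (hx : (orderOf x).Coprime p) {v : V} (h : x • dm x v = dm x v) : x • v = v := by
  have hk : ∀ k : ℕ, x ^ k • v = v + k • dm x v := by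
    intro k
    induction k with
    | zero => rw [pow_zero, one_smul, zero_smul, add_zero]
    | succ k ih =>
      rw [pow_succ', mul_smul, ih, smul_add, show x • (k • dm x v) = k • (x • dm x v) from
        map_nsmul (DistribSMul.toAddMonoidHom V x) _ _, h, succ_nsmul, dm_apply]
      abel
  have h1 := hk (orderOf x)
  rw [pow_orderOf_eq_one, one_smul, left_eq_add] at h1
  have h2 : addOrderOf (dm x v) ∣ Nat.gcd (orderOf x) p :=
    Nat.dvd_gcd (addOrderOf_dvd_of_nsmul_eq_zero h1) (addOrderOf_dvd_of_nsmul_eq_zero (hp _))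
  rw [hx.gcd_eq_one, Nat.dvd_one, AddMonoid.addOrderOf_eq_one_iff] at h2
  exact dm_eq_zero.1 h2

/-- A Sylow subgroup of `S_{2ⁿ+1}` fixes a point and is transitive on the others. -/
theorem sylow_perm_orbit {n : ℕ} (hn : 1 ≤ n) (S : Sylow 2 (Equiv.Perm (Fin (2 ^ n + 1)))) :
    ∃ x, (∀ s ∈ (S : Subgroup (Equiv.Perm (Fin (2 ^ n + 1)))), s x = x) ∧
      ∀ y z, y ≠ x → z ≠ x → ∃ s ∈ (S : Subgroup (Equiv.Perm (Fin (2 ^ n + 1)))), s y = z := by
  classical
  let N := 2 ^ n + 1
  obtain ⟨x, hx⟩ := S.isPGroup'.nonempty_fixed_point_of_prime_not_dvd_card (Fin N) (by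
    rw [Nat.card_fin]
    intro hd
    exact absurd ((Nat.dvd_add_right (dvd_pow_self 2 (by omega))).1 hd) (by norm_num))
  have hxS : ∀ s ∈ (S : Subgroup (Equiv.Perm (Fin N))), s x = x := fun s hs => hx ⟨s, hs⟩
  refine ⟨x, hxS, fun y z hy hz => ?_⟩
  -- the orbit of `y`
  let O := MulAction.orbit ↥(S : Subgroup (Equiv.Perm (Fin N))) y
  have hOsub : O ⊆ {i : Fin N | i ≠ x} := by
    rintro _ ⟨s, rfl⟩ h
    exact hy (s.1.injective (h.trans (hxS s.1 s.2).symm))
  suffices hO : O = {i : Fin N | i ≠ x} by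
    obtain ⟨s, hs⟩ : z ∈ O := by rw [hO]; exact hz
    exact ⟨s.1, s.2, hs⟩
  refine Set.eq_of_subset_of_ncard_le hOsub ?_ (Set.toFinite _)
  have hc : ({i : Fin N | i ≠ x}).ncard = 2 ^ n := by
    rw [show {i : Fin N | i ≠ x} = ({x}ᶜ : Set (Fin N)) from rfl, Set.ncard_compl, Set.ncard_singleton,
      Nat.card_fin]
    omega
  rw [hc]
  let Q := MulAction.stabilizer ↥(S : Subgroup (Equiv.Perm (Fin N))) y
  let f : ↥Q →* Equiv.Perm {i : Fin N // i ≠ x ∧ i ≠ y} :=
    { toFun := fun s => (s.1.1).subtypePerm fun i => by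
        have h1 : s.1.1 x = x := hxS _ s.1.2
        have h2 : s.1.1 y = y := s.2
        constructor
        · rintro ⟨a, b⟩; exact ⟨fun e => a (by rw [e, h1]), fun e => b (by rw [e, h2])⟩
        · rintro ⟨a, b⟩
          exact ⟨fun e => a (s.1.1.injective (e.trans h1.symm)), fun e => b (s.1.1.injective (e.trans h2.symm))⟩
      map_one' := by ext i; rfl
      map_mul' := fun s t => by ext i; rfl }
  have hf : Function.Injective f := by
    intro s t h
    refine Subtype.ext (Subtype.ext (Equiv.ext fun i => ?_))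
    by_cases h1 : i = x
    · rw [h1, hxS _ s.1.2, hxS _ t.1.2]
    by_cases h2 : i = y
    · rw [h2]; exact (s.2 : s.1.1 y = y).trans (t.2 : t.1.1 y = y).symm
    exact congrArg Subtype.val (Equiv.congr_fun h ⟨i, h1, h2⟩)
  have hQ : Nat.card Q ∣ (2 ^ n - 1).factorial := by
    have h1 := Subgroup.card_dvd_of_injective f hf
    rwa [Nat.card_perm, show Nat.card {i : Fin N // i ≠ x ∧ i ≠ y} = 2 ^ n - 1 by
      show Nat.card ({i : Fin N | i ≠ x ∧ i ≠ y} : Set (Fin N)) = _
      rw [Nat.card_coe_set_eq, show {i : Fin N | i ≠ x ∧ i ≠ y} = ({x, y}ᶜ : Set (Fin N)) by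
        ext i; simp, Set.ncard_compl, Set.ncard_pair hy.symm, Nat.card_fin]
      omega] at h1
  obtain ⟨k, hk⟩ := (S.isPGroup'.to_subgroup Q).exists_card_eq
  have hS : 2 ^ n * Nat.card Q ∣ Nat.card (S : Subgroup (Equiv.Perm (Fin N))) := by
    rw [hk, ← pow_add]
    refine S.pow_dvd_card_of_pow_dvd_card ?_
    rw [Nat.card_perm, Nat.card_fin, pow_add, ← hk]
    obtain ⟨m, hm⟩ : ∃ m, 2 ^ n = m + 1 := ⟨2 ^ n - 1, by have := Nat.one_le_two_pow (n := n); omega⟩
    rw [show 2 ^ n - 1 = m by omega] at hQ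
    have key : ∀ M, M = m + 1 → M * Nat.card Q ∣ (M + 1).factorial := by
      rintro M rfl
      rw [Nat.factorial_succ, Nat.factorial_succ]
      exact dvd_mul_of_dvd_right (mul_dvd_mul_left _ hQ) _
    exact key _ hm
  have horb : Nat.card O * Nat.card Q = Nat.card (S : Subgroup (Equiv.Perm (Fin N))) :=
    (Nat.card_prod _ _).symm.trans (Nat.card_congr
      (MulAction.orbitProdStabilizerEquivGroup (↥(S : Subgroup (Equiv.Perm (Fin N)))) y))
  rw [← horb] at hS
  haveI : Nonempty O := ⟨⟨y, MulAction.mem_orbit_self y⟩⟩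
  rw [← Nat.card_coe_set_eq]
  exact Nat.le_of_dvd Nat.card_pos ((Nat.mul_dvd_mul_iff_right Nat.card_pos).1 hS)

/-- The fixed points of an involution in `S_{2ⁿ+1}` central in a Sylow subgroup. -/
theorem perm_fix {n : ℕ} (hn : 1 ≤ n) (S : Sylow 2 (Equiv.Perm (Fin (2 ^ n + 1))))
    {σ : Equiv.Perm (Fin (2 ^ n + 1))} (h2 : σ * σ = 1) (h1 : σ ≠ 1)
    (hc : ∀ s ∈ (S : Subgroup (Equiv.Perm (Fin (2 ^ n + 1)))), s * σ = σ * s) {f : Fin (2 ^ n + 1) → ZMod 2}
    (hf : ∑ i, f i = 0) (hfix : ∀ i, f (σ i) = f i) :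
    ∃ g : Fin (2 ^ n + 1) → ZMod 2, ∑ i, g i = 0 ∧ ∀ i, g (σ i) + g i = f i := by
  classical
  obtain ⟨x, hxS, htr⟩ := sylow_perm_orbit hn S
  have hcs : ∀ s ∈ (S : Subgroup (Equiv.Perm (Fin (2 ^ n + 1)))), ∀ i, s (σ i) = σ (s i) := fun s hs i =>
    Equiv.congr_fun (hc s hs) i
  have hσσ : ∀ i, σ (σ i) = i := fun i => Equiv.congr_fun h2 i
  obtain ⟨y0, hy0⟩ : ∃ y, y ≠ x := by
    obtain ⟨k, hk, -⟩ := exists_third (three_le n hn) x x
    exact ⟨k, hk⟩
  have hσx : σ x = x := by
    by_contra hne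
    obtain ⟨k, hk1, hk2⟩ := exists_third (three_le n hn) x (σ x)
    obtain ⟨s, hs, e⟩ := htr (σ x) k hne hk1
    refine hk2 ?_
    rw [← e, hcs s hs, hxS s hs]
  have hσy : ∀ y, y ≠ x → σ y ≠ y := by
    intro y hy e
    refine h1 (Equiv.ext fun i => ?_)
    rcases eq_or_ne i x with rfl | hi
    · exact hσx
    · obtain ⟨s, hs, e'⟩ := htr y i hy hi
      rw [Equiv.Perm.coe_one, id_eq, ← e', ← hcs s hs, e]
  have hσne : ∀ y, y ≠ x → σ y ≠ x := fun y hy e => hy (σ.injective (e.trans hσx.symm))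
  have hsum : ∑ i ∈ Finset.univ.erase x, f i = 0 := by
    refine Finset.sum_involution (fun i _ => σ i) (fun i _ => ?_) (fun i hi _ => ?_)
      (fun i hi => ?_) (fun i _ => hσσ i)
    · rw [hfix]; exact CharTwo.add_self_eq_zero _
    · exact hσy i (Finset.ne_of_mem_erase hi)
    · exact Finset.mem_erase.2 ⟨hσne i (Finset.ne_of_mem_erase hi), Finset.mem_univ _⟩
  have hfx : f x = 0 := by
    rw [← Finset.sum_erase_add _ _ (Finset.mem_univ x), hsum, zero_add] at hf
    exact hf
  let g0 : Fin (2 ^ n + 1) → ZMod 2 := fun i => if i < σ i then f i else 0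
  let g := Function.update g0 x (∑ i ∈ Finset.univ.erase x, g0 i)
  refine ⟨g, ?_, fun i => ?_⟩
  · rw [← Finset.sum_erase_add _ _ (Finset.mem_univ x),
      show g x = ∑ i ∈ Finset.univ.erase x, g0 i from Function.update_self _ _ _,
      Finset.sum_congr rfl (fun i hi =>
        (Function.update_of_ne (Finset.ne_of_mem_erase hi) _ _ : g i = g0 i))]
    exact CharTwo.add_self_eq_zero _
  · rcases eq_or_ne i x with rfl | hi
    · rw [hσx, hfx]; exact CharTwo.add_self_eq_zero _
    · show Function.update g0 x _ (σ i) + Function.update g0 x _ i = f i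
      rw [Function.update_of_ne (hσne i hi), Function.update_of_ne hi]
      show (if σ i < σ (σ i) then f (σ i) else 0) + (if i < σ i then f i else 0) = f i
      rw [hσσ, hfix]
      rcases lt_trichotomy i (σ i) with h | h | h
      · rw [if_neg h.not_gt, if_pos h, zero_add]
      · exact absurd h.symm (hσy i hi)
      · rw [if_pos h, if_neg h.not_gt, add_zero]

/-- The kernel of a transvection in characteristic two. -/
theorem sl2_fix {K : Type*} [Field K] [CharP K 2] (M : SL(2, K)) (h2 : M * M = 1) (h1 : M ≠ 1)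
    (f : Fin 2 → K) (hf : (M : Matrix (Fin 2) (Fin 2) K).mulVec f = f) :
    ∃ g, (M : Matrix (Fin 2) (Fin 2) K).mulVec g - g = f := by
  set a := M.1 0 0 with ha
  set b := M.1 0 1 with hb
  set c := M.1 1 0 with hc
  set d := M.1 1 1 with hd
  have hdet : a * d - b * c = 1 := by rw [ha, hb, hc, hd, ← Matrix.det_fin_two]; exact M.2
  have e00 : a * a + b * c = 1 := by
    have := congrArg (fun m : SL(2, K) => m.1 0 0) h2
    simpa [Matrix.mul_apply, Fin.sum_univ_two, ← ha, ← hb, ← hc] using this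
  have e01 : a * b + b * d = 0 := by
    have := congrArg (fun m : SL(2, K) => m.1 0 1) h2
    simpa [Matrix.mul_apply, Fin.sum_univ_two, ← ha, ← hb, ← hd] using this
  have e10 : c * a + d * c = 0 := by
    have := congrArg (fun m : SL(2, K) => m.1 1 0) h2
    simpa [Matrix.mul_apply, Fin.sum_univ_two, ← ha, ← hc, ← hd] using this
  have f0 : a * f 0 + b * f 1 = f 0 := by
    simpa [Matrix.mulVec, dotProduct, Fin.sum_univ_two, ← ha, ← hb] using congrFun hf 0
  have f1 : c * f 0 + d * f 1 = f 1 := by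
    simpa [Matrix.mulVec, dotProduct, Fin.sum_univ_two, ← hc, ← hd] using congrFun hf 1
  have two : (2 : K) = 0 := CharTwo.two_eq_zero
  have had : a = d := by
    have h : a * (a - d) + 2 * (b * c) = 0 := by linear_combination e00 - hdet
    rw [two, zero_mul, add_zero] at h
    rcases mul_eq_zero.1 h with h | h
    · have hbc : b * c = 1 := by rw [h, zero_mul, zero_add] at e00; exact e00
      have hb0 : b ≠ 0 := fun e => by rw [e, zero_mul] at hbc; exact zero_ne_one hbc
      rw [h, zero_mul, zero_add] at e01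
      rw [h, (mul_eq_zero.1 e01).resolve_left hb0]
    · exact sub_eq_zero.1 h
  by_cases hb0 : b = 0
  · have ha1 : a = 1 := by
      rw [hb0, zero_mul, add_zero] at e00
      rcases mul_self_eq_one_iff.1 e00 with h | h
      · exact h
      · rw [h, CharTwo.neg_eq]
    have hc0 : c ≠ 0 := fun e => h1 (Matrix.SpecialLinearGroup.ext _ _ fun i j => by
      fin_cases i <;> fin_cases j <;> simp [← ha, ← hb, ← hc, ← hd, hb0, e, ha1, ← had])
    have hf0 : f 0 = 0 := by
      have : c * f 0 = 0 := by rw [← had, ha1] at f1; linear_combination f1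
      exact (mul_eq_zero.1 this).resolve_left hc0
    refine ⟨![f 1 / c, 0], funext fun i => ?_⟩
    fin_cases i
    · simp [Matrix.mulVec, dotProduct, Fin.sum_univ_two, ← ha, ← hb, hb0, ha1, hf0]
    · simp [Matrix.mulVec, dotProduct, Fin.sum_univ_two, ← hc, ← hd]
      field_simp
  · refine ⟨![0, f 0 / b], funext fun i => ?_⟩
    fin_cases i
    · simp [Matrix.mulVec, dotProduct, Fin.sum_univ_two, ← ha, ← hb]
      field_simp
    · simp [Matrix.mulVec, dotProduct, Fin.sum_univ_two, ← hc, ← hd, ← had]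
      field_simp
      linear_combination (-1 : K) * f0 + (a - 1) * f 0 * two

variable [Finite H] [Finite V] [FaithfulSMul H V] {p : ℕ} [Fact p.Prime]

/-- In odd characteristic a component has an element inverting its module. -/
theorem IsMod.exists_neg (hp2 : p ≠ 2) {E : Subgroup H} (hE : IsMod V p E) :
    ∃ z ∈ E, ∀ v : V, z • v + v ∈ fx E := by
  obtain ⟨n, hn, ⟨K, i1, i2, hK, ρ, ψ, hs, hk, heq⟩ | ⟨hp, -⟩⟩ := hE
  · let Z : SL(2, K) := ⟨-1, by simp [Matrix.det_neg]⟩
    refine ⟨(ρ.symm Z : H), (ρ.symm Z).2, fun v => (hk _).1 ?_⟩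
    rw [map_add, heq, MulEquiv.apply_symm_apply]
    show (-1 : Matrix (Fin 2) (Fin 2) K).mulVec (ψ v) + ψ v = 0
    rw [Matrix.neg_mulVec, Matrix.one_mulVec, neg_add_cancel]
  · exact absurd hp hp2

/-- Fixed points of a central involution of a Sylow subgroup of a component are commutators. -/
theorem IsMod.ker_dm (hp2 : p = 2) {E : Subgroup H} (hE : IsMod V p E) {S : Subgroup H}
    (hSE : S ≤ E) (hS : IsPGroup p S) (hSi : ¬ p ∣ (S.subgroupOf E).index) {a : H} (ha : a ∈ E)
    (ha2 : a * a = 1) (ha1 : a ≠ 1) (hac : ∀ s ∈ S, s * a = a * s) {v : V}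
    (hv : dm a v ∈ fx E) : ∃ u : V, v - dm a u ∈ fx E := by
  subst hp2
  have hva : ∀ {W : Type} [AddCommGroup W] (ψ : V →+ W), (∀ v, ψ v = 0 ↔ v ∈ fx E) → ψ (a • v) = ψ v :=
    fun ψ hk => sub_eq_zero.1 (by rw [← map_sub]; exact (hk _).2 hv)
  obtain ⟨n, hn, ⟨K, i1, i2, hK, ρ, ψ, hs, hk, heq⟩ | ⟨-, ρ, ψ, hev, hs, hk, heq⟩⟩ := hE
  · haveI : CharP K 2 := charP_of_card_eq_prime_pow hK
    obtain ⟨g, hg⟩ := sl2_fix (ρ ⟨a, ha⟩)
      (by rw [← map_mul, show (⟨a, ha⟩ : ↥E) * ⟨a, ha⟩ = 1 from Subtype.ext ha2, map_one])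
      (fun e => ha1 (congrArg Subtype.val (ρ.injective (e.trans ρ.map_one.symm))))
      (ψ v) (by rw [← heq]; exact hva ψ hk)
    obtain ⟨u, rfl⟩ := hs g
    refine ⟨u, (hk _).1 ?_⟩
    rw [map_sub, dm_apply, map_sub, show a • u = ((⟨a, ha⟩ : ↥E) : H) • u from rfl, heq, hg, sub_self]
  · have hSP : IsPGroup 2 (S.subgroupOf E) := hS.comap_of_injective E.subtype E.subtype_injective
    let P' : Sylow 2 ↥E := hSP.toSylow hSi
    let R : Sylow 2 (Equiv.Perm (Fin (2 ^ n + 1))) := Sylow.mapSurjective (f := ρ.toMonoidHom) ρ.surjective P'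
    have hσ2 : ρ ⟨a, ha⟩ * ρ ⟨a, ha⟩ = 1 := by
      rw [← map_mul, show (⟨a, ha⟩ : ↥E) * ⟨a, ha⟩ = 1 from Subtype.ext ha2, map_one]
    have hσi : (ρ ⟨a, ha⟩)⁻¹ = ρ ⟨a, ha⟩ := inv_eq_of_mul_eq_one_right hσ2
    have hcen : ∀ s ∈ (R : Subgroup _), s * ρ ⟨a, ha⟩ = ρ ⟨a, ha⟩ * s := by
      intro s hs'
      obtain ⟨e, he, rfl⟩ := hs'
      show ρ e * ρ ⟨a, ha⟩ = ρ ⟨a, ha⟩ * ρ e
      rw [← map_mul, ← map_mul]
      exact congrArg ρ (Subtype.ext (hac (e : H) he))
    have hfix : ∀ i, ψ v (ρ ⟨a, ha⟩ i) = ψ v i := by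
      intro i
      have := congrFun (hva ψ hk) i
      rwa [show a • v = ((⟨a, ha⟩ : ↥E) : H) • v from rfl, heq, hσi] at this
    obtain ⟨g, hg0, hg⟩ := perm_fix hn R hσ2
      (fun e => ha1 (congrArg Subtype.val (ρ.injective (e.trans ρ.map_one.symm)))) hcen (hev v) hfix
    obtain ⟨u, rfl⟩ := hs g hg0
    refine ⟨u, (hk _).1 (funext fun i => ?_)⟩
    rw [map_sub, dm_apply, map_sub, Pi.sub_apply, Pi.sub_apply,
      show a • u = ((⟨a, ha⟩ : ↥E) : H) • u from rfl, heq, hσi, ← hg i, CharTwo.sub_eq_add (ψ u _) (ψ u i), sub_self]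
    rfl

/-- A Sylow subgroup meets a normal subgroup of a normal subgroup in a Sylow subgroup. -/
theorem not_dvd_index_inf (T : Sylow p H) {N M : Subgroup H} [N.Normal] (hMN : M ≤ N)
    (hM : N ≤ normalizer (M : Set H)) : ¬ p ∣ (((T : Subgroup H) ⊓ M).subgroupOf M).index := by
  obtain ⟨R, hR⟩ := Cfsg.Agent.SylowNumber.exists_sylow_inf T N
  haveI : (M.subgroupOf N).Normal := (normal_subgroupOf_iff_le_normalizer hMN).2 hM
  obtain ⟨R', hR'⟩ := Cfsg.Agent.SylowNumber.exists_sylow_inf R (M.subgroupOf N)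
  have h5 : ¬ p ∣ ((R : Subgroup ↥N) ⊓ M.subgroupOf N).relIndex (M.subgroupOf N) := by
    have h := R'.not_dvd_index
    rw [hR'] at h
    exact h
  have e : (R : Subgroup ↥N) ⊓ M.subgroupOf N = ((T : Subgroup H) ⊓ M).subgroupOf N := by
    ext x
    rw [hR]
    simp only [mem_inf, mem_subgroupOf]
    exact ⟨fun h => ⟨h.1.1, h.2⟩, fun h => ⟨⟨h.1, x.2⟩, h.2⟩⟩
  rw [e, relIndex_subgroupOf hMN] at h5
  exact h5

namespace SysData

variable {T : Subgroup H} {r : ℕ} {E : Fin r → Subgroup H} (hE : SysData V p T E)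

include hE

/-- Elements given in each component come from one element of the product. -/
theorem glue (e : Fin r → H) (he : ∀ i, e i ∈ E i) :
    ∃ x ∈ ⨆ i, E i, ∀ i, ∀ v : V, x • v - e i • v ∈ fx (E i) := by
  classical
  have hglue : ∀ s : Finset (Fin r),
      ∃ x ∈ ⨆ i ∈ s, E i, ∀ i ∈ s, ∀ v : V, x • v - e i • v ∈ fx (E i) := by
    intro s
    induction s using Finset.induction_on with
    | empty => exact ⟨1, one_mem _, fun i hi => absurd hi (Finset.notMem_empty i)⟩
    | @insert k s hk ih =>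
      obtain ⟨x, hx, hxt⟩ := ih
      obtain ⟨-, hc2⟩ := hE.sup_others hk
      have hsplit : (⨆ i ∈ insert k s, E i) = E k ⊔ ⨆ i ∈ s, E i := Finset.iSup_insert k s E
      refine ⟨e k * x, hsplit ▸ mul_mem_sup (he k) hx, fun i hi v => ?_⟩
      rcases Finset.mem_insert.1 hi with rfl | hi'
      · have h3 : e i • dm x v ∈ fx (V := V) (E i) :=
          smul_mem_fx_norm (le_normalizer (he i)) (cm_le_iff.1 hc2 x hx v)
        rw [dm_apply, smul_sub, ← mul_smul] at h3
        exact h3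
      · have hne : k ≠ i := fun e' => hk (e' ▸ hi')
        have h3 : dm (e k) (x • v) ∈ fx (V := V) (E i) := hE.cross k i hne (dm_mem_cm (he k) _)
        rw [dm_apply, ← mul_smul] at h3
        have := AddSubgroup.add_mem _ h3 (hxt i hi' v)
        rwa [sub_add_sub_cancel] at this
  obtain ⟨x, hx, hxt⟩ := hglue Finset.univ
  exact ⟨x, by simpa using hx, fun i => hxt i (Finset.mem_univ i)⟩

/-- Every element of the product has a part in each component. -/
theorem proj {a : H} (ha : a ∈ ⨆ i, E i) (i : Fin r) :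
    ∃ e ∈ E i, ∀ v : V, a • v - e • v ∈ fx (E i) := by
  have hN := hE.le_normalizer_sup i
  let P0 : Subgroup H :=
    { carrier := {g | g ∈ normalizer (E i : Set H) ∧ ∃ e ∈ E i, ∀ v : V, g • v - e • v ∈ fx (E i)}
      one_mem' := ⟨one_mem _, 1, one_mem _, fun v => by rw [sub_self]; exact zero_mem _⟩
      mul_mem' := fun {a b} ha hb => by
        obtain ⟨e, he, h1⟩ := ha.2
        obtain ⟨f, hf, h2⟩ := hb.2
        refine ⟨mul_mem ha.1 hb.1, e * f, mul_mem he hf, fun v => ?_⟩
        have h3 := AddSubgroup.add_mem _ (smul_mem_fx_norm ha.1 (h2 v)) (h1 (f • v))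
        rwa [smul_sub, sub_add_sub_cancel, ← mul_smul, ← mul_smul] at h3
      inv_mem' := fun {a} ha => by
        obtain ⟨e, he, h1⟩ := ha.2
        refine ⟨inv_mem ha.1, e⁻¹, inv_mem he, fun v => ?_⟩
        have h3 := smul_mem_fx_norm (inv_mem ha.1) (h1 (e⁻¹ • v))
        rw [smul_sub, inv_smul_smul, smul_inv_smul] at h3
        have := AddSubgroup.neg_mem _ h3
        rwa [neg_sub] at this }
  refine ((iSup_le fun j g hg => ?_ : (⨆ j, E j) ≤ P0) ha).2
  refine ⟨hN (mem_iSup_of_mem j hg), ?_⟩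
  rcases eq_or_ne j i with rfl | hne
  · exact ⟨g, hg, fun v => by rw [sub_self]; exact zero_mem _⟩
  · exact ⟨1, one_mem _, fun v => by rw [one_smul]; exact hE.cross j i hne (dm_mem_cm hg v)⟩

/-- The sections are independent. -/
theorem exists_joint (f : Fin r → V) : ∃ u : V, ∀ i, u - f i ∈ fx (E i) := by
  classical
  have hsp : ∀ i, ∃ u ∈ cm (V := V) (E i), f i - u ∈ fx (E i) := fun i => by
    obtain ⟨a, ha, b, hb, e⟩ :=
      AddSubgroup.mem_sup.1 ((hE.mod i).span.ge (AddSubgroup.mem_top (f i)))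
    exact ⟨b, hb, by rw [← e, add_sub_cancel_right]; exact ha⟩
  choose u hu hu' using hsp
  refine ⟨∑ i, u i, fun i => ?_⟩
  rw [← Finset.sum_erase_add _ _ (Finset.mem_univ i), add_sub_assoc]
  refine AddSubgroup.add_mem _ (AddSubgroup.sum_mem _ fun j hj => ?_) ?_
  · exact hE.cross j i (Finset.ne_of_mem_erase hj) (hu j)
  · rw [← neg_sub]; exact AddSubgroup.neg_mem _ (hu' i)

end SysData

/-- An element of the product inverting the module, in odd characteristic. -/
theorem SysData.exists_inverting {T : Subgroup H} {r : ℕ} {E : Fin r → Subgroup H}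
    (hE : SysData V p T E) (hz : (fx (⨆ i, E i) : AddSubgroup V) = ⊥) (hp2 : p ≠ 2) :
    ∃ z ∈ ⨆ i, E i, (∀ v : V, z • v = -v) ∧ ∀ g : H, g * z = z * g := by
  choose e he hneg using fun i => (hE.mod i).exists_neg hp2
  obtain ⟨z, hzE, hzv⟩ := hE.glue e he
  have hz' : ∀ v : V, z • v = -v := fun v => by
    rw [eq_neg_iff_add_eq_zero]
    refine (AddSubgroup.mem_bot.1 (hz.le ?_))
    rw [mem_fx_iff_le_stabV]
    refine iSup_le fun i => mem_fx_iff_le_stabV.1 ?_
    have := AddSubgroup.add_mem _ (hzv i v) (hneg i v)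
    rwa [← add_assoc, sub_add_cancel] at this
  exact ⟨z, hzE, hz', fun g => eq_of_smul_eq_smul fun v : V => by
    rw [mul_smul, mul_smul, hz', hz', smul_neg]⟩

/-- An involution of the product, central in a Sylow subgroup, whose fixed points are commutators. -/
theorem SysData.exists_exact_involution {T : Sylow p H} {r : ℕ} {E : Fin r → Subgroup H}
    (hE : SysData V p (T : Subgroup H) E) (hOp : Cfsg.pCore p H = ⊥)
    (hz : (fx (⨆ i, E i) : AddSubgroup V) = ⊥) (hne : (T : Subgroup H) ⊓ (⨆ i, E i) ≠ ⊥)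
    (hp2 : p = 2) :
    ∃ a ∈ ⨆ i, E i, a ≠ 1 ∧ a * a = 1 ∧ (∀ t ∈ (T : Subgroup H), t * a = a * t) ∧
      ∀ v : V, a • v = v → ∃ u : V, v = dm a u := by
  classical
  haveI := hE.normal
  set S := ((T : Subgroup H) ⊓ ⨆ i, E i).subgroupOf (T : Subgroup H) with hS
  haveI : S.Normal := by
    rw [hS, inf_subgroupOf_left]
    infer_instance
  have hSne : S ≠ ⊥ := by
    rw [hS, Ne, subgroupOf_eq_bot, disjoint_iff, inf_eq_left.2 inf_le_left]
    exact hne
  have hne' := Fusion.pGroup_inf_center_ne_bot T.isPGroup' S hSne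
  obtain ⟨k, hk⟩ := (T.isPGroup'.to_subgroup (S ⊓ Subgroup.center _)).exists_card_eq
  have hk0 : k ≠ 0 := by
    rintro rfl
    exact hne' (Subgroup.eq_bot_of_card_eq _ hk)
  obtain ⟨d, hd⟩ := exists_prime_orderOf_dvd_card' p (G := (S ⊓ Subgroup.center _ : Subgroup _))
    (hk ▸ dvd_pow_self p hk0)
  set a : H := ((d : ↥(T : Subgroup H)) : H) with ha
  have ha1 : orderOf a = 2 := by rw [ha, Subgroup.orderOf_coe, Subgroup.orderOf_coe, hd, hp2]
  have haE : a ∈ ⨆ i, E i := (d.2.1 : a ∈ (T : Subgroup H) ⊓ _).2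
  have haT : ∀ t ∈ (T : Subgroup H), t * a = a * t := fun t ht =>
    congrArg Subtype.val (Subgroup.mem_center_iff.1 d.2.2 ⟨t, ht⟩)
  have hane : a ≠ 1 := fun e => by simp [e] at ha1
  have ha2 : a * a = 1 := by rw [← sq, ← ha1, pow_orderOf_eq_one]
  refine ⟨a, haE, hane, ha2, haT, fun v hv => ?_⟩
  choose e he hev using fun i => hE.proj haE i
  have hnt : ∀ i, ¬ ∀ v : V, dm a v ∈ fx (E i) := by
    intro i hi
    refine hane (hE.eq_one_of_trivial Finset.univ a (by simpa using haE) fun j _ w => ?_)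
    obtain ⟨t, ht, et⟩ := hE.trans i j
    rw [← et, fx_cj, show a = t * a * t⁻¹ by rw [haT t ht, mul_inv_cancel_right], dm_conj]
    exact smul_mem_sm (hi _)
  have hsol : ∀ i, ∃ u : V, v - dm (e i) u ∈ fx (E i) := by
    intro i
    have h1 : e i * e i = 1 := by
      refine (hE.mod i).eq_one (mul_mem (he i) (he i)) fun w => ?_
      have h3 := AddSubgroup.add_mem _
        (smul_mem_fx_norm (le_normalizer (he i)) (hev i w)) (hev i (a • w))
      rw [← mul_smul a a, ha2, one_smul, smul_sub, ← mul_smul (e i) (e i)] at h3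
      have h4 := AddSubgroup.neg_mem _ h3
      rw [dm_apply]
      convert h4 using 1
      abel
    have hne1 : e i ≠ 1 := fun e' => hnt i fun w => by
      have := hev i w
      rwa [e', one_smul] at this
    have hidx : ¬ p ∣ (((T : Subgroup H) ⊓ E i).subgroupOf (E i)).index :=
      not_dvd_index_inf T (le_iSup E i) (hE.le_normalizer_sup i)
    refine (hE.mod i).ker_dm hp2 inf_le_right (T.isPGroup'.to_le inf_le_left) hidx (he i) h1 hne1
      (fun s hs => ?_) ?_
    · refine inv_mul_eq_one.1 ((hE.mod i).eq_one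
        (mul_mem (inv_mem (mul_mem (he i) hs.2)) (mul_mem hs.2 (he i))) fun w => ?_) |>.symm
      have h3 := smul_mem_fx_norm (le_normalizer hs.2) (hev i w)
      rw [smul_sub, ← mul_smul, ← mul_smul, haT s hs.1] at h3
      have h4 := AddSubgroup.sub_mem _ h3 (hev i (s • w))
      rw [← mul_smul, ← mul_smul] at h4
      have h5 := smul_mem_fx_norm (inv_mem (le_normalizer (mul_mem (he i) hs.2))) h4
      rw [dm_apply]
      convert AddSubgroup.neg_mem _ h5 using 1
      simp only [smul_sub, ← mul_smul, mul_assoc, inv_mul_cancel, one_smul]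
      abel
    · have := AddSubgroup.neg_mem _ (hev i v)
      rwa [hv, neg_sub] at this
  choose u hu using hsol
  obtain ⟨w, hw⟩ := hE.exists_joint u
  refine ⟨w, sub_eq_zero.1 (AddSubgroup.mem_bot.1 (hz.le ?_))⟩
  rw [mem_fx_iff_le_stabV]
  refine iSup_le fun i => mem_fx_iff_le_stabV.1 ?_
  have h1 := smul_mem_fx_norm (le_normalizer (he i)) (hw i)
  have h2 := AddSubgroup.sub_mem _ (AddSubgroup.sub_mem _ (hu i) (hev i w))
    (AddSubgroup.sub_mem _ h1 (hw i))
  convert h2 using 1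
  rw [dm_apply, dm_apply, smul_sub]
  abel

/-- A nontrivial invariant subgroup contains a nonzero fixed point. -/
theorem exists_fixed {T : Subgroup H} (hT : IsPGroup p T) (hp : ∀ v : V, p • v = 0)
    {I : AddSubgroup V} (hI : ∀ t ∈ T, ∀ v ∈ I, t • v ∈ I) (hne : I ≠ ⊥) :
    ∃ v ∈ I, v ≠ 0 ∧ v ∈ fx T := by
  obtain ⟨v0, hv0, hv0ne⟩ := (AddSubgroup.ne_bot_iff_exists_ne_zero.1 hne).elim
    fun w hw => (⟨w.1, w.2, fun e => hw (Subtype.ext e)⟩ : ∃ v, v ∈ I ∧ v ≠ 0)
  letI : MulAction ↥T ↥I :=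
    { smul := fun t v => ⟨(t : H) • (v : V), hI t t.2 v v.2⟩
      one_smul := fun v => Subtype.ext (one_smul H (v : V))
      mul_smul := fun s t v => Subtype.ext (mul_smul (s : H) t (v : V)) }
  have hpdvd : p ∣ Nat.card ↥I := by
    have h2 : addOrderOf (⟨v0, hv0⟩ : ↥I) = p :=
      addOrderOf_eq_prime (Subtype.ext (by simpa using hp v0)) fun e => hv0ne (congrArg Subtype.val e)
    exact h2 ▸ addOrderOf_dvd_natCard _
  obtain ⟨b, hb, hbne⟩ := hT.exists_fixed_point_of_prime_dvd_card_of_fixed_point ↥I hpdvd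
    (a := (0 : ↥I)) fun t => Subtype.ext (smul_zero (t : H))
  exact ⟨b, b.2, fun e => hbne (Subtype.ext e.symm),
    fun t ht => congrArg Subtype.val (hb ⟨t, ht⟩)⟩

/-- A `p`-minimal group with an offender moves some fixed point of its Sylow subgroup. -/
theorem exists_moved_fixed (hp : ∀ v : V, p • v = 0) (hmin : Cfsg.IsPMinimal p H)
    (hOp : Cfsg.pCore p H = ⊥) (T : Sylow p H) {B : Subgroup H}
    (hB : Cfsg.IsElementaryAbelian p B) (hne : B ≠ ⊥)
    (hb : Nat.card V ≤ Nat.card B * Nat.card (fx (V := V) B)) :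
    ∃ v ∈ fx (V := V) (T : Subgroup H), ∃ g : H, g • v ≠ v := by
  classical
  by_contra hcon
  push Not at hcon
  set X := {x : H | (orderOf x).Coprime p} with hX
  set K := closure X with hK
  haveI hKn : K.Normal := ⟨fun k hk g => by
    have h1 : (K.map (MulAut.conj g).toMonoidHom) ≤ K := by
      rw [hK, MonoidHom.map_closure]
      refine closure_mono ?_
      rintro _ ⟨x, hx, rfl⟩
      show (orderOf _).Coprime p
      rwa [orderOf_injective _ (MulAut.conj g).injective x]
    exact h1 ⟨k, hk, rfl⟩⟩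
  set W : AddSubgroup V := fx K with hW
  have hWinv : ∀ g : H, ∀ w ∈ W, g • w ∈ W := fun g w hw =>
    smul_mem_fx_norm (by rw [normalizer_eq_top_iff.2 hKn]; exact mem_top g) hw
  letI := quotMod W hWinv
  let mk := QuotientAddGroup.mk' W
  have hmk : ∀ (g : H) (v : V), g • mk v = mk (g • v) := fun g v => rfl
  have hmks : Function.Surjective mk := QuotientAddGroup.mk'_surjective W
  have hmk0 : ∀ v : V, mk v = 0 ↔ v ∈ W := fun v => QuotientAddGroup.eq_zero_iff v
  have hfixW : ∀ {g : H} {v : V}, g • mk v = mk v ↔ dm g v ∈ W := by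
    intro g v
    rw [← hmk0, dm_apply, map_sub, sub_eq_zero]
    exact Iff.rfl
  have hfxK : (fx K : AddSubgroup (V ⧸ W)) = ⊥ := by
    refine (AddSubgroup.eq_bot_iff_forall _).2 fun q hq => ?_
    obtain ⟨v, rfl⟩ := hmks q
    refine (hmk0 v).2 (mem_fx_iff_le_stabV.2 ?_)
    rw [hK, closure_le]
    intro x hx
    have h1 : dm x v ∈ W := hfixW.1 (hq x (subset_closure hx))
    exact smul_eq_of_dm_fixed hp hx (h1 x (subset_closure hx))
  have hKne : K ≠ ⊥ := by
    intro e
    apply (hmin T).1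
    have hTtop : (T : Subgroup H) = ⊤ := by
      refine (T.is_maximal' ?_ le_top).symm
      intro g
      obtain ⟨k, m, hm, hkm⟩ := Nat.exists_eq_pow_mul_and_not_dvd (orderOf_pos (g : H)).ne' p
        (Fact.out : p.Prime).ne_one
      refine ⟨k, Subtype.ext ?_⟩
      have hx : (g : H) ^ p ^ k ∈ K := subset_closure (by
        show (orderOf _).Coprime p
        rw [orderOf_pow_of_dvd (pow_ne_zero _ (Fact.out : p.Prime).ne_zero) (hkm ▸ dvd_mul_right _ _),
          hkm, Nat.mul_div_cancel_left _ (pow_pos (Fact.out : p.Prime).pos _)]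
        exact ((Fact.out : p.Prime).coprime_iff_not_dvd.2 hm).symm)
      rw [e, mem_bot] at hx
      exact hx
    rw [hTtop]; infer_instance
  haveI hfaith : FaithfulSMul H (V ⧸ W) := by
    refine ⟨fun {g h} hgh => ?_⟩
    let N : Subgroup H :=
      { carrier := {g | ∀ q : V ⧸ W, g • q = q}
        one_mem' := fun q => one_smul H q
        mul_mem' := fun {a b} ha hb q => by rw [mul_smul, hb, ha]
        inv_mem' := fun {a} ha q => by rw [inv_smul_eq_iff, ha] }
    haveI : N.Normal := ⟨fun n hn g q => by rw [mul_smul, mul_smul, hn, smul_inv_smul]⟩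
    have hNp : IsPGroup p N := by
      intro n
      obtain ⟨k, m, hm, hkm⟩ := Nat.exists_eq_pow_mul_and_not_dvd (orderOf_pos (n : H)).ne' p
        (Fact.out : p.Prime).ne_one
      refine ⟨k, Subtype.ext (eq_one_of_dm (V := V) fun v => ?_)⟩
      have hcop : (orderOf ((n : H) ^ p ^ k)).Coprime p := by
        rw [orderOf_pow_of_dvd (pow_ne_zero _ (Fact.out : p.Prime).ne_zero) (hkm ▸ dvd_mul_right _ _),
          hkm, Nat.mul_div_cancel_left _ (pow_pos (Fact.out : p.Prime).pos _)]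
        exact ((Fact.out : p.Prime).coprime_iff_not_dvd.2 hm).symm
      have h1 : dm ((n : H) ^ p ^ k) v ∈ W := hfixW.1 ((pow_mem n.2 (p ^ k) : _ ∈ N) (mk v))
      rw [SubgroupClass.coe_pow]
      exact dm_eq_zero.2 (smul_eq_of_dm_fixed hp hcop (h1 _ (subset_closure hcop)))
    have : h⁻¹ * g ∈ N := fun q => by rw [mul_smul, hgh, inv_smul_smul]
    exact (inv_mul_eq_one.1 (mem_bot.1 (hOp.le (Core.le_pCore hNp this)))).symm
  haveI : Nontrivial (V ⧸ W) := by
    by_contra hnt
    rw [not_nontrivial_iff_subsingleton] at hnt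
    exact hKne ((Subgroup.eq_bot_iff_forall _).2 fun g _ => eq_one_of_dm (V := V ⧸ W) fun q => Subsingleton.elim _ _)
  have hp' : ∀ q : V ⧸ W, p • q = 0 := fun q => by
    obtain ⟨v, rfl⟩ := hmks q
    rw [← map_nsmul, hp, map_zero]
  have hA : Amb H (V ⧸ W) p := by
    obtain ⟨M, ⟨hM, hTM⟩, huniq⟩ := (hmin T).2
    refine Amb.of_one hp' hmin hOp T M hM hTM fun g hg => ?_
    let C : Subgroup H :=
      { carrier := {g | ∀ z ∈ fx (V := V ⧸ W) (T : Subgroup H), g • z = z}
        one_mem' := fun z _ => one_smul H z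
        mul_mem' := fun {a b} ha hb z hz => by rw [mul_smul, hb z hz, ha z hz]
        inv_mem' := fun {a} ha z hz => by rw [inv_smul_eq_iff, ha z hz] }
    have hTC : (T : Subgroup H) ≤ C := fun t ht z hz => hz t ht
    have hCne : C ≠ ⊤ := by
      intro e
      obtain ⟨z, -, hz0, hzT⟩ := exists_fixed (V := V ⧸ W) T.isPGroup' hp' (I := ⊤)
        (fun _ _ _ _ => trivial) (by
          intro e'
          obtain ⟨a, ha⟩ := exists_ne (0 : V ⧸ W)
          exact ha (AddSubgroup.mem_bot.1 (e'.le (AddSubgroup.mem_top a))))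
      exact hz0 (AddSubgroup.mem_bot.1 (hfxK.le fun k _ => (e.ge (mem_top k) : k ∈ C) z hzT))
    obtain ⟨C', hC', hle⟩ := (eq_top_or_exists_le_coatom C).resolve_left hCne
    rw [← huniq C' ⟨hC', hTC.trans hle⟩]
    exact hle hg
  -- the offender on the quotient
  let I0 := (fx (V := V ⧸ W) B).comap mk
  have hsub : fx (V := V) B ⊔ W ≤ I0 := by
    refine sup_le (fun v hv b hb' => ?_) fun w hw => ?_
    · rw [hmk, hv b hb']
    · refine AddSubgroup.mem_comap.2 ?_
      rw [(hmk0 w).2 hw]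
      exact zero_mem _
  have hI0 : Nat.card I0 = Nat.card (fx (V := V ⧸ W) B) * Nat.card W := by
    rw [card_comap_eq mk I0 (fun v hv => by
      refine AddSubgroup.mem_comap.2 ?_; rw [AddMonoidHom.mem_ker.1 hv]; exact zero_mem _),
      AddSubgroup.map_comap_eq_self_of_surjective hmks, QuotientAddGroup.ker_mk']
  have hkey : Nat.card (fx (V := V) B) ≤
      Nat.card (fx (V := V) B ⊓ W : AddSubgroup V) * Nat.card (fx (V := V ⧸ W) B) := by
    refine Nat.le_of_mul_le_mul_right (c := Nat.card W) ?_ Nat.card_pos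
    rw [← card_sup_inf, mul_assoc, ← hI0, mul_comm]
    exact Nat.mul_le_mul_left _ (card_le_of_le_add hsub)
  have hVW : Nat.card V = Nat.card (V ⧸ W) * Nat.card W := W.card_eq_card_quotient_mul_card_addSubgroup
  have hbW : Nat.card (V ⧸ W) ≤ Nat.card B * Nat.card (fx (V := V ⧸ W) B) := by
    refine Nat.le_of_mul_le_mul_right (c := Nat.card W) ?_ Nat.card_pos
    calc Nat.card (V ⧸ W) * Nat.card W = Nat.card V := hVW.symm
      _ ≤ _ := hb
      _ ≤ Nat.card B * (Nat.card (fx (V := V) B ⊓ W : AddSubgroup V) * Nat.card (fx (V := V ⧸ W) B)) :=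
        Nat.mul_le_mul_left _ hkey
      _ ≤ Nat.card B * (Nat.card W * Nat.card (fx (V := V ⧸ W) B)) :=
        Nat.mul_le_mul_left _ (Nat.mul_le_mul_right _ (card_le_of_le_add inf_le_right))
      _ = _ := by ring
  have hWB : W ≤ fx B := by
    refine (eq_of_le_of_card_ge_add (inf_le_right (a := fx (V := V) B)) ?_).ge.trans inf_le_left
    refine Nat.le_of_mul_le_mul_left (?_ : Nat.card (V ⧸ W) * _ ≤ Nat.card (V ⧸ W) * _) Nat.card_pos
    rw [← hVW]
    calc Nat.card V ≤ _ := hb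
      _ ≤ Nat.card B * (Nat.card (fx (V := V) B ⊓ W : AddSubgroup V) * Nat.card (fx (V := V ⧸ W) B)) :=
        Nat.mul_le_mul_left _ hkey
      _ = Nat.card B * Nat.card (fx (V := V ⧸ W) B) * Nat.card (fx (V := V) B ⊓ W : AddSubgroup V) := by ring
      _ ≤ _ := Nat.mul_le_mul_right _ (hA.card_mul_fx_le hB)
  obtain ⟨A, hAB, hAm⟩ := exists_moff hB hne hbW
  obtain ⟨L, hL, hLA⟩ := hA.exists_seed T hAm
  obtain ⟨r, E, hE, hEL⟩ := hA.exists_sys T hL
  -- the components fix `W`
  let F : Subgroup H :=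
    { carrier := {g | ∀ w ∈ W, g • w = w}
      one_mem' := fun w _ => one_smul H w
      mul_mem' := fun {a b} ha hb' w hw => by rw [mul_smul, hb' w hw, ha w hw]
      inv_mem' := fun {a} ha w hw => by rw [inv_smul_eq_iff, ha w hw] }
  haveI : F.Normal := ⟨fun f hf g w hw => by
    rw [mul_smul, mul_smul, hf _ (hWinv _ _ hw), smul_inv_smul]⟩
  have hEF : (⨆ i, E i) ≤ F := iSup_le fun i => by
    obtain ⟨t, et⟩ := hEL i
    have hLF : L ≤ F := hLA.trans (normalClosure_le_normal fun b hb' w hw => hWB hw b (hAB hb'))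
    rw [← et]
    rintro _ ⟨l, hl, rfl⟩
    exact (‹F.Normal›).conj_mem l (hLF hl) t
  -- the components contain `K`
  haveI := hE.normal
  have hKE : K ≤ ⨆ i, E i := by
    rw [hK, closure_le]
    intro x hx
    obtain ⟨k, hk⟩ := T.isPGroup'.exists_card_eq
    have hidx : (⨆ i, E i).index ∣ p ^ k := by
      rw [← Subgroup.relIndex_top_right, ← hE.top, Subgroup.relIndex_sup_left, ← hk]
      exact Subgroup.relIndex_dvd_card _ _
    have h1 : orderOf (QuotientGroup.mk' (⨆ i, E i) x) ∣ Nat.gcd (orderOf x) (p ^ k) :=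
      Nat.dvd_gcd (orderOf_map_dvd _ _) ((_root_.orderOf_dvd_natCard _).trans hidx)
    rw [(Nat.Coprime.pow_right k hx).gcd_eq_one, Nat.dvd_one, orderOf_eq_one_iff] at h1
    exact (QuotientGroup.eq_one_iff x).1 h1
  have hz : (fx (⨆ i, E i) : AddSubgroup (V ⧸ W)) = ⊥ := le_bot_iff.1 ((fx_anti hKE).trans hfxK.le)
  -- an invariant subgroup meeting `W` trivially
  obtain ⟨I, hIinv, hIne, hIW⟩ : ∃ I : AddSubgroup V, (∀ t ∈ (T : Subgroup H), ∀ v ∈ I, t • v ∈ I) ∧
      I ≠ ⊥ ∧ ∀ v ∈ I, v ∈ W → v = 0 := by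
    by_cases hp2 : p = 2
    · have hBE : (T : Subgroup H) ⊓ (⨆ i, E i) ≠ ⊥ := by
        intro e
        obtain ⟨S, hS⟩ := (Thompson.ea_isPGroup (Thompson.ea_mono hB hAB)).exists_le_sylow
        have hBE' : A ≤ ⨆ i, E i := by
          obtain ⟨g, hg⟩ := MulAction.exists_smul_eq H S T
          have h1 : cj g A ≤ ⨆ i, E i := hE.offender_le T.isPGroup' hOp (ea_cj hAm.ea g)
            (by rw [← hg, Sylow.coe_subgroup_smul]; exact cj_mono g hS)
            (by rw [card_cj, fx_cj, card_sm]; exact hAm.bound)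
          intro x hx
          have := hE.normal.conj_mem _ (h1 (conj_mem_cj hx)) g⁻¹
          simpa [mul_assoc] using this
        refine hAm.ne ((Subgroup.eq_bot_iff_forall _).2 fun x hx => ?_)
        obtain ⟨g, hg⟩ := MulAction.exists_smul_eq H S T
        have h2 : g * x * g⁻¹ ∈ (T : Subgroup H) ⊓ ⨆ i, E i :=
          ⟨by rw [← hg, Sylow.coe_subgroup_smul]; exact cj_mono g hS (conj_mem_cj hx),
            hE.normal.conj_mem _ (hBE' hx) g⟩
        rw [e, mem_bot] at h2
        simpa using h2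
      obtain ⟨a, haE, hane, ha2, haT, hex⟩ := hE.exists_exact_involution hOp hz hBE hp2
      refine ⟨(dm (V := V) a).range, ?_, fun e => hane (eq_one_of_dm (V := V) fun v =>
        AddSubgroup.mem_bot.1 (e.le ⟨v, rfl⟩)), ?_⟩
      · rintro t ht _ ⟨u, rfl⟩
        refine ⟨t • u, ?_⟩
        rw [dm_apply, dm_apply, smul_sub, ← mul_smul, ← mul_smul, haT t ht]
      · rintro _ ⟨v, rfl⟩ hvW
        obtain ⟨q, hq⟩ := hex (mk v) (hfixW.2 hvW)
        obtain ⟨u, rfl⟩ := hmks q
        have hw : v - dm a u ∈ W := by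
          rw [← hmk0, dm_apply, map_sub, map_sub]
          rw [sub_eq_zero]
          exact hq
        have h1 : dm a (v - dm a u) = 0 := dm_eq_zero.2 (hEF haE _ hw)
        have h2 : dm a (dm a u) = 0 := by
          rw [dm_apply, dm_apply, smul_sub, ← mul_smul, ha2, one_smul]
          have : (2 : ℕ) • (u - a • u) = 0 := hp2 ▸ hp _
          rw [two_nsmul] at this
          rw [← this]; abel
        rw [map_sub, h2, sub_zero] at h1
        exact h1
    · obtain ⟨z, hzE, hzneg, hzc⟩ := hE.exists_inverting hz hp2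
      let I : AddSubgroup V := (dm (V := V) z + (2 : ℕ) • AddMonoidHom.id V).ker
      have hI : ∀ v, v ∈ I ↔ z • v + v = 0 := fun v => by
        rw [AddMonoidHom.mem_ker, AddMonoidHom.add_apply, AddMonoidHom.nsmul_apply, AddMonoidHom.id_apply,
          dm_apply, two_nsmul, ← add_assoc, sub_add_cancel]
      have h2inj : ∀ v : V, (2 : ℕ) • v = 0 → v = 0 := fun v hv => by
        have h2 : addOrderOf v ∣ Nat.gcd 2 p :=
          Nat.dvd_gcd (addOrderOf_dvd_of_nsmul_eq_zero hv) (addOrderOf_dvd_of_nsmul_eq_zero (hp _))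
        rwa [((Nat.coprime_primes Nat.prime_two Fact.out).2 (Ne.symm hp2)).gcd_eq_one, Nat.dvd_one,
          AddMonoid.addOrderOf_eq_one_iff] at h2
      refine ⟨I, fun t _ v hv => (hI _).2 ?_, fun e => ?_, fun v hv hvW => h2inj v ?_⟩
      · rw [← mul_smul, ← hzc t, mul_smul, ← smul_add, (hI v).1 hv, smul_zero]
      · obtain ⟨q, hq⟩ := exists_ne (0 : V ⧸ W)
        obtain ⟨v, rfl⟩ := hmks q
        have hzz : z * z = 1 := eq_of_smul_eq_smul fun q : V ⧸ W => by
          rw [mul_smul, one_smul, hzneg, hzneg, neg_neg]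
        have h1 : v - z • v ∈ I := (hI _).2 (by rw [smul_sub, ← mul_smul, hzz, one_smul]; abel)
        rw [e, AddSubgroup.mem_bot] at h1
        refine hq ?_
        have h3 : z • mk v = mk v := congrArg mk (sub_eq_zero.1 h1).symm
        rw [hzneg] at h3
        have h4 : mk ((2 : ℕ) • v) = 0 := by
          rw [two_nsmul, map_add]
          conv_lhs => arg 1; rw [← h3]
          exact neg_add_cancel _
        obtain ⟨w, hw⟩ : ∃ w : ℕ, p = 2 * w + 1 := (Fact.out : p.Prime).odd_of_ne_two hp2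
        have h5 : p • mk v = mk v := by
          rw [hw, succ_nsmul, mul_nsmul, ← map_nsmul, h4, smul_zero, zero_add]
        rw [hp'] at h5
        exact h5.symm
      · have := (hI v).1 hv
        rwa [hEF hzE v hvW, ← two_nsmul] at this
  obtain ⟨v, hvI, hv0, hvT⟩ := exists_fixed T.isPGroup' hp hIinv hIne
  exact hv0 (hIW v hvI fun k _ => hcon v hvT k)

end Cfsg.Agent.FFStruct
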