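import Cfsg.Agent.FFStruct.Amb

/-!
# The lines of an `SL₂` pair
-/

set_option autoImplicit false
set_option linter.unusedSectionVars false
set_option linter.style.haveILetI false

namespace Cfsg.Agent.FFStruct

open Subgroup Matrix
open scoped Pointwise MatrixGroups

variable {H : Type*} [Group H] {V : Type*} [AddCommGroup V] [DistribMulAction H V]

theorem zero_ne_one_fin2 : (0 : Fin 2) ≠ 1 := by decide

variable [Finite H] [Finite V] [FaithfulSMul H V]

namespace Pair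

variable {A : Subgroup H} {x : H} (P : Pair V A x)

include P

theorem fx_L : (fx (A ⊔ cj x A) : AddSubgroup V) = fx A ⊓ sm x (fx A) := by rw [fx_sup, fx_cj]

omit P in
theorem C_le_line {y : H} (hy : y ∈ A ⊔ cj x A) :
    (fx (A ⊔ cj x A) : AddSubgroup V) ≤ sm y (fx A) := fun v hv => mem_sm.2 (by
  rw [hv _ (inv_mem hy)]; exact fx_anti le_sup_left hv)

/-- The `q + 1` lines cover the module. -/
theorem cover (v : V) : v ∈ fx (V := V) A ∨ ∃ a ∈ A, v ∈ sm (a * x) (fx A) := by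
  classical
  set W : AddSubgroup V := fx A with hW
  set X : AddSubgroup V := sm x W with hX
  set C : AddSubgroup V := fx (A ⊔ cj x A) with hC
  have hCX : C = W ⊓ X := P.fx_L
  let S : Type _ := ↥W ⊕ (↥A × ↥((X : Set V) \ (C : Set V)))
  let f : S → V := Sum.elim (fun w => (w : V)) fun au => (au.1 : H) • (au.2 : V)
  have key : ∀ a ∈ A, ∀ u ∈ X, a • u ∈ X → u ∉ C → a = 1 := by
    intro a ha u hu hau huC
    by_contra ha1
    refine huC (hCX.ge ⟨P.reg a ha ha1 u (hCX.ge ⟨P.quad a ha u, ?_⟩), hu⟩)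
    rw [dm_apply]
    exact X.sub_mem hau hu
  have hnotW : ∀ a ∈ A, ∀ u ∈ X, u ∉ C → a • u ∉ W := by
    intro a ha u hu huC hau
    refine huC (hCX.ge ⟨?_, hu⟩)
    have := hau a⁻¹ (inv_mem ha)
    rw [inv_smul_smul] at this
    exact this ▸ hau
  have hinj : Function.Injective f := by
    rintro (w | ⟨a, u⟩) (w' | ⟨a', u'⟩) e
    · exact congrArg Sum.inl (Subtype.ext e)
    · exact absurd (show ((a' : H) • (u' : V)) ∈ W from (show (w : V) = (a' : H) • (u' : V) from e) ▸ w.2) (hnotW _ a'.2 _ u'.2.1 u'.2.2)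
    · exact absurd (show ((a : H) • (u : V)) ∈ W from (show (w' : V) = (a : H) • (u : V) from e.symm) ▸ w'.2) (hnotW _ a.2 _ u.2.1 u.2.2)
    · have e' : ((a' : H)⁻¹ * a) • (u : V) = (u' : V) := by
        rw [mul_smul, show (a : H) • (u : V) = (a' : H) • (u' : V) from e, inv_smul_smul]
      have h1 := key _ (mul_mem (inv_mem a'.2) a.2) _ u.2.1 (e' ▸ u'.2.1) u.2.2
      obtain rfl : a' = a := Subtype.ext (inv_mul_eq_one.1 h1)
      rw [h1, one_smul] at e'
      exact congrArg Sum.inr (Prod.ext rfl (Subtype.ext e'))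
  haveI : Finite S := inferInstanceAs (Finite (↥W ⊕ (↥A × ↥((X : Set V) \ (C : Set V)))))
  have hcard : Nat.card S = Nat.card V := by
    rw [Nat.card_sum, Nat.card_prod]
    have h1 : Nat.card ↥((X : Set V) \ (C : Set V)) = Nat.card W - Nat.card C := by
      rw [Nat.card_coe_set_eq, Set.ncard_diff (show (C : Set V) ⊆ X from fun v hv => (hCX.le hv).2)]
      simp only [← Nat.card_coe_set_eq, SetLike.coe_sort_coe]
      rw [hX, card_sm]
    have hle : Nat.card W ≤ Nat.card V := card_le_add W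
    have e1 : Nat.card A * Nat.card C = Nat.card W := P.card_fx.symm
    have e2 : Nat.card A * Nat.card W = Nat.card V := P.exact_card
    rw [h1, Nat.mul_sub, e1, e2]
    omega
  have hb : Function.Bijective f := (Nat.bijective_iff_injective_and_card f).2 ⟨hinj, hcard⟩
  obtain ⟨w | ⟨a, u⟩, rfl⟩ := hb.2 v
  · exact Or.inl w.2
  · refine Or.inr ⟨a, a.2, mem_sm.2 ?_⟩
    show ((a : H) * x)⁻¹ • (a : H) • (u : V) ∈ W
    rw [_root_.mul_inv_rev, mul_smul, inv_smul_smul]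
    exact mem_sm.1 u.2.1

/-- A model in which `A` is the upper unitriangular group. -/
theorem normal_model : ∃ (K : Type) (_ : Field K) (_ : Fintype K), Fintype.card K = Nat.card A ∧
    ∃ (ρ : ↥(A ⊔ cj x A) ≃* SL(2, K)) (ψ : V →+ (Fin 2 → K)), Function.Surjective ψ ∧
      (∀ v, ψ v = 0 ↔ v ∈ fx (A ⊔ cj x A)) ∧
      (∀ (e : ↥(A ⊔ cj x A)) (v : V),
        ψ ((e : H) • v) = (ρ e : Matrix (Fin 2) (Fin 2) K).mulVec (ψ v)) ∧
      (∀ v, v ∈ fx A ↔ ψ v 1 = 0) ∧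
      (∀ k : K, ((ρ.symm (Matrix.SpecialLinearGroup.transvection zero_ne_one_fin2 k) :
          ↥(A ⊔ cj x A)) : H) ∈ A) ∧
      ∀ a ∈ A, ∃ k : K, ((ρ.symm (Matrix.SpecialLinearGroup.transvection zero_ne_one_fin2 k) :
          ↥(A ⊔ cj x A)) : H) = a := by
  classical
  obtain ⟨K, _, _, hK, ρ, ψ, hψs, hψk, heq⟩ := P.model
  have hA1 : ∃ a ∈ A, a ≠ 1 := by
    by_contra hcon
    push Not at hcon
    have hAbot : A = ⊥ := (Subgroup.eq_bot_iff_forall A).2 hcon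
    rw [hAbot, Subgroup.card_bot] at hK
    exact absurd hK (Fintype.one_lt_card (α := K)).ne'
  obtain ⟨a₀, ha₀, ha₀1⟩ := hA1
  obtain ⟨v₀, hv₀, hv₀C⟩ : ∃ v ∈ fx (V := V) A, v ∉ fx (V := V) (A ⊔ cj x A) := by
    by_contra hcon
    push Not at hcon
    have h1 := card_le_of_le_add (X := fx (V := V) A) hcon
    rw [P.card_fx, ← hK] at h1
    exact absurd (Nat.le_of_mul_le_mul_right (h1.trans (one_mul _).ge) Nat.card_pos)
      (Fintype.one_lt_card (α := K)).not_ge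
  set e := ψ v₀ with he
  have he0 : e ≠ 0 := fun h => hv₀C ((hψk _).1 h)
  obtain ⟨f, hf⟩ : ∃ f : Fin 2 → K, e 0 * f 1 - f 0 * e 1 = 1 := by
    by_cases h0 : e 0 = 0
    · have h1 : e 1 ≠ 0 := fun h1 => he0 (funext fun i => by fin_cases i <;> assumption)
      exact ⟨![-(e 1)⁻¹, 0], by simp [h1]⟩
    · exact ⟨![0, (e 0)⁻¹], by simp [h0]⟩
  let g : SL(2, K) := ⟨!![e 0, f 0; e 1, f 1], by rw [Matrix.det_fin_two]; simpa using hf⟩
  let ψ' : V →+ (Fin 2 → K) :=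
    (Matrix.mulVecLin ((g⁻¹ : SL(2, K)) : Matrix (Fin 2) (Fin 2) K)).toAddMonoidHom.comp ψ
  have hψ' : ∀ v, ψ' v = ((g⁻¹ : SL(2, K)) : Matrix (Fin 2) (Fin 2) K).mulVec (ψ v) := fun _ => rfl
  have hψ'1 : ∀ v, ψ' v 1 = e 0 * ψ v 1 - e 1 * ψ v 0 := by
    intro v
    rw [hψ', Matrix.SpecialLinearGroup.coe_inv]
    simp [g, Matrix.adjugate_fin_two, Matrix.mulVec, dotProduct, Fin.sum_univ_two]
    ring
  let ρ' : ↥(A ⊔ cj x A) ≃* SL(2, K) := ρ.trans (MulAut.conj g⁻¹)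
  have hρ' : ∀ z, ρ' z = g⁻¹ * ρ z * g := fun z => by
    show g⁻¹ * ρ z * g⁻¹⁻¹ = _
    rw [inv_inv]
  have heq' : ∀ (z : ↥(A ⊔ cj x A)) (v : V),
      ψ' ((z : H) • v) = (ρ' z : Matrix (Fin 2) (Fin 2) K).mulVec (ψ' v) := by
    intro z v
    rw [hψ', hψ', heq, hρ', Matrix.mulVec_mulVec, Matrix.mulVec_mulVec,
      Matrix.SpecialLinearGroup.coe_mul, Matrix.SpecialLinearGroup.coe_mul]
    congr 1
    rw [← Matrix.SpecialLinearGroup.coe_mul, ← Matrix.SpecialLinearGroup.coe_mul,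
      ← Matrix.SpecialLinearGroup.coe_mul, mul_inv_cancel_right]
  have hψ'k : ∀ v, ψ' v = 0 ↔ v ∈ fx (A ⊔ cj x A) := by
    intro v
    rw [← hψk, hψ']
    refine ⟨fun h => ?_, fun h => by rw [h, Matrix.mulVec_zero]⟩
    have h2 := congrArg ((g : Matrix (Fin 2) (Fin 2) K).mulVec ·) h
    simp only [Matrix.mulVec_mulVec, Matrix.mulVec_zero] at h2
    rwa [← Matrix.SpecialLinearGroup.coe_mul, mul_inv_cancel, Matrix.SpecialLinearGroup.coe_one,
      Matrix.one_mulVec] at h2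
  have hv₀' : ψ' v₀ 0 = 1 ∧ ψ' v₀ 1 = 0 := by
    refine ⟨?_, by rw [hψ'1, ← he]; ring⟩
    rw [hψ', Matrix.SpecialLinearGroup.coe_inv]
    simp [g, Matrix.adjugate_fin_two, Matrix.mulVec, dotProduct, Fin.sum_univ_two, ← he]
    linear_combination hf
  have hup : ∀ a (ha : a ∈ A), (ρ' ⟨a, mem_sup_left ha⟩ : Matrix (Fin 2) (Fin 2) K) 0 0 = 1 ∧
      (ρ' ⟨a, mem_sup_left ha⟩ : Matrix (Fin 2) (Fin 2) K) 1 0 = 0 ∧
      (ρ' ⟨a, mem_sup_left ha⟩ : Matrix (Fin 2) (Fin 2) K) 1 1 = 1 := by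
    intro a ha
    have h := heq' ⟨a, mem_sup_left ha⟩ v₀
    rw [show ((⟨a, mem_sup_left ha⟩ : ↥(A ⊔ cj x A)) : H) • v₀ = v₀ from hv₀ a ha] at h
    have hd := (ρ' ⟨a, mem_sup_left ha⟩).2
    rw [Matrix.det_fin_two] at hd
    have h0 := congrFun h 0
    have h1 := congrFun h 1
    simp [Matrix.mulVec, dotProduct, Fin.sum_univ_two, hv₀'.1, hv₀'.2] at h0 h1
    refine ⟨h0.symm, h1.symm, ?_⟩
    rw [← h0, ← h1] at hd
    linear_combination hd
  have hline : ∀ v, v ∈ fx A ↔ ψ' v 1 = 0 := by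
    intro v
    set M := (ρ' ⟨a₀, mem_sup_left ha₀⟩ : Matrix (Fin 2) (Fin 2) K) with hM
    obtain ⟨h00, h10, h11⟩ := hup a₀ ha₀
    rw [← hM] at h00 h10 h11
    have hact : ∀ u : V, ψ' (dm a₀ u) = ![M 0 1 * ψ' u 1, 0] := by
      intro u
      rw [dm_apply, map_sub, show a₀ • u = ((⟨a₀, mem_sup_left ha₀⟩ : ↥(A ⊔ cj x A)) : H) • u from rfl,
        heq']
      funext i
      fin_cases i <;> simp [Matrix.mulVec, dotProduct, Fin.sum_univ_two, ← hM] <;> simp only [h00, h10, h11] <;> ring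
    have h01 : M 0 1 ≠ 0 := by
      intro h0
      obtain ⟨u, hu⟩ := hψs f
      have h2 : u ∈ fx (V := V) A := P.reg a₀ ha₀ ha₀1 u ((hψ'k _).1 (by
        rw [hact, h0, zero_mul]; funext i; fin_cases i <;> simp))
      have h3 := P.reg a₀ ha₀ ha₀1
      -- everything is fixed
      have hall : ∀ w : V, w ∈ fx (V := V) A := fun w => h3 w ((hψ'k _).1 (by
        rw [hact, h0, zero_mul]; funext i; fin_cases i <;> simp))
      exact ha₀1 (eq_one_of_dm (V := V) fun w => dm_eq_zero.2 (hall w a₀ ha₀))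
    constructor
    · intro hv
      have h1 := hact v
      rw [dm_eq_zero.2 (hv a₀ ha₀), map_zero] at h1
      have := congrFun h1 0
      simp [h01] at this
      exact this
    · intro hv
      refine P.reg a₀ ha₀ ha₀1 v ((hψ'k _).1 ?_)
      rw [hact, hv, mul_zero]
      funext i; fin_cases i <;> simp
  have htr : ∀ a (ha : a ∈ A), ρ' ⟨a, mem_sup_left ha⟩ =
      Matrix.SpecialLinearGroup.transvection zero_ne_one_fin2
        ((ρ' ⟨a, mem_sup_left ha⟩ : Matrix (Fin 2) (Fin 2) K) 0 1) := by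
    intro a ha
    obtain ⟨h00, h10, h11⟩ := hup a ha
    refine Matrix.SpecialLinearGroup.ext _ _ fun i j => ?_
    fin_cases i <;> fin_cases j <;>
      simp [Matrix.SpecialLinearGroup.transvection, Matrix.transvection, Matrix.single, h00, h10, h11]
  let s : ↥A → K := fun a => (ρ' ⟨a, mem_sup_left a.2⟩ : Matrix (Fin 2) (Fin 2) K) 0 1
  have hs : Function.Bijective s := by
    refine (Nat.bijective_iff_injective_and_card _).2 ⟨fun a b h => ?_, ?_⟩
    · have h2 : ρ' ⟨a, mem_sup_left a.2⟩ = ρ' ⟨b, mem_sup_left b.2⟩ := by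
        rw [htr a a.2, htr b b.2]; exact congrArg _ h
      exact Subtype.ext (congrArg Subtype.val (ρ'.injective h2) :)
    · rw [← hK, Nat.card_eq_fintype_card]
  refine ⟨K, inferInstance, inferInstance, hK, ρ', ψ', fun w => ?_, hψ'k, heq', hline, fun k => ?_,
    fun a ha => ⟨s ⟨a, ha⟩, ?_⟩⟩
  · obtain ⟨v, hv⟩ := hψs ((g : Matrix (Fin 2) (Fin 2) K).mulVec w)
    refine ⟨v, ?_⟩
    rw [hψ', hv, Matrix.mulVec_mulVec, ← Matrix.SpecialLinearGroup.coe_mul, inv_mul_cancel,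
      Matrix.SpecialLinearGroup.coe_one, Matrix.one_mulVec]
  · obtain ⟨a, rfl⟩ := hs.2 k
    rw [← htr a a.2, MulEquiv.symm_apply_apply]
    exact a.2
  · rw [← htr a ha, MulEquiv.symm_apply_apply]

end Pair

end Cfsg.Agent.FFStruct
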