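import Cfsg.Agent.FFStruct.Conj

/-!
# Conjugation through a quotient
-/

set_option autoImplicit false
set_option linter.unusedSectionVars false
set_option linter.style.haveILetI false

namespace Cfsg.Agent.FFStruct

open Subgroup
open scoped Pointwise IsMulCommutative commutatorElement

variable {G : Type*} [Group G] {P V : Subgroup G} [IsMulCommutative V] {H : Type*} [Group H]
  {π : ↥P →* H}

/-- The action of a quotient of a normalising subgroup. -/
@[instance_reducible]
noncomputable def quotAct (hPV : P ≤ normalizer (V : Set G)) (hπ : Function.Surjective π)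
    (hk : ∀ e : ↥P, π e = 1 → (e : G) ∈ centralizer (V : Set G)) :
    DistribMulAction H (Additive ↥V) :=
  letI := conjAct' hPV
  have key : ∀ (e f : ↥P) (v : Additive ↥V), π e = π f → e • v = f • v := fun e f v h => by
    have h1 := hk (f⁻¹ * e) (by rw [map_mul, map_inv, h, inv_mul_cancel])
    have h2 : (f⁻¹ * e) • v = v := Additive.toMul.injective (Subtype.ext (by
      show ((f⁻¹ * e : ↥P) : G) * ((Additive.toMul v : ↥V) : G) * ((f⁻¹ * e : ↥P) : G)⁻¹ = _
      rw [← mem_centralizer_iff.1 h1 _ (Additive.toMul v).2, mul_inv_cancel_right]))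
    conv_rhs => rw [← h2]
    rw [← mul_smul, mul_inv_cancel_left]
  { smul := fun x v => Function.surjInv hπ x • v
    one_smul := fun v => (key _ 1 v (by rw [Function.surjInv_eq hπ, map_one])).trans (one_smul _ v)
    mul_smul := fun x y v => (key _ (Function.surjInv hπ x * Function.surjInv hπ y) v (by
      rw [map_mul, Function.surjInv_eq hπ, Function.surjInv_eq hπ, Function.surjInv_eq hπ])).trans
        (mul_smul _ _ v)
    smul_zero := fun x => smul_zero (Function.surjInv hπ x)
    smul_add := fun x u v => smul_add (Function.surjInv hπ x) u v }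

theorem quotAct_isConj (hPV : P ≤ normalizer (V : Set G)) (hπ : Function.Surjective π)
    (hk : ∀ e : ↥P, π e = 1 → (e : G) ∈ centralizer (V : Set G)) :
    letI := quotAct hPV hπ hk
    IsConj π V := by
  intro e v
  set f := Function.surjInv hπ (π e) with hf
  have h1 := hk (e⁻¹ * f) (by rw [map_mul, map_inv, hf, Function.surjInv_eq hπ, inv_mul_cancel])
  show (f : G) * ((Additive.toMul v : ↥V) : G) * (f : G)⁻¹ = _
  have h2 := mem_centralizer_iff.1 h1 _ (Additive.toMul v).2
  rw [Subgroup.coe_mul, Subgroup.coe_inv] at h2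
  calc (f : G) * ((Additive.toMul v : ↥V) : G) * (f : G)⁻¹
      = (e : G) * (((e : G)⁻¹ * f) * ((Additive.toMul v : ↥V) : G)) * (f : G)⁻¹ := by group
    _ = (e : G) * (((Additive.toMul v : ↥V) : G) * ((e : G)⁻¹ * f)) * (f : G)⁻¹ := by rw [h2]
    _ = _ := by group

theorem quotAct_faithful (hPV : P ≤ normalizer (V : Set G)) (hπ : Function.Surjective π)
    (hk : ∀ e : ↥P, π e = 1 ↔ (e : G) ∈ centralizer (V : Set G)) :
    letI := quotAct hPV hπ fun e => (hk e).1
    FaithfulSMul H (Additive ↥V) := by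
  letI := quotAct hPV hπ fun e => (hk e).1
  refine ⟨fun {x y} h => ?_⟩
  obtain ⟨e, rfl⟩ := hπ x
  obtain ⟨f, rfl⟩ := hπ y
  have hc := quotAct_isConj hPV hπ fun e => (hk e).1
  rw [← inv_mul_eq_one, ← map_inv, ← map_mul, hk]
  refine mem_centralizer_iff.2 fun v hv => ?_
  have h1 : π (e⁻¹ * f) • Additive.ofMul (⟨v, hv⟩ : ↥V) = Additive.ofMul (⟨v, hv⟩ : ↥V) := by
    rw [map_mul, mul_smul, ← h, ← mul_smul, map_inv, inv_mul_cancel, one_smul]
  have h2 : ((e⁻¹ * f : ↥P) : G) * v * ((e⁻¹ * f : ↥P) : G)⁻¹ = v :=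
    (hc (e⁻¹ * f) (Additive.ofMul (⟨v, hv⟩ : ↥V))).symm.trans
      (congrArg (fun w : Additive ↥V => ((Additive.toMul w : ↥V) : G)) h1)
  exact (mul_inv_eq_iff_eq_mul.1 h2).symm

end Cfsg.Agent.FFStruct
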