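import Cfsg.Agent.FFStruct.TwoComp
import Mathlib.GroupTheory.GroupAction.ConjAct

/-!
# The component through an offender of order two
-/

set_option autoImplicit false
set_option linter.unusedSectionVars false
set_option linter.style.haveILetI false

namespace Cfsg.Agent.FFStruct

open Subgroup
open scoped Pointwise

variable {H : Type*} [Group H] {V : Type*} [AddCommGroup V] [DistribMulAction H V]
variable [Module (ZMod 2) V] [Finite H] [Finite V] [FaithfulSMul H V]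

theorem Tv.pair_zero {s r : H} {i j : V} {f g : V →+ ZMod 2} (hs : Tv s i f) (hr : Tv r j g)
    (hc : r * s = s * r) : g i = 0 := by
  have h := hs.conjTv hr
  rw [mul_inv_eq_iff_eq_mul.2 hc] at h
  have e := (h.unique hs).1
  rw [add_eq_left] at e
  rcases z2_cases (g i) with e' | e'
  · exact e'
  · rw [e', one_smul] at e; exact absurd e hr.ne

theorem Tv.mul_self {s : H} {i : V} {f : V →+ ZMod 2} (hs : Tv s i f) : s * s = 1 :=
  eq_one_of_dm (V := V) fun v => dm_eq_zero.2 (by rw [mul_smul, hs.smul_smul_self])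

namespace Tsys

variable {a : H} {N : ℕ} (S : Tsys H V a N)

/-- The conjugate system. -/
def cjSys (x : H) : Tsys H V a N where
  three := S.three
  o := S.o
  u k := x • S.u k
  g k := (S.g k).comp (DistribSMul.toAddMonoidHom V x⁻¹)
  uo := by rw [S.uo, smul_zero]
  go := by rw [S.go, AddMonoidHom.zero_comp]
  pair j k := by
    show S.g j (x⁻¹ • x • S.u k) = _
    rw [inv_smul_smul, S.pair]
  mem j k h := by
    obtain ⟨t, ht, tt⟩ := S.mem j k h
    refine ⟨x * t * x⁻¹, conj_mem_Cls ht x, ?_⟩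
    have h1 := tt.conjH x
    rwa [smul_add, AddMonoidHom.add_comp] at h1
  inj j k l m hjk hlm e := by
    refine S.inj j k l m hjk hlm (AddMonoidHom.ext fun v => ?_)
    have h1 := DFunLike.congr_fun e (x • v)
    simpa using h1

theorem cjSys_maximal (hS : S.Maximal) (x : H) : (S.cjSys x).Maximal := by
  intro c ic fc hc tc hnew k
  have h1 := tc.conjH x⁻¹
  have h2 := hS _ _ _ (conj_mem_Cls hc x⁻¹) h1 (fun l m e => hnew l m (AddMonoidHom.ext fun v => ?_)) k
  · have h3 : fc (x⁻¹⁻¹ • S.u k) = 0 := h2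
    rwa [inv_inv] at h3
  · have h3 : fc (x⁻¹⁻¹ • x⁻¹ • v) = (S.g l + S.g m) (x⁻¹ • v) := DFunLike.congr_fun e (x⁻¹ • v)
    rw [inv_inv, smul_inv_smul] at h3
    exact h3

theorem cjSys_τ (x : H) {j k : Fin N} (h : j ≠ k) : (S.cjSys x).τ j k = x * S.τ j k * x⁻¹ := by
  refine Tv.eq_of ((S.cjSys x).τ_tv h) ?_
  have h1 := (S.τ_tv h).conjH x
  rwa [smul_add, AddMonoidHom.add_comp] at h1

end Tsys

/-- A maximal system through a given member of the class. -/
theorem exists_maximal_through {a : H} (hT : TwoH V a) {s : H} (hs : s ∈ Cls a) :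
    ∃ (N : ℕ) (S : Tsys H V a N), S.Maximal ∧ S.Mem s := by
  obtain ⟨N, S, hS⟩ := Tsys.exists_maximal hT
  obtain ⟨k, hk, -⟩ := exists_third S.three S.o S.o
  obtain ⟨y, hy⟩ := S.τ_mem hk
  obtain ⟨x, rfl⟩ := hs
  refine ⟨N, S.cjSys (x * y⁻¹), S.cjSys_maximal hS _, k, S.o, hk, ?_⟩
  rw [S.cjSys_τ _ hk, hy]
  group

variable {p : ℕ} [Fact p.Prime]

theorem Amb.seed_two (h : Amb H V p) (hp : p = 2) {a : H} (hA : MOff V p (zpowers a))
    (hT : TwoH V a) {T : Sylow p H} (hout : ∃ s ∈ Cls a, s ∉ h.Mx T) :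
    ∃ L : Subgroup H, Seed V p (T : Subgroup H) (h.Mx T) L ∧ L ≤ closure (Cls a) := by
  classical
  subst hp
  set A := zpowers a with hAdef
  set M := h.Mx T with hMdef
  have hTM : (T : Subgroup H) ≤ M := h.le_Mx T
  obtain ⟨s₁, hs₁, hs₁M⟩ := hout
  obtain ⟨N, S, hS, hmem₁⟩ := exists_maximal_through hT hs₁
  have hkset : ∀ {s : H}, s ∈ Cls a → s ∈ (T : Subgroup H) → zpowers s ∈ kset A (T : Subgroup H) := by
    rintro s ⟨x, rfl⟩ hs
    exact ⟨⟨x, (MonoidHom.map_zpowers (MulAut.conj x).toMonoidHom a).symm⟩, zpowers_le.2 hs⟩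
  have hKof : ∀ {D : Subgroup H}, D ∈ kset A (T : Subgroup H) →
      ∃ s ∈ Cls a, s ∈ (T : Subgroup H) ∧ D = zpowers s := by
    rintro D ⟨⟨x, rfl⟩, hle⟩
    have e : FFStruct.cj x A = zpowers (x * a * x⁻¹) := MonoidHom.map_zpowers _ _
    exact ⟨x * a * x⁻¹, ⟨x, rfl⟩, hle (e.ge (mem_zpowers _)), e⟩
  have hcomm : ∀ {s r : H}, s ∈ Cls a → r ∈ Cls a → s ∈ (T : Subgroup H) → r ∈ (T : Subgroup H) →
      r * s = s * r := fun hs hr hsT hrT =>
    (mem_centralizer_iff.1 (h.kset_commute hA (hkset hs hsT) (hkset hr hrT) (mem_zpowers _)) _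
      (mem_zpowers _))
  have hmaxK : ∀ {s : H}, s ∈ Cls a →
      (∀ r ∈ Cls a, r ∈ (T : Subgroup H) → r * s = s * r) → s ∈ (T : Subgroup H) := by
    intro s hs hc
    by_contra hsT
    have hzc : ∀ {u v : H}, v * u = u * v → zpowers u ≤ centralizer (zpowers v : Set H) :=
      fun {u v} e => zpowers_le.2 (mem_centralizer_iff.2 fun w hw => by
        obtain ⟨m, rfl⟩ := mem_zpowers_iff.1 hw
        exact ((show Commute v u from e).zpow_left m).eq)
    have h1 := ncard_le_of_commuting (p := 2) hA T (𝒮 := insert (zpowers s) (kset A (T : Subgroup H))) (by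
      rintro D (rfl | hD)
      · obtain ⟨x, rfl⟩ := hs; exact ⟨x, (MonoidHom.map_zpowers (MulAut.conj x).toMonoidHom a).symm⟩
      · exact hD.1) (by
      rintro D (rfl | hD) E (rfl | hE)
      · exact hzc rfl
      · obtain ⟨r, hr, hrT, rfl⟩ := hKof hE
        exact hzc (hc r hr hrT)
      · obtain ⟨r, hr, hrT, rfl⟩ := hKof hD
        exact hzc (hc r hr hrT).symm
      · exact h.kset_commute hA hD hE)
    rw [Set.ncard_insert_of_notMem fun hm => hsT (hm.2 (mem_zpowers s))] at h1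
    omega
  -- matched points
  have hdisj : ∀ {x y z : Fin N}, x ≠ y → x ≠ z → S.τ x y ∈ (T : Subgroup H) →
      S.τ x z ∈ (T : Subgroup H) → y = z := by
    intro x y z hxy hxz h1 h2
    by_contra hne
    have := (S.τ_tv hxy).pair_zero (S.τ_tv hxz) (hcomm (S.τ_mem hxy) (S.τ_mem hxz) h1 h2)
    rw [S.pairing, dlt_self, dlt_ne hxy, dlt_ne hxz.symm, dlt_ne (Ne.symm hne)] at this
    simp at this
  let Matched : Fin N → Prop := fun x => ∃ y, x ≠ y ∧ S.τ x y ∈ (T : Subgroup H)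
  have hunm : ∀ x y, ¬ Matched x → ¬ Matched y → x = y := by
    intro x y hx hy
    by_contra hne
    refine hx ⟨y, hne, hmaxK (S.τ_mem hne) fun r hr hrT => ?_⟩
    by_cases hm : S.Mem r
    · obtain ⟨c, d, hcd, rfl⟩ := hm
      have e1 : ∀ z, ¬ Matched z → c ≠ z ∧ d ≠ z := fun z hz =>
        ⟨fun e => hz ⟨d, e ▸ hcd, e ▸ hrT⟩, fun e => hz ⟨c, e ▸ hcd.symm, by rw [S.τ_comm]; exact e ▸ hrT⟩⟩
      refine Tv.commute (S.τ_tv hne) (S.τ_tv hcd) ?_ ?_ <;>
        rw [S.pairing] <;>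
        simp [dlt_ne (e1 x hx).1, dlt_ne (e1 x hx).2, dlt_ne (e1 y hy).1, dlt_ne (e1 y hy).2,
          dlt_ne (e1 x hx).1.symm, dlt_ne (e1 x hx).2.symm, dlt_ne (e1 y hy).1.symm,
          dlt_ne (e1 y hy).2.symm]
    · exact S.outside_commute hT hS hr hm x y
  -- two blocks
  have hblocks : ∀ α β γ δ : Fin N, α ≠ β → γ ≠ δ → α ≠ γ → α ≠ δ → β ≠ γ → β ≠ δ →
      S.τ α β ∈ (T : Subgroup H) → S.τ γ δ ∈ (T : Subgroup H) → S.τ α γ ∈ M := by
    intro α β γ δ hab hgd hag had hbg hbd h1 h2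
    have t1 := S.τ_tv hag
    have t2 := S.τ_tv hbd
    have P12 : (S.g α + S.g γ) (S.u β + S.u δ) = 0 := by
      rw [S.pairing, dlt_ne hab, dlt_ne had, dlt_ne hbg.symm, dlt_ne hgd]; simp
    have P21 : (S.g β + S.g δ) (S.u α + S.u γ) = 0 := by
      rw [S.pairing, dlt_ne hab.symm, dlt_ne hbg, dlt_ne had.symm, dlt_ne hgd.symm]; simp
    set t := S.τ α γ * S.τ β δ with ht
    have hcm : S.τ β δ * S.τ α γ = S.τ α γ * S.τ β δ := Tv.commute t1 t2 P12 P21
    have ht2 : t * t = 1 := by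
      rw [ht, mul_assoc, ← mul_assoc (S.τ β δ), hcm, mul_assoc, t2.mul_self, mul_one, t1.mul_self]
    set KT : Set H := {s | s ∈ Cls a ∧ s ∈ (T : Subgroup H)} with hKT
    have hconj : ∀ r ∈ KT, t * r * t⁻¹ ∈ KT := by
      rintro r ⟨hr, hrT⟩
      by_cases hm : S.Mem r
      · obtain ⟨c, d, hcd, rfl⟩ := hm
        refine ⟨conj_mem_Cls hr t, ?_⟩
        have e : t * S.τ c d * t⁻¹ = S.τ (Equiv.swap α γ (Equiv.swap β δ c))
            (Equiv.swap α γ (Equiv.swap β δ d)) := by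
          rw [ht, show S.τ α γ * S.τ β δ * S.τ c d * (S.τ α γ * S.τ β δ)⁻¹ =
            S.τ α γ * (S.τ β δ * S.τ c d * (S.τ β δ)⁻¹) * (S.τ α γ)⁻¹ by group, S.τ_conj hbd hcd hT,
            S.τ_conj hag (fun e => hcd ((Equiv.swap β δ).injective e)) hT]
        rw [e]
        have key : ∀ c d, c ≠ d → S.τ c d ∈ (T : Subgroup H) →
            c = α ∨ c = β ∨ c = γ ∨ c = δ →
            (c = α ∧ d = β) ∨ (c = β ∧ d = α) ∨ (c = γ ∧ d = δ) ∨ (c = δ ∧ d = γ) := by
          rintro c d hcd hT' (rfl | rfl | rfl | rfl)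
          · exact Or.inl ⟨rfl, hdisj hcd hab hT' h1⟩
          · exact Or.inr (Or.inl ⟨rfl, hdisj hcd hab.symm hT' (by rw [S.τ_comm]; exact h1)⟩)
          · exact Or.inr (Or.inr (Or.inl ⟨rfl, hdisj hcd hgd hT' h2⟩))
          · exact Or.inr (Or.inr (Or.inr ⟨rfl, hdisj hcd hgd.symm hT' (by rw [S.τ_comm]; exact h2)⟩))
        by_cases hin : c = α ∨ c = β ∨ c = γ ∨ c = δ
        · rcases key c d hcd hrT hin with ⟨ec, ed⟩ | ⟨ec, ed⟩ | ⟨ec, ed⟩ | ⟨ec, ed⟩ <;> rw [ec, ed]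
          · rw [Equiv.swap_apply_of_ne_of_ne hab had, Equiv.swap_apply_left β δ, Equiv.swap_apply_left α γ,
              Equiv.swap_apply_of_ne_of_ne had.symm hgd.symm]
            exact h2
          · rw [Equiv.swap_apply_left β δ, Equiv.swap_apply_of_ne_of_ne had.symm hgd.symm,
              Equiv.swap_apply_of_ne_of_ne hab had, Equiv.swap_apply_left α γ, S.τ_comm]
            exact h2
          · rw [Equiv.swap_apply_of_ne_of_ne hbg.symm hgd, Equiv.swap_apply_right β δ, Equiv.swap_apply_right α γ,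
              Equiv.swap_apply_of_ne_of_ne hab.symm hbg]
            exact h1
          · rw [Equiv.swap_apply_right β δ, Equiv.swap_apply_of_ne_of_ne hab.symm hbg,
              Equiv.swap_apply_of_ne_of_ne hbg.symm hgd, Equiv.swap_apply_right α γ, S.τ_comm]
            exact h1
        · push Not at hin
          obtain ⟨n1, n2, n3, n4⟩ := hin
          have hd : d ≠ α ∧ d ≠ β ∧ d ≠ γ ∧ d ≠ δ := by
            refine ⟨fun e => ?_, fun e => ?_, fun e => ?_, fun e => ?_⟩ <;> subst e <;>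
              rcases key d c hcd.symm (by rw [S.τ_comm]; exact hrT) (by tauto) with
                ⟨_, e'⟩ | ⟨_, e'⟩ | ⟨_, e'⟩ | ⟨_, e'⟩ <;>
              first
                | exact n1 e'
                | exact n2 e'
                | exact n3 e'
                | exact n4 e'
          rw [Equiv.swap_apply_of_ne_of_ne n2 n4, Equiv.swap_apply_of_ne_of_ne n1 n3,
            Equiv.swap_apply_of_ne_of_ne hd.2.1 hd.2.2.2, Equiv.swap_apply_of_ne_of_ne hd.1 hd.2.2.1]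
          exact hrT
      · have e1 := S.outside_commute hT hS hr hm α γ
        have e2 := S.outside_commute hT hS hr hm β δ
        have hrt : r * t = t * r := by rw [ht, ← mul_assoc, e1, mul_assoc, e2, mul_assoc]
        rw [← hrt, mul_inv_cancel_right]
        exact ⟨hr, hrT⟩
    set J := closure KT with hJ
    have hJT : J ≤ (T : Subgroup H) := (closure_le _).2 fun r hr => hr.2
    have hn : zpowers t ≤ normalizer (J : Set H) := zpowers_le.2 (mem_normalizer_of_cj (by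
      show J.map _ = J
      have hle : J.map (MulAut.conj t).toMonoidHom ≤ J := by
        rw [hJ, MonoidHom.map_closure, closure_le]
        rintro _ ⟨r, hr, rfl⟩
        exact subset_closure (hconj r hr)
      exact eq_of_le_of_card_ge hle (card_cj t J).ge))
    have htp : IsPGroup 2 (zpowers t) := fun w => ⟨1, Subtype.ext (by
      obtain ⟨m, hm⟩ := mem_zpowers_iff.1 w.2
      show (w : H) ^ 2 ^ 1 = 1
      rw [pow_one, sq, ← hm, ← (Commute.refl t).mul_zpow, ht2, one_zpow])⟩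
    obtain ⟨T', hT'⟩ := (htp.to_sup_of_normal_right' (T.isPGroup'.to_le hJT) hn).exists_le_sylow
    have hMT' : h.Mx T' = M := h.Mx_eq_of_kset hA fun D hD => by
      obtain ⟨r, hr, hrT, rfl⟩ := hKof hD
      exact zpowers_le.2 (hT' (mem_sup_right (subset_closure ⟨hr, hrT⟩)))
    refine hMT' ▸ h.hZ T' _ (h.Mx_coatom _) (h.le_Mx _) _ fun z hz => ?_
    have hzero : ∀ {x y : Fin N}, x ≠ y → S.τ x y ∈ (T : Subgroup H) → S.g x z + S.g y z = 0 := by
      intro x y hxy hin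
      have := hz _ (hT' (mem_sup_right (subset_closure ⟨S.τ_mem hxy, hin⟩)))
      rw [(S.τ_tv hxy).act, add_eq_left] at this
      rcases z2_cases ((S.g x + S.g y) z) with e | e
      · exact e
      · rw [e, one_smul] at this; exact absurd this (S.τ_tv hxy).ne
    have e1 := hzero hab h1
    have e2 := hzero hgd h2
    have eG : (S.g β + S.g δ) z = (S.g α + S.g γ) z := by
      rw [AddMonoidHom.add_apply, AddMonoidHom.add_apply, CharTwo.add_eq_zero.1 e1, CharTwo.add_eq_zero.1 e2]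
    have htz := hz _ (hT' (mem_sup_left (mem_zpowers t)))
    rw [ht, mul_smul, t2.act, smul_add, smul_z2, t1.act z, t1.act (S.u β + S.u δ), P12, zero_smul,
      add_zero, eG, add_assoc, add_eq_left, ← smul_add] at htz
    rcases z2_cases ((S.g α + S.g γ) z) with e | e
    · rw [t1.act, e, zero_smul, add_zero]
    · rw [e, one_smul] at htz
      exfalso
      have hi : S.u α + S.u γ = S.u β + S.u δ := by
        rw [eq_neg_of_add_eq_zero_left htz, v_neg]
      have hf := hT.iinj (S.τ_mem hag) (S.τ_mem hbd) t1 (hi ▸ t2)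
      rcases S.inj α γ β δ hag hbd hf with ⟨e', -⟩ | ⟨e', -⟩
      · exact hab e'
      · exact had e'
  have hmm : ∀ x y, x ≠ y → Matched x → Matched y → S.τ x y ∈ M := by
    rintro x y hxy ⟨x', hx', hxT⟩ ⟨y', hy', hyT⟩
    rcases eq_or_ne x' y with rfl | h1
    · exact hTM hxT
    have h2 : x ≠ y' := fun e => h1 (by
      subst e
      exact hdisj hx' hxy hxT (by rw [S.τ_comm]; exact hyT))
    have h3 : x' ≠ y' := fun e => hxy (by
      subst e
      exact hdisj hx'.symm hy'.symm (by rw [S.τ_comm]; exact hxT) (by rw [S.τ_comm]; exact hyT))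
    exact hblocks x x' y y' hx' hy' hxy h2 h1 h3 hxT hyT
  obtain ⟨l₁, m₁, hlm₁, rfl⟩ := hmem₁
  obtain ⟨ω, hω⟩ : ∃ ω, ¬ Matched ω := by
    by_contra hcon
    push Not at hcon
    exact hs₁M (hmm l₁ m₁ hlm₁ (hcon _) (hcon _))
  have hin : ∀ x y, x ≠ y → x ≠ ω → y ≠ ω → S.τ x y ∈ M := fun x y hxy hx hy =>
    hmm x y hxy (by_contra fun hc => hx (hunm x ω hc hω)) (by_contra fun hc => hy (hunm y ω hc hω))
  have hstar : ∀ x, x ≠ ω → S.τ ω x ∉ M := by
    intro x hx hm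
    have hall : ∀ y, y ≠ ω → S.τ ω y ∈ M := fun y hy => by
      rcases eq_or_ne x y with rfl | hxy
      · exact hm
      have e := S.τ_conj hxy hx.symm hT (c := ω) (d := x)
      rw [Equiv.swap_apply_of_ne_of_ne hx.symm hy.symm, Equiv.swap_apply_left] at e
      rw [← e]
      exact mul_mem (mul_mem (hin x y hxy hx hy) hm) (inv_mem (hin x y hxy hx hy))
    rcases eq_or_ne l₁ ω with rfl | h1
    · exact hs₁M (hall m₁ hlm₁.symm)
    rcases eq_or_ne m₁ ω with rfl | h2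
    · exact hs₁M (by rw [S.τ_comm]; exact hall l₁ h1)
    exact hs₁M (hin l₁ m₁ hlm₁ h1 h2)
  have hstar' : ∀ {s}, S.Mem s → s ∉ M → ∃ x, x ≠ ω ∧ s = S.τ ω x := by
    rintro _ ⟨c, d, hcd, rfl⟩ hm
    rcases eq_or_ne c ω with rfl | h1
    · exact ⟨d, hcd.symm, rfl⟩
    rcases eq_or_ne d ω with rfl | h2
    · exact ⟨c, hcd, S.τ_comm _ _⟩
    exact absurd (hin c d hcd h1 h2) hm
  have hall_iff : ∀ {t s : H}, S.Mem s → S.Mem (t * s * t⁻¹) →
      ∀ r, S.Mem (t * r * t⁻¹) ↔ S.Mem r := by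
    rintro t _ ⟨c, d, hcd, rfl⟩ hm r
    constructor
    · intro hr
      obtain ⟨c', d', hcd', e⟩ := hm
      obtain ⟨l, m, hlm, e'⟩ := hr
      have h2 : S.Mem (t⁻¹ * S.τ c' d' * t⁻¹⁻¹) :=
        ⟨c, d, hcd, by rw [← e]; group⟩
      have h3 := S.conj_mem_all hT hS hcd' h2 hlm
      rw [← e'] at h3
      simpa [mul_assoc] using h3
    · rintro ⟨l, m, hlm, rfl⟩
      exact S.conj_mem_all hT hS hcd hm hlm
  let GT : Subgroup H :=
    { carrier := {t | t ∈ (T : Subgroup H) ∧ ∀ r, S.Mem (t * r * t⁻¹) ↔ S.Mem r}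
      one_mem' := ⟨one_mem _, fun r => by simp⟩
      mul_mem' := fun {t u} ht hu => ⟨mul_mem ht.1 hu.1, fun r => by
        rw [show t * u * r * (t * u)⁻¹ = t * (u * r * u⁻¹) * t⁻¹ by group, ht.2, hu.2]⟩
      inv_mem' := fun {t} ht => ⟨inv_mem ht.1, fun r => by
        rw [← ht.2 (t⁻¹ * r * t⁻¹⁻¹)]; group⟩ }
  obtain ⟨x₀, hx₀, -⟩ := exists_third S.three ω ω
  set GC : Subgroup (ConjAct H) := GT.map ConjAct.toConjAct.toMonoidHom with hGC
  set O : Set H := MulAction.orbit GC (S.τ ω x₀) with hO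
  have hOmem : ∀ {s}, s ∈ O ↔ ∃ t ∈ GT, t * S.τ ω x₀ * t⁻¹ = s := by
    intro s
    constructor
    · rintro ⟨⟨_, t, ht, rfl⟩, rfl⟩
      exact ⟨t, ht, rfl⟩
    · rintro ⟨t, ht, rfl⟩
      exact ⟨⟨_, t, ht, rfl⟩, rfl⟩
  have hOstar : ∀ {s}, s ∈ O → ∃ x, x ≠ ω ∧ s = S.τ ω x := by
    intro s hs
    obtain ⟨t, ht, rfl⟩ := hOmem.1 hs
    refine hstar' ((ht.2 _).2 ⟨ω, x₀, hx₀.symm, rfl⟩) fun hm => hstar x₀ hx₀ ?_
    have := mul_mem (mul_mem (inv_mem (hTM ht.1)) hm) (hTM ht.1)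
    simpa [mul_assoc] using this
  have hOfull : ∀ x, x ≠ ω → S.τ ω x ∈ O := by
    by_contra hcon
    push Not at hcon
    obtain ⟨y, hy, hyO⟩ := hcon
    let P : Set (Fin N) := {x | x = ω ∨ S.τ ω x ∈ O}
    let SO : Set H := {s | ∃ c d, c ≠ d ∧ c ∈ P ∧ d ∈ P ∧ s = S.τ c d}
    have hOmap : ∀ t ∈ GT, ∀ x, x ≠ ω → S.τ ω x ∈ O →
        ∃ x', x' ≠ ω ∧ S.τ ω x' ∈ O ∧ t * S.τ ω x * t⁻¹ = S.τ ω x' := by
      intro t ht x hx hxO
      obtain ⟨u, hu, e⟩ := hOmem.1 hxO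
      have h1 : t * S.τ ω x * t⁻¹ ∈ O := hOmem.2 ⟨t * u, mul_mem ht hu, by rw [← e]; group⟩
      obtain ⟨x', hx', e'⟩ := hOstar h1
      exact ⟨x', hx', e' ▸ h1, e'⟩
    have hSOinv : ∀ t ∈ GT, ∀ r ∈ SO, t * r * t⁻¹ ∈ SO := by
      rintro t ht _ ⟨c, d, hcd, hc, hd, rfl⟩
      rcases hc with rfl | hc
      · obtain ⟨d', hd', hdO, e⟩ := hOmap t ht d hcd.symm (hd.resolve_left hcd.symm)
        exact ⟨c, d', hd'.symm, Or.inl rfl, Or.inr hdO, e⟩
      rcases hd with rfl | hd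
      · obtain ⟨c', hc', hcO, e⟩ := hOmap t ht c hcd hc
        exact ⟨c', d, hc', Or.inr hcO, Or.inl rfl, by rw [S.τ_comm, e, S.τ_comm]⟩
      rcases eq_or_ne c ω with rfl | hcω
      · obtain ⟨d', hd', hdO, e⟩ := hOmap t ht d hcd.symm hd
        exact ⟨c, d', hd'.symm, Or.inl rfl, Or.inr hdO, e⟩
      rcases eq_or_ne d ω with rfl | hdω
      · obtain ⟨c', hc', hcO, e⟩ := hOmap t ht c hcd hc
        exact ⟨c', d, hc', Or.inr hcO, Or.inl rfl, by rw [S.τ_comm, e, S.τ_comm]⟩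
      obtain ⟨c', hc', hcO, ec⟩ := hOmap t ht c hcω hc
      obtain ⟨d', hd', hdO, ed⟩ := hOmap t ht d hdω hd
      have hne : c' ≠ d' := fun e => by
        subst e
        have h1 : S.τ ω c = S.τ ω d := mul_left_cancel (mul_right_cancel (ec.trans ed.symm))
        rcases S.τ_inj hcω.symm hdω.symm h1 with ⟨-, e⟩ | ⟨e, -⟩
        · exact hcd e
        · exact hdω e.symm
      refine ⟨c', d', hne, Or.inr hcO, Or.inr hdO, ?_⟩
      have e1 : S.τ c d = S.τ ω c * S.τ ω d * (S.τ ω c)⁻¹ := by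
        rw [S.τ_conj hcω.symm hdω.symm hT, Equiv.swap_apply_left,
          Equiv.swap_apply_of_ne_of_ne hdω hcd.symm]
      have e2 : S.τ c' d' = S.τ ω c' * S.τ ω d' * (S.τ ω c')⁻¹ := by
        rw [S.τ_conj hc'.symm hd'.symm hT, Equiv.swap_apply_left,
          Equiv.swap_apply_of_ne_of_ne hd' hne.symm]
      rw [e1, e2, ← ec, ← ed]; group
    let Y : Set H := {s | ∃ t ∈ (T : Subgroup H), ∃ r ∈ SO, t * r * t⁻¹ = s}
    have hYmem : ∀ {s}, s ∈ Y → S.Mem s → s ∈ SO := by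
      rintro _ ⟨t, ht, r, hr, rfl⟩ hm
      have hr' : S.Mem r := by
        obtain ⟨c, d, hcd, -, -, rfl⟩ := hr
        exact ⟨c, d, hcd, rfl⟩
      exact hSOinv t ⟨ht, hall_iff hr' hm⟩ r hr
    let H' : Subgroup H :=
      { carrier := {g | ∀ s, g * s * g⁻¹ ∈ Y ↔ s ∈ Y}
        one_mem' := fun s => by simp
        mul_mem' := fun {g k} hg hk s => by
          rw [show g * k * s * (g * k)⁻¹ = g * (k * s * k⁻¹) * g⁻¹ by group, hg, hk]
        inv_mem' := fun {g} hg s => by rw [← hg (g⁻¹ * s * g⁻¹⁻¹)]; group }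
    have hTH : (T : Subgroup H) ≤ H' := fun g hg s => by
      constructor
      · rintro ⟨t, ht, r, hr, e⟩
        refine ⟨g⁻¹ * t, mul_mem (inv_mem hg) ht, r, hr, ?_⟩
        calc g⁻¹ * t * r * (g⁻¹ * t)⁻¹ = g⁻¹ * (t * r * t⁻¹) * g := by group
          _ = g⁻¹ * (g * s * g⁻¹) * g := by rw [e]
          _ = s := by group
      · rintro ⟨t, ht, r, hr, rfl⟩
        exact ⟨g * t, mul_mem hg ht, r, hr, by group⟩
    have hx₀O : S.τ ω x₀ ∈ O := MulAction.mem_orbit_self _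
    have hs0 : S.τ ω x₀ ∈ H' := by
      have hsq := (S.τ_tv hx₀.symm).mul_self
      have hfwd : ∀ s ∈ Y, S.τ ω x₀ * s * (S.τ ω x₀)⁻¹ ∈ Y := by
        intro s hs
        by_cases hm : S.Mem s
        · obtain ⟨c, d, hcd, hc, hd, rfl⟩ := hYmem hs hm
          have hsw : ∀ c ∈ P, Equiv.swap ω x₀ c ∈ P := fun c hc => by
            rcases eq_or_ne c ω with rfl | h1
            · rw [Equiv.swap_apply_left]; exact Or.inr hx₀O
            rcases eq_or_ne c x₀ with rfl | h2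
            · rw [Equiv.swap_apply_right]; exact Or.inl rfl
            rwa [Equiv.swap_apply_of_ne_of_ne h1 h2]
          exact ⟨1, one_mem _, _, ⟨_, _, fun e => hcd ((Equiv.swap ω x₀).injective e), hsw c hc,
            hsw d hd, S.τ_conj hx₀.symm hcd hT⟩, by group⟩
        · have hsC : s ∈ Cls a := by
            obtain ⟨t, -, _, ⟨c, d, hcd, -, -, rfl⟩, rfl⟩ := hs
            exact conj_mem_Cls (S.τ_mem hcd) t
          rw [← S.outside_commute hT hS hsC hm ω x₀, mul_inv_cancel_right]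
          exact hs
      intro s
      refine ⟨fun hs => ?_, hfwd s⟩
      have := hfwd _ hs
      rwa [inv_eq_of_mul_eq_one_right hsq, ← mul_assoc, ← mul_assoc, hsq, one_mul, mul_assoc, hsq,
        mul_one] at this
    have hne : H' ≠ ⊤ := fun e => by
      obtain ⟨z, hz⟩ := S.τ_mem hy.symm
      obtain ⟨w, hw⟩ := S.τ_mem hx₀.symm
      have h0 : S.τ ω x₀ ∈ Y :=
        ⟨1, one_mem _, _, ⟨ω, x₀, hx₀.symm, Or.inl rfl, Or.inr hx₀O, rfl⟩, by group⟩
      have h1 : z * w⁻¹ * S.τ ω x₀ * (z * w⁻¹)⁻¹ ∈ Y := ((e.ge (mem_top (z * w⁻¹))) _).2 h0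
      rw [show z * w⁻¹ * S.τ ω x₀ * (z * w⁻¹)⁻¹ = S.τ ω y by rw [hw, hz]; group] at h1
      obtain ⟨c, d, hcd, hc, hd, e'⟩ := hYmem h1 ⟨ω, y, hy.symm, rfl⟩
      have hyP : y ∈ P := by
        rcases S.τ_inj hy.symm hcd e' with ⟨-, e2⟩ | ⟨-, e2⟩ <;> rw [e2] <;> assumption
      exact hyO (hyP.resolve_left hy)
    exact hstar x₀ hx₀ (h.le_Mx_of_ne_top hTH hne hs0)
  -- the degree
  haveI : Finite (ConjAct H) := Finite.of_equiv H ConjAct.toConjAct.toEquiv
  obtain ⟨k, hk⟩ : ∃ k, N = 2 ^ k + 1 := by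
    have hset : O = (fun x => S.τ ω x) '' {x | x ≠ ω} := by
      ext s
      refine ⟨fun hs => ?_, ?_⟩
      · obtain ⟨x, hx, rfl⟩ := hOstar hs; exact ⟨x, hx, rfl⟩
      · rintro ⟨x, hx, rfl⟩; exact hOfull x hx
    have hcard : O.ncard = N - 1 := by
      rw [hset, Set.InjOn.ncard_image, show {x | x ≠ ω} = ({ω} : Set (Fin N))ᶜ from rfl,
        Set.ncard_compl, Set.ncard_singleton, Nat.card_eq_fintype_card, Fintype.card_fin]
      intro x hx y hy e
      rcases S.τ_inj (Ne.symm hx) (Ne.symm hy) e with ⟨-, e'⟩ | ⟨e', -⟩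
      · exact e'
      · exact absurd e'.symm hy
    have hdvd : O.ncard ∣ Nat.card GC := by
      rw [hO, ← MulAction.index_stabilizer]; exact Subgroup.index_dvd_card _
    have hp : IsPGroup 2 GC := (T.isPGroup'.to_le (fun t ht => ht.1 : GT ≤ T)).map _
    obtain ⟨m, hm⟩ := hp.exists_card_eq
    rw [hm] at hdvd
    obtain ⟨k, -, hk⟩ := (Nat.dvd_prime_pow Nat.prime_two).1 hdvd
    refine ⟨k, ?_⟩
    have := S.three
    omega
  have hk1 : 1 ≤ k := Nat.one_le_iff_ne_zero.2 fun e => by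
    have := S.three
    rw [e, pow_zero] at hk
    omega
  refine ⟨S.grp, ⟨fun hle => hstar x₀ hx₀ (hle (S.τ_mem_grp ω x₀)), S.isMod h.hOp hT hS hk1 hk, ?_⟩,
    closure_mono fun s hs => S.mem_Cls hs⟩
  intro t ht hne
  have hno : ∀ c d, c ≠ d → ¬ S.Mem (t * S.τ c d * t⁻¹) := by
    intro c d hcd hm
    refine hne (eq_of_le_of_card_ge ?_ (card_cj t S.grp).ge)
    show S.grp.map _ ≤ _
    rw [Tsys.grp, MonoidHom.map_closure, closure_le]
    rintro _ ⟨r, hr, rfl⟩
    exact subset_closure ((hall_iff ⟨c, d, hcd, rfl⟩ hm r).2 hr)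
  let P0 : Subgroup H :=
    { carrier := {g | g ∈ centralizer (S.grp : Set H) ∧ ∀ v : V, dm g v ∈ fx S.grp}
      one_mem' := ⟨one_mem _, fun v => by rw [dm_apply, one_smul, sub_self]; exact zero_mem _⟩
      mul_mem' := fun {b c} hb hc => ⟨mul_mem hb.1 hc.1, fun v => by
        rw [dm_mul]
        exact add_mem (smul_mem_fx_of_commute (mem_centralizer_iff.1 hb.1) (hc.2 v)) (hb.2 v)⟩
      inv_mem' := fun {b} hb => ⟨inv_mem hb.1, fun v => by
        rw [dm_inv]
        exact neg_mem (smul_mem_fx_of_commute (mem_centralizer_iff.1 (inv_mem hb.1)) (hb.2 v))⟩ }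
  have hle : FFStruct.cj t S.grp ≤ P0 := by
    show S.grp.map _ ≤ _
    rw [Tsys.grp, MonoidHom.map_closure, closure_le]
    rintro _ ⟨r, ⟨c, d, hcd, rfl⟩, rfl⟩
    show t * S.τ c d * t⁻¹ ∈ P0
    have hC : t * S.τ c d * t⁻¹ ∈ Cls a := conj_mem_Cls (S.τ_mem hcd) t
    refine ⟨?_, fun v => S.mem_fx_grp.2 fun j => ?_⟩
    · have : S.grp ≤ centralizer ({t * S.τ c d * t⁻¹} : Set H) := (closure_le _).2 fun r hr => by
        obtain ⟨l, m, -, rfl⟩ := hr
        rw [SetLike.mem_coe, mem_centralizer_singleton_iff]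
        exact (S.outside_commute hT hS hC (hno c d hcd) l m).symm
      exact mem_centralizer_iff.2 fun g hg => mem_centralizer_singleton_iff.1 (this hg)
    · have := S.outside_dm hT hS hC (hno c d hcd) S.o j v
      rwa [AddMonoidHom.add_apply, S.go, AddMonoidHom.zero_apply, zero_add] at this
  exact ⟨fun g hg => (hle hg).1, cm_le_iff.2 fun g hg => (hle hg).2⟩

end Cfsg.Agent.FFStruct
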