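import Cfsg.Agent.FFStruct.Uniq
import Cfsg.Agent.FFStruct.TwoSeed

/-!
# The structure of a `p`-minimal group with an offender
-/

set_option autoImplicit false
set_option linter.unusedSectionVars false
set_option linter.style.haveILetI false

namespace Cfsg.Agent.FFStruct

open Subgroup
open scoped Pointwise

variable {H : Type*} [Group H] {V : Type*} [AddCommGroup V] [DistribMulAction H V]
variable [Finite H] [Finite V] [FaithfulSMul H V] {p : ℕ} [Fact p.Prime]

/-- A minimal offender inside an offender. -/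
theorem exists_moff {B : Subgroup H} (hB : Cfsg.IsElementaryAbelian p B) (hne : B ≠ ⊥)
    (hb : Nat.card V ≤ Nat.card B * Nat.card (fx (V := V) B)) : ∃ A ≤ B, MOff V p A := by
  obtain ⟨A, ⟨hAB, hA0, hAb⟩, hmin⟩ := Set.exists_min_image
    {A : Subgroup H | A ≤ B ∧ A ≠ ⊥ ∧ Nat.card V ≤ Nat.card A * Nat.card (fx (V := V) A)}
    (fun A => Nat.card A) (Set.toFinite _) ⟨B, le_rfl, hne, hb⟩
  refine ⟨A, hAB, Thompson.ea_mono hB hAB, hA0, hAb, fun C hC hC0 hCA => ?_⟩
  by_contra hlt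
  exact hCA (eq_of_le_of_card_ge hC (hmin C ⟨hC.trans hAB, hC0, not_lt.1 hlt⟩))

theorem Amb.exists_seed (h : Amb H V p) (T : Sylow p H) {A : Subgroup H} (hA : MOff V p A) :
    ∃ L : Subgroup H, Seed V p (T : Subgroup H) (h.Mx T) L ∧ L ≤ normalClosure (A : Set H) := by
  obtain ⟨S, x, hAS, hxS, P⟩ := h.moff_pair hA
  obtain ⟨L, hL, hLA⟩ : ∃ L : Subgroup H,
      Seed V p (S : Subgroup H) (h.Mx S) L ∧ L ≤ normalClosure (A : Set H) := by
    by_cases hq : 2 < Nat.card A
    · refine ⟨_, h.seed_of_pair hA hq hAS hxS P, sup_le subset_normalClosure ?_⟩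
      rintro _ ⟨b, hb, rfl⟩
      exact normalClosure_normal.conj_mem b (subset_normalClosure hb) x
    obtain ⟨n, hn⟩ := (Thompson.ea_isPGroup hA.ea).exists_card_eq
    have h1 : Nat.card A ≠ 1 := fun e => hA.ne (Subgroup.eq_bot_of_card_eq A e)
    have h0 : 0 < Nat.card A := Nat.card_pos
    have hq2 : Nat.card A = 2 := by omega
    have hp2 : p = 2 := by
      have hdvd : p ∣ 2 := by
        rw [← hq2, hn]
        refine dvd_pow_self p fun e => ?_
        rw [e, pow_zero] at hn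
        exact h1 hn
      exact (Nat.prime_dvd_prime_iff_eq Fact.out Nat.prime_two).1 hdvd
    letI : Module (ZMod 2) V := AddCommGroup.zmodModule (fun v => hp2 ▸ h.hp v)
    obtain ⟨a, rfl, hT⟩ := h.twoH hA hq2
    obtain ⟨L, hL, hLc⟩ := h.seed_two hp2 hA hT (T := S) ⟨x * a * x⁻¹, ⟨x, rfl⟩, fun hm => hxS (by
      rw [show FFStruct.cj x (zpowers a) = zpowers (x * a * x⁻¹) from MonoidHom.map_zpowers _ _]
      exact zpowers_le.2 hm)⟩
    refine ⟨L, hL, hLc.trans ((closure_le _).2 ?_)⟩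
    rintro _ ⟨z, rfl⟩
    exact normalClosure_normal.conj_mem a (subset_normalClosure (mem_zpowers a)) z
  obtain ⟨g, rfl⟩ := MulAction.exists_smul_eq H S T
  refine ⟨FFStruct.cj g L, ?_, ?_⟩
  · rw [h.Mx_smul, Sylow.coe_subgroup_smul]
    exact hL.cj g
  · rintro _ ⟨b, hb, rfl⟩
    exact normalClosure_normal.conj_mem b (hLA hb) g

theorem Amb.hasSys_of_offender (h : Amb H V p) (T : Sylow p H) {B : Subgroup H}
    (hB : Cfsg.IsElementaryAbelian p B) (hne : B ≠ ⊥)
    (hb : Nat.card V ≤ Nat.card B * Nat.card (fx (V := V) B)) : HasSys V p (T : Subgroup H) := by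
  obtain ⟨A, -, hA⟩ := exists_moff hB hne hb
  obtain ⟨L, hL, -⟩ := h.exists_seed T hA
  exact h.hasSys T hL

end Cfsg.Agent.FFStruct
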