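import Cfsg.Agent.FFStruct.Clique
import Mathlib.Data.ZMod.Basic
import Mathlib.Algebra.Module.ZMod
import Mathlib.Algebra.CharP.Two

/-!
# A class of transvections over `𝔽₂`
-/

set_option autoImplicit false
set_option linter.unusedSectionVars false
set_option linter.style.haveILetI false

namespace Cfsg.Agent.FFStruct

open Subgroup
open scoped Pointwise

variable {H : Type*} [Group H] {V : Type*} [AddCommGroup V] [DistribMulAction H V]
variable [Module (ZMod 2) V]

theorem z2_cases : ∀ c : ZMod 2, c = 0 ∨ c = 1 := by decide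

theorem z2_add_self (c : ZMod 2) : c + c = 0 := CharTwo.add_self_eq_zero c

theorem v_add_self (v : V) : v + v = 0 := by
  rw [← two_smul (ZMod 2) v, show (2 : ZMod 2) = 0 from rfl, zero_smul]

theorem f_add_self (f : V →+ ZMod 2) : f + f = 0 := AddMonoidHom.ext fun _ => z2_add_self _

theorem v_neg (v : V) : -v = v := neg_eq_of_add_eq_zero_left (v_add_self v)

theorem smul_z2 (s : H) (c : ZMod 2) (v : V) : s • c • v = c • s • v := by
  rcases z2_cases c with rfl | rfl <;> simp

theorem hom_smul_z2 (f : V →+ ZMod 2) (c : ZMod 2) (v : V) : f (c • v) = c * f v := by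
  rcases z2_cases c with rfl | rfl <;> simp

/-- `s` acts as the transvection with centre `i` and axis the kernel of `f`. -/
structure Tv (s : H) (i : V) (f : V →+ ZMod 2) : Prop where
  act : ∀ v, s • v = v + f v • i
  fi : f i = 0
  ne : i ≠ 0
  surj : ∃ v, f v = 1

namespace Tv

variable {s r : H} {i j : V} {f g : V →+ ZMod 2}

theorem dm_eq (hs : Tv s i f) (v : V) : dm s v = f v • i := by
  rw [dm_apply, hs.act, add_sub_cancel_left]

theorem smul_smul_self (hs : Tv s i f) (v : V) : s • s • v = v := by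
  rw [hs.act (s • v), hs.act v, map_add, hom_smul_z2, hs.fi, mul_zero, add_zero, add_assoc,
    v_add_self, add_zero]

theorem inv_act (hs : Tv s i f) (v : V) : s⁻¹ • v = s • v := by
  rw [inv_smul_eq_iff, hs.smul_smul_self]

theorem unique (hs : Tv s i f) (hs' : Tv s j g) : i = j ∧ f = g := by
  have e : ∀ v, f v • i = g v • j := fun v => by rw [← hs.dm_eq, ← hs'.dm_eq]
  have hfg : f = g := by
    refine AddMonoidHom.ext fun v => ?_
    have := e v
    rcases z2_cases (f v) with h1 | h1 <;> rcases z2_cases (g v) with h2 | h2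
    · rw [h1, h2]
    · rw [h1, h2, zero_smul, one_smul] at this; exact absurd this.symm hs'.ne
    · rw [h1, h2, zero_smul, one_smul] at this; exact absurd this hs.ne
    · rw [h1, h2]
  refine ⟨?_, hfg⟩
  obtain ⟨v, hv⟩ := hs.surj
  have := e v
  rw [← hfg, hv, one_smul, one_smul] at this
  exact this

theorem eq_of [FaithfulSMul H V] (hs : Tv s i f) (hr : Tv r i f) : s = r :=
  eq_of_smul_eq_smul (α := V) fun v => by rw [hs.act, hr.act]

theorem conjH (hs : Tv s i f) (x : H) :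
    Tv (x * s * x⁻¹) (x • i) (f.comp (DistribSMul.toAddMonoidHom V x⁻¹)) where
  act v := by
    show (x * s * x⁻¹) • v = v + f (x⁻¹ • v) • x • i
    rw [mul_smul, mul_smul, hs.act, smul_add, smul_inv_smul, smul_z2]
  fi := by show f (x⁻¹ • x • i) = 0; rw [inv_smul_smul, hs.fi]
  ne := fun e => hs.ne (by rw [← inv_smul_smul x i, e, smul_zero])
  surj := by
    obtain ⟨v, hv⟩ := hs.surj
    exact ⟨x • v, by show f (x⁻¹ • x • v) = 1; rw [inv_smul_smul, hv]⟩

/-- The conjugate of a transvection by another. -/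
theorem conjTv (hs : Tv s i f) (hr : Tv r j g) :
    Tv (r * s * r⁻¹) (i + g i • j) (f + f j • g) := by
  have h := hs.conjH r
  have e1 : r • i = i + g i • j := hr.act i
  have e2 : f.comp (DistribSMul.toAddMonoidHom V r⁻¹) = f + f j • g := by
    refine AddMonoidHom.ext fun v => ?_
    show f (r⁻¹ • v) = f v + f j * g v
    rw [hr.inv_act, hr.act, map_add, hom_smul_z2, mul_comm]
  rwa [e1, e2] at h

theorem commute [FaithfulSMul H V] (hs : Tv s i f) (hr : Tv r j g) (h1 : f j = 0) (h2 : g i = 0) :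
    r * s = s * r := by
  have h := hs.conjTv hr
  rw [h1, h2, zero_smul, zero_smul, add_zero, add_zero] at h
  exact mul_inv_eq_iff_eq_mul.1 (h.eq_of hs)

theorem mem_fx_zpowers (hs : Tv s i f) {v : V} : v ∈ fx (zpowers s) ↔ f v = 0 := by
  constructor
  · intro hv
    have h := dm_eq_zero.2 (hv s (mem_zpowers s))
    rw [hs.dm_eq] at h
    rcases z2_cases (f v) with h1 | h1
    · exact h1
    · rw [h1, one_smul] at h; exact absurd h hs.ne
  · intro hv
    rw [mem_fx_iff_le_stabV, zpowers_le, mem_stabV, hs.act, hv, zero_smul, add_zero]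

end Tv

/-- The class of an element. -/
def Cls (a : H) : Set H := {s | ∃ x : H, s = x * a * x⁻¹}

theorem conj_mem_Cls {a s : H} (hs : s ∈ Cls a) (x : H) : x * s * x⁻¹ ∈ Cls a := by
  obtain ⟨y, rfl⟩ := hs
  exact ⟨x * y, by group⟩

theorem exists_sep {g h : V →+ ZMod 2} (hg : g ≠ 0) (hh : h ≠ 0) (hne : g ≠ h) :
    ∃ v, g v = 1 ∧ h v = 0 := by
  by_contra hcon
  push Not at hcon
  obtain ⟨u, hu⟩ : ∃ u, g u ≠ h u := by
    by_contra hc
    push Not at hc
    exact hne (AddMonoidHom.ext hc)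
  obtain ⟨w, hw⟩ : ∃ w, g w ≠ 0 := by
    by_contra hc
    push Not at hc
    exact hg (AddMonoidHom.ext hc)
  have hw1 : g w = 1 := (z2_cases _).resolve_left hw
  have hw2 : h w = 1 := (z2_cases _).resolve_left (hcon w hw1)
  rcases z2_cases (g u) with h0 | h0
  · have hu1 : h u = 1 := (z2_cases _).resolve_left fun e => hu (h0.trans e.symm)
    exact hcon (w + u) (by rw [map_add, hw1, h0, add_zero]) (by rw [map_add, hw2, hu1, z2_add_self])
  · exact hu (h0.trans ((z2_cases _).resolve_left (hcon u h0)).symm)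

theorem exists_dual {f g h : V →+ ZMod 2} (hg : g ≠ 0) (hh : h ≠ 0) (hgh : g ≠ h) (h0 : f ≠ 0)
    (h1 : f ≠ g) (h2 : f ≠ h) (h3 : f ≠ g + h) : ∃ v, f v = 1 ∧ g v = 0 ∧ h v = 0 := by
  by_contra hcon
  push Not at hcon
  obtain ⟨a, ha, ha'⟩ := exists_sep hg hh hgh
  obtain ⟨b, hb, hb'⟩ := exists_sep hh hg hgh.symm
  have key : ∀ v, f v = f a * g v + f b * h v := by
    intro v
    have hw := hcon (v + g v • a + h v • b)
    simp only [map_add, hom_smul_z2, ha, ha', hb, hb', mul_one, mul_zero, add_zero,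
      z2_add_self, ne_eq, not_true_eq_false, imp_false] at hw
    have hw' := (z2_cases _).resolve_right hw
    rw [CharTwo.add_eq_zero] at hw'
    rw [mul_comm (f a), mul_comm (f b)]
    have : f v + g v * f a = h v * f b := hw'
    rw [← this, add_comm (f v), ← add_assoc, z2_add_self, zero_add]
  rcases z2_cases (f a) with e1 | e1 <;> rcases z2_cases (f b) with e2 | e2
  · exact h0 (AddMonoidHom.ext fun v => by rw [key, e1, e2]; simp)
  · exact h2 (AddMonoidHom.ext fun v => by rw [key, e1, e2]; simp)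
  · exact h1 (AddMonoidHom.ext fun v => by rw [key, e1, e2]; simp)
  · exact h3 (AddMonoidHom.ext fun v => by rw [key, e1, e2]; simp)

variable (V) in
/-- What the offender axioms say about the class. -/
structure TwoH (a : H) : Prop where
  tv : ∀ s ∈ Cls a, ∃ (i : V) (f : V →+ ZMod 2), Tv s i f
  finj : ∀ {s r : H} {i j : V} {f : V →+ ZMod 2}, s ∈ Cls a → r ∈ Cls a →
    Tv s i f → Tv r j f → s = r
  sym : ∀ {s r : H} {i j : V} {f g : V →+ ZMod 2}, s ∈ Cls a → r ∈ Cls a →
    Tv s i f → Tv r j g → f j = g i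
  nbr : ∀ {s : H} {i : V} {f : V →+ ZMod 2}, s ∈ Cls a → Tv s i f →
    ∃ r ∈ Cls a, ∃ (j : V) (g : V →+ ZMod 2), Tv r j g ∧ g i = 1
  iinj : ∀ {s r : H} {i : V} {f g : V →+ ZMod 2}, s ∈ Cls a → r ∈ Cls a →
    Tv s i f → Tv r i g → f = g
  no4 : ∀ (t : Fin 4 → H) (i : Fin 4 → V) (f : Fin 4 → (V →+ ZMod 2)),
    (∀ k, t k ∈ Cls a ∧ Tv (t k) (i k) (f k)) → (∀ k l, f k (i l) = 0) →
    Function.Injective f → f 3 = f 0 + f 1 + f 2 → False

variable [Finite H] [Finite V] [FaithfulSMul H V] {p : ℕ} [Fact p.Prime]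

theorem card_le_two_mul (f : V →+ ZMod 2) : Nat.card V ≤ 2 * Nat.card f.ker := by
  have e := AddSubgroup.card_eq_card_quotient_mul_card_addSubgroup f.ker
  rw [Nat.card_congr (QuotientAddGroup.quotientKerEquivRange f).toEquiv] at e
  rw [e]
  refine Nat.mul_le_mul_right _ ?_
  exact (Nat.card_le_card_of_injective Subtype.val Subtype.val_injective).trans (Nat.card_zmod 2).le

theorem dm_pow_val {s : H} {i : V} {f : V →+ ZMod 2} (hs : Tv s i f) (c : ZMod 2) (v : V) :
    dm (s ^ c.val) v = (c * f v) • i := by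
  rcases z2_cases c with rfl | rfl
  · rw [show (0 : ZMod 2).val = 0 from rfl, pow_zero, zero_mul, zero_smul, dm_apply, one_smul, sub_self]
  · rw [show (1 : ZMod 2).val = 1 from rfl, pow_one, one_mul, hs.dm_eq]

theorem Amb.twoH (h : Amb H V p) {A : Subgroup H} (hA : MOff V p A) (hq : Nat.card A = 2) :
    ∃ a : H, A = zpowers a ∧ TwoH V a := by
  classical
  obtain ⟨a, ha, ha1⟩ := SetLike.exists_of_lt (bot_lt_iff_ne_bot.2 hA.ne)
  have hz : A = zpowers a := by
    refine (eq_of_le_of_card_ge (zpowers_le.2 ha) ?_).symm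
    rw [hq, Nat.card_zpowers]
    have h0 : orderOf a ≠ 1 := fun e => ha1 (mem_bot.2 (orderOf_eq_one_iff.1 e))
    have := orderOf_pos a
    omega
  subst hz
  refine ⟨a, rfl, ?_⟩
  have hm : ∀ s ∈ Cls a, MOff V p (zpowers s) := by
    rintro _ ⟨x, rfl⟩
    have := hA.cj x
    rwa [show FFStruct.cj x (zpowers a) = zpowers (x * a * x⁻¹) from MonoidHom.map_zpowers _ _] at this
  have hexact := h.moff_exact hA
  rw [hq] at hexact
  set W : AddSubgroup V := fx (zpowers a) with hW
  have hW2 : W.index = 2 := by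
    have e := W.card_mul_index
    rw [← hexact, mul_comm 2] at e
    exact Nat.eq_of_mul_eq_mul_left Nat.card_pos e
  have hadd : ∀ {u v : V}, u + v ∈ W ↔ (u ∈ W ↔ v ∈ W) := AddSubgroup.add_mem_iff_of_index_two hW2
  obtain ⟨v₁, hv₁⟩ : ∃ v₁, v₁ ∉ W := by
    by_contra hcon
    push Not at hcon
    rw [show W = ⊤ from eq_top_iff.2 fun v _ => hcon v, AddSubgroup.index_top] at hW2
    omega
  have hsq : ∀ v : V, v ∈ W ↔ a • v = v := fun v => by
    rw [hW, mem_fx_iff_le_stabV, zpowers_le, mem_stabV]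
  let f0 : V →+ ZMod 2 := AddMonoidHom.mk' (fun v => if v ∈ W then 0 else 1) fun u v => by
    by_cases hu : u ∈ W <;> by_cases hv : v ∈ W <;> simp [hadd, hu, hv]
    decide
  have hf0 : ∀ v, v ∈ W → f0 v = 0 := fun v hv => if_pos hv
  have hf1 : ∀ v, v ∉ W → f0 v = 1 := fun v hv => if_neg hv
  have htva : Tv a (dm a v₁) f0 := by
    refine ⟨fun v => ?_, hf0 _ (h.quad hA ha v₁), fun e => hv₁ ((hsq _).2 (dm_eq_zero.1 e)), v₁, hf1 _ hv₁⟩
    rw [show a • v = dm a v + v from (sub_add_cancel _ _).symm, add_comm]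
    congr 1
    by_cases hv : v ∈ W
    · rw [hf0 v hv, zero_smul, dm_eq_zero.2 ((hsq v).1 hv)]
    · rw [hf1 v hv, one_smul]
      have h3 : dm a (v + v₁) = 0 := dm_eq_zero.2 ((hsq _).1 (hadd.2 (iff_of_false hv hv₁)))
      rw [map_add] at h3
      rw [← v_neg (dm a v₁)]
      exact eq_neg_of_add_eq_zero_left h3
  have htv : ∀ s ∈ Cls a, ∃ (i : V) (f : V →+ ZMod 2), Tv s i f := by
    rintro _ ⟨x, rfl⟩
    exact ⟨_, _, htva.conjH x⟩
  have hfinj : ∀ {s r : H} {i j : V} {f : V →+ ZMod 2}, s ∈ Cls a → r ∈ Cls a →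
      Tv s i f → Tv r j f → s = r := by
    intro s r i j f hs hr ts tr
    have e : zpowers s = zpowers r := h.eq_of_fx_eq (hm s hs) (hm r hr) (by
      ext v; rw [ts.mem_fx_zpowers, tr.mem_fx_zpowers])
    obtain ⟨k, hk⟩ := mem_zpowers_iff.1 (e.le (mem_zpowers s))
    rcases Int.even_or_odd k with ⟨m, rfl⟩ | ⟨m, rfl⟩
    · exfalso
      obtain ⟨v, hv⟩ := ts.surj
      have h2 : r * r = 1 := eq_one_of_dm (V := V) fun w => dm_eq_zero.2 (by
        rw [mul_smul, tr.smul_smul_self])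
      have h3 : s = 1 := by
        rw [← hk, show r ^ (m + m) = (r * r) ^ m by rw [(Commute.refl r).mul_zpow, zpow_add], h2,
          one_zpow]
      have h4 := ts.dm_eq v
      rw [h3, hv, one_smul, dm_apply, one_smul, sub_self] at h4
      exact ts.ne h4.symm
    · have h2 : r * r = 1 := eq_one_of_dm (V := V) fun w => dm_eq_zero.2 (by
        rw [mul_smul, tr.smul_smul_self])
      rw [← hk, zpow_add_one, two_mul, zpow_add, ← (Commute.refl r).mul_zpow, h2, one_zpow, one_mul]
  have hsym : ∀ {s r : H} {i j : V} {f g : V →+ ZMod 2}, s ∈ Cls a → r ∈ Cls a →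
      Tv s i f → Tv r j g → f j = g i := by
    have key : ∀ {s r : H} {i j : V} {f g : V →+ ZMod 2}, s ∈ Cls a → r ∈ Cls a →
        Tv s i f → Tv r j g → g i = 0 → f j = 0 := by
      intro s r i j f g hs hr ts tr hgi
      refine (z2_cases _).resolve_right fun hfj => ?_
      have h1 := tr.conjTv ts
      rw [hgi, zero_smul, add_zero, hfj, one_smul] at h1
      have h2 := hfinj (conj_mem_Cls hr s) hr h1 tr
      rw [h2] at h1
      exact ts.ne (add_eq_left.1 (h1.unique tr).1)
    intro s r i j f g hs hr ts tr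
    rcases z2_cases (f j) with e | e <;> rcases z2_cases (g i) with e' | e'
    · rw [e, e']
    · rw [e, key hr hs tr ts e]
    · rw [e', key hs hr ts tr e']
    · rw [e, e']
  obtain ⟨S, x, -, -, hP⟩ := h.moff_pair hA
  have htvb := htva.conjH x
  have hnb : (f0.comp (DistribSMul.toAddMonoidHom V x⁻¹)) (dm a v₁) = 1 := by
    refine (z2_cases _).resolve_left fun e => ?_
    refine hv₁ (hP.reg a ha (fun e' => ha1 (mem_bot.2 e')) v₁ ?_)
    rw [fx_sup]
    refine ⟨h.quad hA ha v₁, ?_⟩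
    show dm a v₁ ∈ fx (V := V) (FFStruct.cj x (zpowers a))
    rw [show FFStruct.cj x (zpowers a) = zpowers (x * a * x⁻¹) from MonoidHom.map_zpowers _ _,
      htvb.mem_fx_zpowers]
    exact e
  have hnbr : ∀ {s : H} {i : V} {f : V →+ ZMod 2}, s ∈ Cls a → Tv s i f →
      ∃ r ∈ Cls a, ∃ (j : V) (g : V →+ ZMod 2), Tv r j g ∧ g i = 1 := by
    rintro s i f ⟨y, rfl⟩ ts
    refine ⟨y * (x * a * x⁻¹) * y⁻¹, conj_mem_Cls ⟨x, rfl⟩ y, _, _, htvb.conjH y, ?_⟩
    rw [(ts.unique (htva.conjH y)).1]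
    show f0 (x⁻¹ • y⁻¹ • y • dm a v₁) = 1
    rw [inv_smul_smul]
    exact hnb
  have hsmul_stb : ∀ {s : H} {i : V} {f : V →+ ZMod 2} {D : AddSubgroup V}, Tv s i f →
      (∀ v ∈ D, f v = 0) → i ∈ D → s ∈ stb (H := H) D := fun {s i f D} ts hD hi =>
    ⟨fun v hv => by rw [ts.act, hD v hv, zero_smul, add_zero], fun v => by
      rw [ts.dm_eq]
      rcases z2_cases (f v) with e | e <;> rw [e]
      · rw [zero_smul]; exact AddSubgroup.zero_mem _
      · rw [one_smul]; exact hi⟩
  have hiinj : ∀ {s r : H} {i : V} {f g : V →+ ZMod 2}, s ∈ Cls a → r ∈ Cls a →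
      Tv s i f → Tv r i g → f = g := by
    intro s r i f g hs hr ts tr
    by_contra hne
    obtain ⟨q, hq', j, k, tq, hki⟩ := hnbr hs ts
    set d := f + g with hd
    have hdi : d i = 0 := by rw [hd, AddMonoidHom.add_apply, ts.fi, tr.fi, add_zero]
    have hdj : d j = 0 := by
      rw [hd, AddMonoidHom.add_apply, hsym hs hq' ts tq, hsym hr hq' tr tq, z2_add_self]
    have hd0 : d ≠ 0 := fun e => hne (by
      rw [← add_zero f, ← f_add_self g, ← add_assoc, ← hd, e, zero_add])
    obtain ⟨v, hv⟩ : ∃ v, d v = 1 := by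
      by_contra hc
      push Not at hc
      exact hd0 (AddMonoidHom.ext fun v => (z2_cases _).resolve_right (hc v))
    have te1 : Tv (s * r) i d := by
      refine ⟨fun w => ?_, hdi, ts.ne, v, hv⟩
      rw [mul_smul, tr.act, smul_add, smul_z2, ts.act w, ts.act i, ts.fi, zero_smul, add_zero,
        hd, AddMonoidHom.add_apply, add_smul, add_assoc]
    have te2 := te1.conjTv tq
    rw [hki, one_smul, hdj, zero_smul, add_zero] at te2
    have h1 : s * r ∈ stb (H := H) d.ker := hsmul_stb te1 (fun v hv => hv) hdi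
    have h2 : q * (s * r) * q⁻¹ ∈ stb (H := H) d.ker :=
      hsmul_stb te2 (fun v hv => hv) (by show d (i + j) = 0; rw [map_add, hdi, hdj, add_zero])
    have h3 : 3 ≤ Nat.card (stb (H := H) d.ker) := by
      have hsub : ({1, s * r, q * (s * r) * q⁻¹} : Finset H) ⊆ (stb (H := H) d.ker : Set H).toFinite.toFinset := by
        intro w hw
        rw [Set.Finite.mem_toFinset]
        simp only [Finset.mem_insert, Finset.mem_singleton] at hw
        rcases hw with rfl | rfl | rfl
        · exact one_mem _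
        · exact h1
        · exact h2
      have := Finset.card_le_card hsub
      rw [← Set.ncard_eq_toFinset_card, ← Nat.card_coe_set_eq] at this
      refine le_trans (le_of_eq ?_) this
      have n1 : ∀ {z : H} {w : V} {e : V →+ ZMod 2}, Tv z w e → (1 : H) ≠ z := by
        intro z w e tz hz
        obtain ⟨v', hv'⟩ := tz.surj
        have := tz.dm_eq v'
        rw [← hz, hv', one_smul, dm_apply, one_smul, sub_self] at this
        exact tz.ne this.symm
      rw [Finset.card_eq_three.2 ⟨_, _, _, n1 te1, n1 te2, fun e => ?_, rfl⟩]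
      rw [← e] at te2
      exact tq.ne (add_eq_left.1 (te2.unique te1).1)
    have h4 := (Nat.mul_le_mul_left _ (card_le_of_le_add (le_fx_stb (H := H) d.ker))).trans
      (h.card_mul_fx_le (ea_stb (H := H) h.hp d.ker))
    have h5 := Nat.mul_le_mul_right (Nat.card d.ker) h3
    have h6 : 0 < Nat.card d.ker := Nat.card_pos
    have := card_le_two_mul d
    omega
  refine ⟨htv, hfinj, hsym, hnbr, hiinj, fun t i f ht hperp hinj h3eq => ?_⟩
  have hne0 : ∀ k, f k ≠ 0 := fun k e => by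
    obtain ⟨v, hv⟩ := (ht k).2.surj
    rw [e] at hv
    exact zero_ne_one hv
  have h3 : ∀ v, f 3 v = f 0 v + f 1 v + f 2 v := fun v => by rw [h3eq]; rfl
  have hadd3 : ∀ (x y z : Fin 4), f x = f y + f z →
      (x = 0 ∧ y = 1 ∧ z = 2) ∨ (x = 1 ∧ y = 0 ∧ z = 2) ∨ (x = 2 ∧ y = 0 ∧ z = 1) → False := by
    intro x y z e hxyz
    refine hne0 3 (h3eq.trans ?_)
    rcases hxyz with ⟨rfl, rfl, rfl⟩ | ⟨rfl, rfl, rfl⟩ | ⟨rfl, rfl, rfl⟩
    · rw [e, add_assoc (f 1 + f 2)]; exact f_add_self _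
    · rw [e, show f 0 + (f 0 + f 2) + f 2 = (f 0 + f 0) + (f 2 + f 2) by abel, f_add_self, f_add_self,
        add_zero]
    · rw [e]; exact f_add_self _
  have hd : ∀ {x y : Fin 4}, x ≠ y → f x ≠ f y := fun hxy e => hxy (hinj e)
  obtain ⟨w0, h00, h01, h02⟩ := exists_dual (hne0 1) (hne0 2) (hd (by decide)) (hne0 0)
    (hd (by decide)) (hd (by decide)) (fun e => hadd3 0 1 2 e (Or.inl ⟨rfl, rfl, rfl⟩))
  obtain ⟨w1, h11, h10, h12⟩ := exists_dual (hne0 0) (hne0 2) (hd (by decide)) (hne0 1)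
    (hd (by decide)) (hd (by decide)) (fun e => hadd3 1 0 2 e (Or.inr (Or.inl ⟨rfl, rfl, rfl⟩)))
  obtain ⟨w2, h22, h20, h21⟩ := exists_dual (hne0 0) (hne0 1) (hd (by decide)) (hne0 2)
    (hd (by decide)) (hd (by decide)) (fun e => hadd3 2 0 1 e (Or.inr (Or.inr ⟨rfl, rfl, rfl⟩)))
  set D : AddSubgroup V := ((f 0).ker ⊓ (f 1).ker) ⊓ (f 2).ker with hD
  have htD : ∀ k, t k ∈ stb (H := H) D := by
    intro k
    refine hsmul_stb (ht k).2 (fun v hv => ?_) ⟨⟨hperp 0 k, hperp 1 k⟩, hperp 2 k⟩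
    obtain ⟨⟨e0, e1⟩, e2⟩ := hv
    fin_cases k
    · exact e0
    · exact e1
    · exact e2
    · show f 3 v = 0
      rw [h3, (e0 : f 0 v = 0), (e1 : f 1 v = 0), (e2 : f 2 v = 0)]; simp
  let X : ZMod 2 × ZMod 2 × ZMod 2 × ZMod 2 → stb (H := H) D := fun e =>
    ⟨t 0 ^ e.1.val * t 1 ^ e.2.1.val * t 2 ^ e.2.2.1.val * t 3 ^ e.2.2.2.val,
      mul_mem (mul_mem (mul_mem (pow_mem (htD 0) _) (pow_mem (htD 1) _)) (pow_mem (htD 2) _))
        (pow_mem (htD 3) _)⟩
  have hXd : ∀ e (v : V), dm (X e : H) v =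
      (e.1 * f 0 v) • i 0 + (e.2.1 * f 1 v) • i 1 + (e.2.2.1 * f 2 v) • i 2 + (e.2.2.2 * f 3 v) • i 3 := by
    intro e v
    show dm (t 0 ^ _ * t 1 ^ _ * t 2 ^ _ * t 3 ^ _) v = _
    rw [dm_mul_stb (mul_mem (mul_mem (pow_mem (htD 0) _) (pow_mem (htD 1) _)) (pow_mem (htD 2) _))
        (pow_mem (htD 3) _),
      dm_mul_stb (mul_mem (pow_mem (htD 0) _) (pow_mem (htD 1) _)) (pow_mem (htD 2) _),
      dm_mul_stb (pow_mem (htD 0) _) (pow_mem (htD 1) _), dm_pow_val (ht 0).2, dm_pow_val (ht 1).2,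
      dm_pow_val (ht 2).2, dm_pow_val (ht 3).2]
    abel
  have hXinj : Function.Injective X := by
    rintro ⟨a0, a1, a2, a3⟩ ⟨b0, b1, b2, b3⟩ e
    have hv : ∀ v : V, dm ((X (a0, a1, a2, a3)) : H) v = dm ((X (b0, b1, b2, b3)) : H) v :=
      fun v => by rw [e]
    have e0 := hv w0
    have e1 := hv w1
    have e2 := hv w2
    simp only [hXd, h3, h00, h01, h02, h10, h11, h12, h20, h21, h22, mul_one, mul_zero, add_zero,
      zero_add, zero_smul] at e0 e1 e2
    have key : ∀ (c d c' d' : ZMod 2) (k : Fin 4), k ≠ 3 →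
        c • i k + c' • i 3 = d • i k + d' • i 3 → c = d ∧ c' = d' := by
      intro c d c' d' k hk e
      have hne : i k ≠ i 3 := fun e' => hk (hinj (hiinj (ht k).1 (ht 3).1 (ht k).2 (e' ▸ (ht 3).2)))
      have hk0 := (ht k).2.ne
      have h30 := (ht 3).2.ne
      have e' : (c + d) • i k + (c' + d') • i 3 = 0 := by
        rw [add_smul, add_smul, show c • i k + d • i k + (c' • i 3 + d' • i 3) =
          (c • i k + c' • i 3) + (d • i k + d' • i 3) by abel, e, v_add_self]
      rcases z2_cases (c + d) with h1 | h1 <;> rcases z2_cases (c' + d') with h2 | h2 <;>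
        rw [h1, h2] at e'
      · exact ⟨CharTwo.add_eq_zero.1 h1, CharTwo.add_eq_zero.1 h2⟩
      · rw [zero_smul, one_smul, zero_add] at e'; exact absurd e' h30
      · rw [zero_smul, one_smul, add_zero] at e'; exact absurd e' hk0
      · rw [one_smul, one_smul] at e'
        exact absurd (by rw [eq_neg_of_add_eq_zero_left e', v_neg]) hne
    obtain ⟨r0, r3⟩ := key _ _ _ _ 0 (by decide) e0
    obtain ⟨r1, -⟩ := key _ _ _ _ 1 (by decide) e1
    obtain ⟨r2, -⟩ := key _ _ _ _ 2 (by decide) e2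
    simp [r0, r1, r2, r3]
  have h16 := Nat.card_le_card_of_injective X hXinj
  rw [Nat.card_prod, Nat.card_prod, Nat.card_prod, Nat.card_zmod] at h16
  have hV8 : Nat.card V ≤ 8 * Nat.card D := by
    let Φ : V → D × ZMod 2 × ZMod 2 × ZMod 2 := fun v =>
      (⟨v + f 0 v • w0 + f 1 v • w1 + f 2 v • w2, ⟨⟨by
          show f 0 _ = 0
          simp [map_add, hom_smul_z2, h00, h10, h20, z2_add_self], by
          show f 1 _ = 0
          simp [map_add, hom_smul_z2, h01, h11, h21, z2_add_self]⟩, by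
          show f 2 _ = 0
          simp [map_add, hom_smul_z2, h02, h12, h22, z2_add_self]⟩⟩, f 0 v, f 1 v, f 2 v)
    have hΦ : Function.Injective Φ := by
      intro u v e
      obtain ⟨e', e''⟩ := Prod.ext_iff.1 e
      obtain ⟨e0, e''⟩ := Prod.ext_iff.1 e''
      obtain ⟨e1, e2⟩ := Prod.ext_iff.1 e''
      have e : u + f 0 u • w0 + f 1 u • w1 + f 2 u • w2 =
          v + f 0 v • w0 + f 1 v • w1 + f 2 v • w2 := congrArg Subtype.val e'
      have e0' : f 0 u = f 0 v := e0
      have e1' : f 1 u = f 1 v := e1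
      have e2' : f 2 u = f 2 v := e2
      rw [e0', e1', e2'] at e
      exact add_right_cancel (add_right_cancel (add_right_cancel e))
    refine (Nat.card_le_card_of_injective Φ hΦ).trans ?_
    rw [Nat.card_prod, Nat.card_prod, Nat.card_prod, Nat.card_zmod]
    omega
  have hE := (Nat.mul_le_mul_left _ (card_le_of_le_add (le_fx_stb (H := H) D))).trans
    (h.card_mul_fx_le (ea_stb (H := H) h.hp D))
  have h5 := Nat.mul_le_mul_right (Nat.card D) h16
  have h6 : 0 < Nat.card D := Nat.card_pos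
  omega

end Cfsg.Agent.FFStruct
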