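import Cfsg.Agent.FFStruct.TwoSys

/-!
# A maximal system generates a symmetric group
-/

set_option autoImplicit false
set_option linter.unusedSectionVars false
set_option linter.style.haveILetI false

namespace Cfsg.Agent.FFStruct

open Subgroup
open scoped Pointwise

variable {H : Type*} [Group H] {V : Type*} [AddCommGroup V] [DistribMulAction H V]
variable [Module (ZMod 2) V] [Finite H] [Finite V] [FaithfulSMul H V]

namespace Tsys

variable {a : H} {N : ℕ} (S : Tsys H V a N)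

/-- The members. -/
def mems : Set H := {s | S.Mem s}

/-- The generated group. -/
def grp : Subgroup H := closure S.mems

theorem τ_mem_grp (j k : Fin N) : S.τ j k ∈ S.grp := by
  rcases eq_or_ne j k with rfl | h
  · rw [S.τ_self]; exact one_mem _
  · exact subset_closure ⟨j, k, h, rfl⟩

theorem mem_Cls {s : H} (hs : S.Mem s) : s ∈ Cls a := by
  obtain ⟨j, k, h, rfl⟩ := hs
  exact S.τ_mem h

theorem conj_mem_mems (hT : TwoH V a) {s r : H} (hs : S.Mem s) (hr : S.Mem r) :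
    S.Mem (s * r * s⁻¹) := by
  obtain ⟨α, β, h, rfl⟩ := hs
  obtain ⟨c, d, hcd, rfl⟩ := hr
  exact ⟨_, _, fun e => hcd ((Equiv.swap α β).injective e), S.τ_conj h hcd hT⟩

theorem outside_commute (hT : TwoH V a) (hS : S.Maximal) {c : H} (hc : c ∈ Cls a) (hn : ¬ S.Mem c)
    (j k : Fin N) : c * S.τ j k = S.τ j k * c := by
  rcases eq_or_ne j k with rfl | h
  · rw [S.τ_self, mul_one, one_mul]
  obtain ⟨ic, fc, tc⟩ := hT.tv c hc
  have h0 := hS c ic fc hc tc fun l m e => hn (S.mem_of_fun hT hc tc e)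
  refine Tv.commute (S.τ_tv h) tc ?_ ?_
  · rw [AddMonoidHom.add_apply, S.sym_u hT hc tc, S.sym_u hT hc tc, h0, h0, add_zero]
  · rw [map_add, h0, h0, add_zero]

theorem outside_dm (hT : TwoH V a) (hS : S.Maximal) {c : H} (hc : c ∈ Cls a) (hn : ¬ S.Mem c)
    (j k : Fin N) (v : V) : (S.g j + S.g k) (dm c v) = 0 := by
  obtain ⟨ic, fc, tc⟩ := hT.tv c hc
  have h0 := hS c ic fc hc tc fun l m e => hn (S.mem_of_fun hT hc tc e)
  rw [tc.dm_eq, hom_smul_z2, AddMonoidHom.add_apply, S.sym_u hT hc tc, S.sym_u hT hc tc, h0, h0,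
    add_zero, mul_zero]

/-- One image in the system puts all of them there. -/
theorem conj_mem_all (hT : TwoH V a) (hS : S.Maximal) {x : H} {j k : Fin N} (hjk : j ≠ k)
    (h : S.Mem (x * S.τ j k * x⁻¹)) {c d : Fin N} (hcd : c ≠ d) : S.Mem (x * S.τ c d * x⁻¹) := by
  have step : ∀ α β γ : Fin N, α ≠ β → α ≠ γ → β ≠ γ → S.Mem (x * S.τ α β * x⁻¹) →
      S.Mem (x * S.τ α γ * x⁻¹) := by
    intro α β γ hab hag hbg hm
    by_contra hn
    have hc : x * S.τ α γ * x⁻¹ ∈ Cls a := conj_mem_Cls (S.τ_mem hag) x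
    obtain ⟨l, m, hlm, e⟩ := hm
    have h1 := (S.τ_tv hab).conjH x
    rw [e] at h1
    obtain ⟨e1, e2⟩ := h1.unique (S.τ_tv hlm)
    have h2 := S.outside_dm hT hS hc hn l m
    have h3 := (S.τ_tv hag).conjH x
    obtain ⟨v, hv⟩ := h3.surj
    have h4 := h2 v
    rw [h3.dm_eq, hv, one_smul, ← e2] at h4
    change (S.g α + S.g β) (x⁻¹ • x • (S.u α + S.u γ)) = 0 at h4
    rw [inv_smul_smul, S.pairing, dlt_self, dlt_ne hag, dlt_ne hab.symm, dlt_ne hbg] at h4
    simp at h4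
  have sw : ∀ α β : Fin N, S.Mem (x * S.τ α β * x⁻¹) → S.Mem (x * S.τ β α * x⁻¹) :=
    fun α β hm => by rwa [S.τ_comm]
  -- from `{j,k}` to a pair with first point `j`
  have s1 : ∀ y, j ≠ y → S.Mem (x * S.τ j y * x⁻¹) := fun y hy => by
    rcases eq_or_ne k y with rfl | hky
    · exact h
    · exact step j k y hjk hy hky h
  rcases eq_or_ne c j with rfl | hc
  · exact s1 d hcd
  rcases eq_or_ne d j with rfl | hd
  · exact sw _ _ (s1 c hc.symm)
  exact step c j d hc hcd hd.symm (sw _ _ (s1 c hc.symm))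

/-- The module map to the permutation module. -/
def ψ : V →+ (Fin N → ZMod 2) :=
  AddMonoidHom.mk' (fun v i => S.g i v + ∑ j, S.g j v) fun u v => by
    funext i
    simp only [map_add, Finset.sum_add_distrib, Pi.add_apply]
    abel

theorem sum_swap_coeff {α β : Fin N} : ∑ i, (dlt i α + dlt i β) = 0 := by
  simp [Finset.sum_add_distrib, dlt, z2_add_self]

theorem g_swap {α β : Fin N} (h : α ≠ β) (i : Fin N) (v : V) :
    S.g i (S.τ α β • v) =
      S.g i v + (dlt i α + dlt i β + (dlt S.o α + dlt S.o β)) * (S.g α + S.g β) v := by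
  rw [S.τ_act, map_add, hom_smul_z2, map_add, S.pair, S.pair, dlt_comm α S.o, dlt_comm β S.o]
  generalize (S.g α + S.g β) v = G
  generalize dlt i α = x
  generalize dlt i β = y
  generalize dlt i S.o = z
  generalize dlt S.o α = p
  generalize dlt S.o β = q
  generalize S.g i v = w
  revert G x y z p q w
  decide

theorem ψ_swap (hN : (N : ZMod 2) = 1) {α β : Fin N} (h : α ≠ β) (v : V) (i : Fin N) :
    S.ψ (S.τ α β • v) i = S.ψ v (Equiv.swap α β i) := by
  show S.g i (S.τ α β • v) + ∑ j, S.g j (S.τ α β • v) =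
    S.g (Equiv.swap α β i) v + ∑ j, S.g j v
  simp only [S.g_swap h]
  rw [Finset.sum_add_distrib, ← Finset.sum_mul, Finset.sum_add_distrib, sum_swap_coeff,
    Finset.sum_const, Finset.card_univ, Fintype.card_fin, zero_add, nsmul_eq_mul, hN, one_mul]
  have e : S.g (Equiv.swap α β i) v = S.g i v + (dlt i α + dlt i β) * (S.g α + S.g β) v := by
    rcases eq_or_ne i α with rfl | h1
    · rw [Equiv.swap_apply_left, dlt_self, dlt_ne h, add_zero, one_mul, AddMonoidHom.add_apply,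
        ← add_assoc, z2_add_self, zero_add]
    rcases eq_or_ne i β with rfl | h2
    · rw [Equiv.swap_apply_right, dlt_self, dlt_ne h1, zero_add, one_mul, AddMonoidHom.add_apply,
        ← add_assoc, add_comm (S.g i v), add_assoc, z2_add_self, add_zero]
    · rw [Equiv.swap_apply_of_ne_of_ne h1 h2, dlt_ne h1, dlt_ne h2, add_zero, zero_mul, add_zero]
  rw [e]
  generalize (S.g α + S.g β) v = G
  generalize dlt i α + dlt i β = x
  generalize dlt S.o α + dlt S.o β = p
  generalize S.g i v = w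
  generalize ∑ j, S.g j v = W
  revert G x p w W
  decide

theorem mem_fx_grp {v : V} : v ∈ fx S.grp ↔ ∀ j, S.g j v = 0 := by
  constructor
  · intro hv j
    rcases eq_or_ne S.o j with rfl | h
    · rw [S.go]; rfl
    have h1 := hv _ (S.τ_mem_grp S.o j)
    rw [S.τ_act, S.go, S.uo, zero_add, zero_add, add_eq_left] at h1
    rcases z2_cases (S.g j v) with e | e
    · exact e
    · rw [e, one_smul, ← S.uo] at h1
      exact absurd (S.u_injective h1).symm h
  · intro hv
    rw [mem_fx_iff_le_stabV, grp, closure_le]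
    rintro _ ⟨j, k, h, rfl⟩
    show S.τ j k • v = v
    rw [S.τ_act, AddMonoidHom.add_apply, hv, hv, add_zero, zero_smul, add_zero]

theorem ψ_eq_zero (hN : (N : ZMod 2) = 1) {v : V} : S.ψ v = 0 ↔ ∀ j, S.g j v = 0 := by
  refine ⟨fun hv j => ?_, fun hv => funext fun i => by simp [ψ, hv]⟩
  have h0 : S.g S.o v + ∑ j, S.g j v = 0 := congrFun hv S.o
  rw [S.go, AddMonoidHom.zero_apply, zero_add] at h0
  have hj : S.g j v + ∑ j, S.g j v = 0 := congrFun hv j
  rwa [h0, add_zero] at hj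

theorem ψ_even (hN : (N : ZMod 2) = 1) (v : V) : ∑ i, S.ψ v i = 0 := by
  show ∑ i, (S.g i v + ∑ j, S.g j v) = 0
  rw [Finset.sum_add_distrib, Finset.sum_const, Finset.card_univ, Fintype.card_fin, nsmul_eq_mul, hN,
    one_mul, z2_add_self]

theorem ψ_onto (hN : (N : ZMod 2) = 1) (f : Fin N → ZMod 2) (hf : ∑ i, f i = 0) :
    ∃ v, S.ψ v = f := by
  refine ⟨∑ j, f j • S.u j, ?_⟩
  have hg : ∀ i, S.g i (∑ j, f j • S.u j) = f i + f S.o := fun i => by
    rw [map_sum]
    simp only [hom_smul_z2, S.pair, mul_add, Finset.sum_add_distrib, dlt, mul_ite, mul_one, mul_zero,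
      Finset.sum_ite_eq', Finset.sum_ite_eq, Finset.mem_univ, if_true, hf, add_zero]
    rcases eq_or_ne i S.o with h | h <;> simp [h, hf]
  funext i
  show S.g i _ + ∑ j, S.g j _ = f i
  simp only [hg]
  rw [Finset.sum_add_distrib, hf, Finset.sum_const, Finset.card_univ, Fintype.card_fin, zero_add,
    nsmul_eq_mul, hN, one_mul, add_assoc, z2_add_self, add_zero]

/-- A group element inducing a given permutation of the points. -/
def Rel (x : H) (σ : Equiv.Perm (Fin N)) : Prop :=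
  (∀ j k, x * S.τ j k * x⁻¹ = S.τ (σ j) (σ k)) ∧ ∀ (v : V) i, S.ψ (x • v) i = S.ψ v (σ⁻¹ i)

theorem rel_subgroup : ∃ Γ : Subgroup (H × Equiv.Perm (Fin N)), ∀ z, z ∈ Γ ↔ S.Rel z.1 z.2 := by
  refine ⟨
    { carrier := {z | S.Rel z.1 z.2}
      one_mem' := ⟨fun j k => by simp, fun v i => by simp⟩
      mul_mem' := fun {z w} hz hw => ⟨fun j k => ?_, fun v i => ?_⟩
      inv_mem' := fun {z} hz => ⟨fun j k => ?_, fun v i => ?_⟩ }, fun _ => Iff.rfl⟩
  · show z.1 * w.1 * S.τ j k * (z.1 * w.1)⁻¹ = S.τ (z.2 (w.2 j)) (z.2 (w.2 k))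
    rw [← hz.1, ← hw.1]; group
  · show S.ψ ((z.1 * w.1) • v) i = S.ψ v ((z.2 * w.2)⁻¹ i)
    rw [mul_smul, hz.2, hw.2, _root_.mul_inv_rev]; rfl
  · show z.1⁻¹ * S.τ j k * z.1⁻¹⁻¹ = S.τ (z.2⁻¹ j) (z.2⁻¹ k)
    have h := hz.1 (z.2⁻¹ j) (z.2⁻¹ k)
    simp only [Equiv.Perm.coe_inv, Equiv.apply_symm_apply] at h
    rw [← h]; simp only [Equiv.Perm.coe_inv]; group
  · show S.ψ (z.1⁻¹ • v) i = S.ψ v (z.2⁻¹⁻¹ i)
    have h := hz.2 (z.1⁻¹ • v) (z.2 i)
    rw [smul_inv_smul] at h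
    simpa using h.symm

theorem rel_swap (hT : TwoH V a) (hN : (N : ZMod 2) = 1) {α β : Fin N} (h : α ≠ β) :
    S.Rel (S.τ α β) (Equiv.swap α β) := by
  refine ⟨fun j k => ?_, fun v i => by rw [Equiv.swap_inv]; exact S.ψ_swap hN h v i⟩
  rcases eq_or_ne j k with rfl | hjk
  · rw [S.τ_self, S.τ_self, mul_one, mul_inv_cancel]
  · exact S.τ_conj h hjk hT

/-- An element of the group centralising the members is trivial. -/
theorem eq_one_of_centralizes [Fact (Nat.Prime 2)] (hOp : Cfsg.pCore 2 H = ⊥) (hT : TwoH V a)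
    (hS : S.Maximal) {x : H} (hx : x ∈ S.grp) (hc : ∀ j k, x * S.τ j k = S.τ j k * x) : x = 1 := by
  set U : AddSubgroup V := AddSubgroup.closure (Set.range S.u) with hU
  have hu : ∀ j, S.u j ∈ U := fun j => AddSubgroup.subset_closure ⟨j, rfl⟩
  have hτU : ∀ j k, ∀ v : V, dm (S.τ j k) v ∈ U := fun j k v => by
    rw [dm_apply, S.τ_act, add_sub_cancel_left]
    rcases z2_cases ((S.g j + S.g k) v) with e | e <;> rw [e]
    · rw [zero_smul]; exact zero_mem _
    · rw [one_smul]; exact add_mem (hu j) (hu k)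
  let P0 : Subgroup H :=
    { carrier := {y | sm y U = U ∧ ∀ v : V, dm y v ∈ U}
      one_mem' := ⟨by ext v; simp [mem_sm], fun v => by rw [dm_apply, one_smul, sub_self]; exact zero_mem _⟩
      mul_mem' := fun {y z} hy hz => ⟨by
          ext v; rw [mem_sm, mul_inv_rev, mul_smul, ← mem_sm, hz.1, ← mem_sm, hy.1], fun v => by
          rw [dm_mul]
          refine add_mem ?_ (hy.2 v)
          rw [← hy.1]; exact smul_mem_sm (hz.2 v)⟩
      inv_mem' := fun {y} hy => by
        have e : sm y⁻¹ U = U := by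
          ext v; rw [mem_sm, inv_inv]; conv_lhs => rw [← hy.1]
          rw [mem_sm, inv_smul_smul]
        refine ⟨e, fun v => ?_⟩
        rw [dm_inv]
        refine neg_mem ?_
        rw [← e]; exact smul_mem_sm (hy.2 v) }
  have hle : S.grp ≤ P0 := by
    rw [grp, closure_le]
    rintro _ ⟨j, k, -, rfl⟩
    refine ⟨eq_of_le_of_card_ge_add ?_ (card_sm _ _).ge, hτU j k⟩
    rintro _ ⟨w, hw, rfl⟩
    show S.τ j k • w ∈ U
    rw [show S.τ j k • w = dm (S.τ j k) w + w from (sub_add_cancel _ _).symm]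
    exact add_mem (hτU j k w) hw
  have hfixu : ∀ k, x • S.u k = S.u k := by
    intro k
    rcases eq_or_ne S.o k with rfl | h
    · rw [S.uo, smul_zero]
    have h1 := (S.τ_tv h).conjH x
    rw [mul_inv_eq_iff_eq_mul.2 (hc S.o k)] at h1
    have := (h1.unique (S.τ_tv h)).1
    rwa [S.uo, zero_add] at this
  have hfixU : ∀ w ∈ U, x • w = w := by
    intro w hw
    induction hw using AddSubgroup.closure_induction with
    | mem v hv => obtain ⟨k, rfl⟩ := hv; exact hfixu k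
    | zero => exact smul_zero x
    | add u v _ _ hu hv => rw [smul_add, hu, hv]
    | neg u _ hu => rw [smul_neg, hu]
  have hx2 : x * x = 1 := eq_one_of_dm (V := V) fun v => by
    rw [dm_mul, hfixU _ ((hle hx).2 v), v_add_self]
  let K0 : Subgroup H := closure (Cls a)
  haveI hK0 : K0.Normal := by
    refine ⟨fun y hy z => ?_⟩
    have hsub : (MulAut.conj z).toMonoidHom '' Cls a ⊆ Cls a := by
      rintro _ ⟨s, hs, rfl⟩; exact conj_mem_Cls hs z
    have h2 : K0.map (MulAut.conj z).toMonoidHom ≤ K0 := by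
      rw [MonoidHom.map_closure]; exact closure_mono hsub
    exact h2 ⟨y, hy, rfl⟩
  let Q : Subgroup H :=
    { carrier := {y | y ∈ K0 ∧ (∀ s ∈ Cls a, y * s = s * y) ∧ y * y = 1}
      one_mem' := ⟨one_mem _, fun s _ => by simp, by simp⟩
      mul_mem' := fun {y z} hy hz => ⟨mul_mem hy.1 hz.1, fun s hs => by
          rw [mul_assoc, hz.2.1 s hs, ← mul_assoc, hy.2.1 s hs, mul_assoc], by
          have hyz : y * z = z * y := by
            have : z ∈ centralizer ({y} : Set H) := (closure_le _).2 (fun s hs => by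
              rw [SetLike.mem_coe, mem_centralizer_singleton_iff]; exact (hy.2.1 s hs).symm) hz.1
            exact (mem_centralizer_singleton_iff.1 this).symm
          rw [mul_assoc, ← mul_assoc z y z, ← hyz, mul_assoc y z z, hz.2.2, mul_one, hy.2.2]⟩
      inv_mem' := fun {y} hy => by rw [inv_eq_of_mul_eq_one_right hy.2.2]; exact hy }
  haveI hQ : Q.Normal := by
    refine ⟨fun y hy z => ⟨hK0.conj_mem y hy.1 z, fun s hs => ?_, ?_⟩⟩
    · have h2 := hy.2.1 _ (conj_mem_Cls hs z⁻¹)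
      rw [inv_inv] at h2
      calc z * y * z⁻¹ * s = z * (y * (z⁻¹ * s * z)) * z⁻¹ := by group
        _ = z * ((z⁻¹ * s * z) * y) * z⁻¹ := by rw [h2]
        _ = _ := by group
    · calc z * y * z⁻¹ * (z * y * z⁻¹) = z * (y * y) * z⁻¹ := by group
        _ = 1 := by rw [hy.2.2]; group
  have hQp : IsPGroup 2 Q := fun y => ⟨1, Subtype.ext (by
    show (y : H) ^ 2 ^ 1 = 1
    rw [pow_one, sq]; exact y.2.2.2)⟩
  have hxK : x ∈ K0 := closure_mono (fun s hs => S.mem_Cls hs) hx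
  have hxQ : x ∈ Q := ⟨hxK, fun s hs => ?_, hx2⟩
  · exact mem_bot.1 (hOp.le (Core.le_pCore hQp hxQ))
  by_cases hm : S.Mem s
  · obtain ⟨j, k, -, rfl⟩ := hm
    exact hc j k
  · have : S.grp ≤ centralizer ({s} : Set H) := (closure_le _).2 fun r hr => by
      obtain ⟨j, k, -, rfl⟩ := hr
      rw [SetLike.mem_coe, mem_centralizer_singleton_iff]
      exact (S.outside_commute hT hS hs hm j k).symm
    exact mem_centralizer_singleton_iff.1 (this hx)

theorem isMod [Fact (Nat.Prime 2)] (hOp : Cfsg.pCore 2 H = ⊥) (hT : TwoH V a) (hS : S.Maximal)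
    {n : ℕ} (hn : 1 ≤ n) (hNn : N = 2 ^ n + 1) : IsMod V 2 S.grp := by
  subst hNn
  have hN : ((2 ^ n + 1 : ℕ) : ZMod 2) = 1 := by
    rw [Nat.cast_add, Nat.cast_pow, Nat.cast_one, show ((2 : ℕ) : ZMod 2) = 0 from rfl, zero_pow (by omega),
      zero_add]
  obtain ⟨Γ, hΓ⟩ := S.rel_subgroup
  have hperm : ∀ x, x ∈ S.grp → ∃ σ, S.Rel x σ := by
    intro x hx
    have hle : S.grp ≤ (Γ ⊓ (⊤ : Subgroup H).prod ⊤).map (MonoidHom.fst H _) := by
      rw [grp, closure_le]
      rintro _ ⟨j, k, h, rfl⟩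
      exact ⟨(_, Equiv.swap j k), ⟨(hΓ _).2 (S.rel_swap hT hN h), ⟨trivial, trivial⟩⟩, rfl⟩
    obtain ⟨⟨y, σ⟩, ⟨hy, -⟩, rfl⟩ := hle hx
    exact ⟨σ, (hΓ _).1 hy⟩
  have hexist : ∀ σ : Equiv.Perm (Fin (2 ^ n + 1)), ∃ x ∈ S.grp, S.Rel x σ := by
    intro σ
    induction σ using Equiv.Perm.swap_induction_on with
    | one => exact ⟨1, one_mem _, (hΓ (1, 1)).1 (one_mem Γ)⟩
    | swap_mul f j k hjk ih =>
      obtain ⟨x, hx, hr⟩ := ih
      exact ⟨_, mul_mem (S.τ_mem_grp j k) hx, (hΓ (S.τ j k * x, Equiv.swap j k * f)).1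
        (mul_mem ((hΓ (S.τ j k, Equiv.swap j k)).2 (S.rel_swap hT hN hjk)) ((hΓ (x, f)).2 hr))⟩
  have huniq : ∀ x σ σ', S.Rel x σ → S.Rel x σ' → σ = σ' := by
    intro x σ σ' h h'
    refine Equiv.ext fun j => ?_
    obtain ⟨k, hk, -⟩ := exists_third S.three j j
    obtain ⟨l, hlj, hlk⟩ := exists_third S.three j k
    have e1 := S.τ_inj (fun e => hk (σ.injective e).symm) (fun e => hk (σ'.injective e).symm)
      ((h.1 j k).symm.trans (h'.1 j k))
    have e2 := S.τ_inj (fun e => hlj (σ.injective e).symm) (fun e => hlj (σ'.injective e).symm)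
      ((h.1 j l).symm.trans (h'.1 j l))
    rcases e1 with ⟨ej, -⟩ | ⟨ej, ek⟩
    · exact ej
    rcases e2 with ⟨ej', -⟩ | ⟨ej', el⟩
    · exact ej'
    exact absurd (σ'.injective (ej.symm.trans ej')) hlk.symm
  have hone : ∀ x ∈ S.grp, S.Rel x 1 → x = 1 := fun x hx h =>
    S.eq_one_of_centralizes hOp hT hS hx fun j k => mul_inv_eq_iff_eq_mul.1 (h.1 j k)
  choose π hπ using fun e : S.grp => hperm e e.2
  let ρ : S.grp →* Equiv.Perm (Fin (2 ^ n + 1)) :=
    MonoidHom.mk' π fun e e' => huniq _ _ _ (hπ _)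
      ((hΓ ((e : H) * e', π e * π e')).1 (mul_mem ((hΓ ((e : H), π e)).2 (hπ e))
        ((hΓ ((e' : H), π e')).2 (hπ e'))))
  have hρ : Function.Bijective ρ := by
    refine ⟨(injective_iff_map_eq_one ρ).2 fun e he => ?_, fun σ => ?_⟩
    · refine Subtype.ext (hone e e.2 ?_)
      have := hπ e
      rwa [show π e = 1 from he] at this
    · obtain ⟨x, hx, hr⟩ := hexist σ
      exact ⟨⟨x, hx⟩, huniq x _ _ (hπ ⟨x, hx⟩) hr⟩
  refine ⟨n, hn, Or.inr ⟨rfl, MulEquiv.ofBijective ρ hρ, S.ψ, S.ψ_even hN, S.ψ_onto hN,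
    fun v => (S.ψ_eq_zero hN).trans S.mem_fx_grp.symm, fun e v i => (hπ e).2 v i⟩⟩

end Tsys

end Cfsg.Agent.FFStruct
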