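import Cfsg.Agent.FFStruct.TwoBasic
import Cfsg.Agent.FFStruct.Glue
import Mathlib.GroupTheory.Perm.Sign

/-!
# Symmetric systems of transvections
-/

set_option autoImplicit false
set_option linter.unusedSectionVars false
set_option linter.style.haveILetI false

namespace Cfsg.Agent.FFStruct

open Subgroup
open scoped Pointwise

variable {H : Type*} [Group H] {V : Type*} [AddCommGroup V] [DistribMulAction H V]
variable [Module (ZMod 2) V]

/-- The Kronecker symbol. -/
def dlt {α : Type*} [DecidableEq α] (j k : α) : ZMod 2 := if j = k then 1 else 0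

theorem dlt_self {α : Type*} [DecidableEq α] (j : α) : dlt j j = 1 := if_pos rfl

theorem dlt_ne {α : Type*} [DecidableEq α] {j k : α} (h : j ≠ k) : dlt j k = 0 := if_neg h

theorem dlt_comm {α : Type*} [DecidableEq α] (j k : α) : dlt j k = dlt k j := by
  simp only [dlt, eq_comm]

variable (H V) in
/-- The transpositions of a symmetric group of degree `N`, realised inside the class of `a`. -/
structure Tsys (a : H) (N : ℕ) where
  three : 3 ≤ N
  o : Fin N
  u : Fin N → V
  g : Fin N → (V →+ ZMod 2)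
  uo : u o = 0
  go : g o = 0
  pair : ∀ j k, g j (u k) = dlt j k + 1 + dlt j o + dlt k o
  mem : ∀ j k, j ≠ k → ∃ t ∈ Cls a, Tv t (u j + u k) (g j + g k)
  inj : ∀ j k l m, j ≠ k → l ≠ m → g j + g k = g l + g m → (j = l ∧ k = m) ∨ (j = m ∧ k = l)

variable [Finite H] [Finite V] [FaithfulSMul H V]

namespace Tsys

variable {a : H} {N : ℕ} (S : Tsys H V a N)

theorem pairing (j k l m : Fin N) :
    (S.g j + S.g k) (S.u l + S.u m) = dlt j l + dlt j m + dlt k l + dlt k m := by
  simp only [AddMonoidHom.add_apply, map_add, S.pair]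
  generalize dlt j l = x1
  generalize dlt j m = x2
  generalize dlt k l = x3
  generalize dlt k m = x4
  generalize dlt j S.o = y1
  generalize dlt k S.o = y2
  generalize dlt l S.o = y3
  generalize dlt m S.o = y4
  revert x1 x2 x3 x4 y1 y2 y3 y4
  decide

theorem u_injective : Function.Injective S.u := by
  intro j k e
  by_contra hne
  obtain ⟨l, hlj, hlk⟩ := exists_third S.three j k
  have h1 := S.pairing j l j j
  have h2 := S.pairing j l j k
  rw [← e, h1] at h2
  simp [dlt_self, dlt_ne hne, dlt_ne hlj, dlt_ne hlk, z2_add_self] at h2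

include S in
theorem card_le : N ≤ Nat.card V := by
  have := Nat.card_le_card_of_injective S.u S.u_injective
  rwa [Nat.card_eq_fintype_card, Fintype.card_fin] at this

/-- The member attached to a pair of points. -/
noncomputable def τ (j k : Fin N) : H := if h : j = k then 1 else (S.mem j k h).choose

theorem τ_self (j : Fin N) : S.τ j j = 1 := dif_pos rfl

theorem τ_mem {j k : Fin N} (h : j ≠ k) : S.τ j k ∈ Cls a := by
  rw [τ, dif_neg h]; exact (S.mem j k h).choose_spec.1

theorem τ_tv {j k : Fin N} (h : j ≠ k) : Tv (S.τ j k) (S.u j + S.u k) (S.g j + S.g k) := by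
  rw [τ, dif_neg h]; exact (S.mem j k h).choose_spec.2

theorem τ_act (j k : Fin N) (v : V) :
    S.τ j k • v = v + (S.g j + S.g k) v • (S.u j + S.u k) := by
  rcases eq_or_ne j k with rfl | h
  · rw [τ_self, one_smul, f_add_self, AddMonoidHom.zero_apply, zero_smul, add_zero]
  · exact (S.τ_tv h).act v

theorem τ_comm (j k : Fin N) : S.τ j k = S.τ k j := by
  rcases eq_or_ne j k with rfl | h
  · rfl
  · refine (S.τ_tv h).eq_of ?_
    rw [add_comm (S.u j), add_comm (S.g j)]
    exact S.τ_tv h.symm

theorem τ_inj {j k l m : Fin N} (hjk : j ≠ k) (hlm : l ≠ m) (e : S.τ j k = S.τ l m) :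
    (j = l ∧ k = m) ∨ (j = m ∧ k = l) :=
  S.inj j k l m hjk hlm ((S.τ_tv hjk).unique (e ▸ S.τ_tv hlm)).2

theorem u_swap {α β : Fin N} (h : α ≠ β) (c : Fin N) :
    S.u (Equiv.swap α β c) = S.u c + (dlt c α + dlt c β) • (S.u α + S.u β) := by
  rcases eq_or_ne c α with rfl | h1
  · rw [Equiv.swap_apply_left, dlt_self, dlt_ne h, add_zero, one_smul, ← add_assoc, v_add_self, zero_add]
  rcases eq_or_ne c β with rfl | h2
  · rw [Equiv.swap_apply_right, dlt_self, dlt_ne h1, zero_add, one_smul, ← add_assoc,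
      add_comm (S.u c), add_assoc, v_add_self, add_zero]
  · rw [Equiv.swap_apply_of_ne_of_ne h1 h2, dlt_ne h1, dlt_ne h2, add_zero, zero_smul, add_zero]

theorem τ_conj {α β c d : Fin N} (h : α ≠ β) (hcd : c ≠ d) (hT : TwoH V a) :
    S.τ α β * S.τ c d * (S.τ α β)⁻¹ = S.τ (Equiv.swap α β c) (Equiv.swap α β d) := by
  have hne : Equiv.swap α β c ≠ Equiv.swap α β d := fun e => hcd ((Equiv.swap α β).injective e)
  have h1 := (S.τ_tv hcd).conjTv (S.τ_tv h)
  have h2 := S.τ_tv hne
  have ei : S.u c + S.u d + (S.g α + S.g β) (S.u c + S.u d) • (S.u α + S.u β) =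
      S.u (Equiv.swap α β c) + S.u (Equiv.swap α β d) := by
    rw [S.u_swap h, S.u_swap h, S.pairing,
      show dlt α c + dlt α d + dlt β c + dlt β d = (dlt c α + dlt c β) + (dlt d α + dlt d β) by
        rw [dlt_comm α c, dlt_comm α d, dlt_comm β c, dlt_comm β d]; abel, add_smul]
    abel
  rw [ei] at h1
  have hf := hT.iinj (conj_mem_Cls (S.τ_mem hcd) _) (S.τ_mem hne) h1 h2
  rw [hf] at h1
  exact h1.eq_of h2

/-- Membership in the system. -/
def Mem (s : H) : Prop := ∃ j k, j ≠ k ∧ s = S.τ j k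

theorem mem_of_fun (hT : TwoH V a) {s : H} {i : V} {f : V →+ ZMod 2} (hs : s ∈ Cls a)
    (ts : Tv s i f) {l m : Fin N} (e : f = S.g l + S.g m) : S.Mem s := by
  rcases eq_or_ne l m with rfl | hlm
  · obtain ⟨v, hv⟩ := ts.surj
    rw [e, f_add_self] at hv
    exact absurd hv zero_ne_one
  · exact ⟨l, m, hlm, hT.finj hs (S.τ_mem hlm) ts (e ▸ S.τ_tv hlm)⟩

theorem sym_u (hT : TwoH V a) {s : H} {i : V} {f : V →+ ZMod 2} (hs : s ∈ Cls a) (ts : Tv s i f)
    (k : Fin N) : S.g k i = f (S.u k) := by
  rcases eq_or_ne S.o k with rfl | h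
  · rw [S.go, S.uo, map_zero]; rfl
  · have := hT.sym hs (S.τ_mem h) ts (S.τ_tv h)
    rw [S.uo, S.go, zero_add, zero_add] at this
    exact this.symm

end Tsys

/-- A system of degree three exists. -/
theorem Tsys.exists_three {a : H} (hT : TwoH V a) : Nonempty (Tsys H V a 3) := by
  have ha : a ∈ Cls a := ⟨1, by group⟩
  obtain ⟨i, f, ta⟩ := hT.tv a ha
  obtain ⟨r, hr, j, k, tr, hki⟩ := hT.nbr ha ta
  have hfj : f j = 1 := (hT.sym ha hr ta tr).trans hki
  have t3 := ta.conjTv tr
  rw [hki, hfj, one_smul, one_smul] at t3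
  have hpair : ∀ x y : Fin 3, (![0, f, k] x) (![0, i, j] y) = dlt x y + 1 + dlt x 0 + dlt y 0 := by
    intro x y
    fin_cases x <;> fin_cases y <;> simp [dlt, ta.fi, tr.fi, hki, hfj, z2_add_self]
  refine ⟨⟨le_rfl, 0, ![0, i, j], ![0, f, k], rfl, rfl, hpair, ?_, ?_⟩⟩
  · intro x y hxy
    fin_cases x <;> fin_cases y <;> simp at hxy ⊢
    · exact ⟨a, ha, ta⟩
    · exact ⟨r, hr, tr⟩
    · exact ⟨a, ha, ta⟩
    · exact ⟨_, conj_mem_Cls ha r, t3⟩
    · exact ⟨r, hr, tr⟩
    · rw [add_comm j, add_comm k]; exact ⟨_, conj_mem_Cls ha r, t3⟩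
  · intro x y l m hxy hlm e
    have e1 : (![0, f, k] x + ![0, f, k] y) (![0, i, j] l + ![0, i, j] m) =
        (![0, f, k] l + ![0, f, k] m) (![0, i, j] l + ![0, i, j] m) := by rw [e]
    simp only [AddMonoidHom.add_apply, map_add, hpair] at e1
    clear e
    revert x y l m
    decide

namespace Tsys

variable {a : H} {N : ℕ} (S : Tsys H V a N)

/-- A member with a singleton cut extends the system. -/
theorem extend (hT : TwoH V a) {c : H} {ic : V} {fc : V →+ ZMod 2} (hc : c ∈ Cls a)
    (tc : Tv c ic fc) (hnew : ∀ l m, fc ≠ S.g l + S.g m) {j : Fin N}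
    (hcut : ∀ k, k ≠ j → fc (S.u k) + fc (S.u j) = 1) : Nonempty (Tsys H V a (N + 1)) := by
  have hχ : ∀ k, fc (S.u k) = dlt k j + dlt j S.o := by
    intro k
    have h0 : fc (S.u S.o) = 0 := by rw [S.uo, map_zero]
    have hj : fc (S.u j) = 1 + dlt j S.o := by
      rcases eq_or_ne j S.o with rfl | hj
      · rw [dlt_self, z2_add_self]; exact h0
      · have := hcut S.o hj.symm
        rw [h0, zero_add] at this
        rw [this, dlt_ne hj, add_zero]
    rcases eq_or_ne k j with rfl | hk
    · rw [hj, dlt_self]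
    · have := hcut k hk
      rw [hj] at this
      rw [dlt_ne hk, zero_add, eq_sub_of_add_eq this, CharTwo.sub_eq_add, ← add_assoc, z2_add_self,
        zero_add]
  let u' : Fin (N + 1) → V := Fin.lastCases (S.u j + ic) S.u
  let g' : Fin (N + 1) → (V →+ ZMod 2) := Fin.lastCases (S.g j + fc) S.g
  have hu1 : ∀ k : Fin N, u' k.castSucc = S.u k := fun k => by simp [u']
  have hu2 : u' (Fin.last N) = S.u j + ic := by simp [u']
  have hg1 : ∀ k : Fin N, g' k.castSucc = S.g k := fun k => by simp [g']
  have hg2 : g' (Fin.last N) = S.g j + fc := by simp [g']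
  have hd1 : ∀ k l : Fin N, dlt k.castSucc l.castSucc = dlt k l := fun k l => by simp [dlt]
  have hd2 : ∀ k : Fin N, dlt k.castSucc (Fin.last N) = 0 := fun k =>
    dlt_ne (Fin.castSucc_lt_last k).ne
  have hd3 : ∀ k : Fin N, dlt (Fin.last N) k.castSucc = 0 := fun k =>
    dlt_ne (Fin.castSucc_lt_last k).ne'
  have hP : ∀ k, (S.g k + (S.g j + fc)) (S.u j + S.u k) = 1 + dlt k j := fun k => by
    simp only [AddMonoidHom.add_apply, map_add, S.pair, hχ, dlt_self, dlt_comm j k]
    generalize dlt k j = x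
    generalize dlt k S.o = y
    generalize dlt j S.o = z
    revert x y z
    decide
  -- new transvections
  have hnewmem : ∀ k : Fin N, ∃ t ∈ Cls a, Tv t (S.u k + (S.u j + ic)) (S.g k + (S.g j + fc)) := by
    intro k
    rcases eq_or_ne k j with rfl | hk
    · refine ⟨c, hc, ?_⟩
      rwa [← add_assoc, v_add_self, zero_add, ← add_assoc, f_add_self, zero_add]
    · obtain ⟨t, ht, tt⟩ := S.mem k j hk
      refine ⟨c * t * c⁻¹, conj_mem_Cls ht c, ?_⟩
      have h1 := tt.conjTv tc
      have e1 : fc (S.u k + S.u j) = 1 := by rw [map_add]; exact hcut k hk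
      have e2 : (S.g k + S.g j) ic = 1 := by
        rw [AddMonoidHom.add_apply, S.sym_u hT hc tc, S.sym_u hT hc tc, hcut k hk]
      rw [e1, e2, one_smul, one_smul] at h1
      rwa [add_assoc, add_assoc] at h1
  -- distinctness
  have hmix : ∀ k l m : Fin N, l ≠ m → S.g k + (S.g j + fc) ≠ S.g l + S.g m := by
    intro k l m hlm e
    rcases eq_or_ne k j with rfl | hk
    · rw [← add_assoc, f_add_self, zero_add] at e
      exact hnew l m e
    have hP1 := hP k
    rw [e, dlt_ne hk, add_zero] at hP1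
    -- `fc` would be the functional of a conjugate
    have hfc : fc = S.g l + S.g m + (S.g k + S.g j) := by
      rw [← e, show S.g k + (S.g j + fc) + (S.g k + S.g j) =
        (S.g k + S.g k) + (S.g j + S.g j) + fc by abel, f_add_self, f_add_self, zero_add, zero_add]
    have h1 := S.pairing l m j k
    rw [hP1] at h1
    rcases eq_or_ne j l with rfl | h2
    · rcases eq_or_ne k m with rfl | h3
      · rw [add_comm (S.g k), f_add_self] at hfc
        obtain ⟨v, hv⟩ := tc.surj
        rw [hfc] at hv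
        exact zero_ne_one hv
      · exact hnew k m (by rw [hfc, show S.g j + S.g m + (S.g k + S.g j) =
          (S.g j + S.g j) + (S.g k + S.g m) by abel, f_add_self, zero_add])
    rcases eq_or_ne j m with rfl | h3
    · rcases eq_or_ne k l with rfl | h4
      · rw [f_add_self] at hfc
        obtain ⟨v, hv⟩ := tc.surj
        rw [hfc] at hv
        exact zero_ne_one hv
      · exact hnew k l (by rw [hfc, show S.g l + S.g j + (S.g k + S.g j) =
          (S.g j + S.g j) + (S.g k + S.g l) by abel, f_add_self, zero_add])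
    rcases eq_or_ne k l with rfl | h4
    · exact hnew j m (by rw [hfc, show S.g k + S.g m + (S.g k + S.g j) =
          (S.g k + S.g k) + (S.g j + S.g m) by abel, f_add_self, zero_add])
    rcases eq_or_ne k m with rfl | h5
    · exact hnew j l (by rw [hfc, show S.g l + S.g k + (S.g k + S.g j) =
          (S.g k + S.g k) + (S.g j + S.g l) by abel, f_add_self, zero_add])
    rw [dlt_comm l j, dlt_comm l k, dlt_comm m j, dlt_comm m k, dlt_ne h2, dlt_ne h3, dlt_ne h4,
      dlt_ne h5] at h1
    simp at h1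
  refine ⟨⟨by have := S.three; omega, S.o.castSucc, u', g', by rw [hu1, S.uo], by rw [hg1, S.go],
    ?_, ?_, ?_⟩⟩
  · intro x y
    induction x using Fin.lastCases with
    | last =>
      induction y using Fin.lastCases with
      | last =>
        rw [hg2, hu2, dlt_self, hd3, AddMonoidHom.add_apply, map_add, map_add, S.pair,
          S.sym_u hT hc tc, tc.fi, hχ, dlt_self]
        generalize dlt j S.o = z
        revert z; decide
      | cast l =>
        rw [hg2, hu1, hd3, hd3, hd1, AddMonoidHom.add_apply, S.pair, hχ, dlt_comm j l]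
        generalize dlt l j = x
        generalize dlt l S.o = y
        generalize dlt j S.o = z
        revert x y z; decide
    | cast k =>
      induction y using Fin.lastCases with
      | last =>
        rw [hg1, hu2, hd2, hd3, hd1, map_add, S.pair, S.sym_u hT hc tc, hχ]
        generalize dlt k j = x
        generalize dlt k S.o = y
        generalize dlt j S.o = z
        revert x y z; decide
      | cast l => rw [hg1, hu1, hd1, hd1, hd1, S.pair]
  · intro x y hxy
    induction x using Fin.lastCases with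
    | last =>
      induction y using Fin.lastCases with
      | last => exact absurd rfl hxy
      | cast l =>
        rw [hg2, hu2, hg1, hu1, add_comm _ (S.u l), add_comm _ (S.g l)]
        exact hnewmem l
    | cast k =>
      induction y using Fin.lastCases with
      | last => rw [hg1, hu1, hg2, hu2]; exact hnewmem k
      | cast l => rw [hg1, hu1, hg1, hu1]; exact S.mem k l fun e => hxy (e ▸ rfl)
  · have key : ∀ (k : Fin N) (l m : Fin (N + 1)), l ≠ m →
        S.g k + (S.g j + fc) = g' l + g' m →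
        (k.castSucc = l ∧ Fin.last N = m) ∨ (k.castSucc = m ∧ Fin.last N = l) := by
      intro k l m hlm e
      induction l using Fin.lastCases with
      | last =>
        induction m using Fin.lastCases with
        | last => exact absurd rfl hlm
        | cast m' =>
          rw [hg2, hg1, add_comm _ (S.g m')] at e
          have e' := add_right_cancel e
          refine Or.inr ⟨?_, rfl⟩
          by_contra hne
          have hkm : k ≠ m' := fun h' => hne (h' ▸ rfl)
          have := S.τ_tv hkm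
          obtain ⟨v, hv⟩ := this.surj
          rw [e', f_add_self] at hv
          exact zero_ne_one hv
      | cast l' =>
        induction m using Fin.lastCases with
        | last =>
          rw [hg2, hg1] at e
          have e' := add_right_cancel e
          refine Or.inl ⟨?_, rfl⟩
          by_contra hne
          have hkm : k ≠ l' := fun h' => hne (h' ▸ rfl)
          have := S.τ_tv hkm
          obtain ⟨v, hv⟩ := this.surj
          rw [e', f_add_self] at hv
          exact zero_ne_one hv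
        | cast m' =>
          rw [hg1, hg1] at e
          exact absurd e (hmix k l' m' fun h' => hlm (h' ▸ rfl))
    intro x y l m hxy hlm e
    induction x using Fin.lastCases with
    | last =>
      induction y using Fin.lastCases with
      | last => exact absurd rfl hxy
      | cast y' =>
        rw [hg2, hg1, add_comm _ (S.g y')] at e
        rcases key y' l m hlm e with ⟨e1, e2⟩ | ⟨e1, e2⟩
        · exact Or.inr ⟨e2, e1⟩
        · exact Or.inl ⟨e2, e1⟩
    | cast x' =>
      induction y using Fin.lastCases with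
      | last => rw [hg2, hg1] at e; exact key x' l m hlm e
      | cast y' =>
        rw [hg1, hg1] at e
        have hxy' : x' ≠ y' := fun h' => hxy (h' ▸ rfl)
        induction l using Fin.lastCases with
        | last =>
          induction m using Fin.lastCases with
          | last => exact absurd rfl hlm
          | cast m' =>
            rw [hg2, hg1, add_comm _ (S.g m')] at e
            exact absurd e.symm (hmix m' x' y' hxy')
        | cast l' =>
          induction m using Fin.lastCases with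
          | last => rw [hg2, hg1] at e; exact absurd e.symm (hmix l' x' y' hxy')
          | cast m' =>
            rw [hg1, hg1] at e
            rcases S.inj x' y' l' m' hxy' (fun h' => hlm (h' ▸ rfl)) e with ⟨rfl, rfl⟩ | ⟨rfl, rfl⟩
            · exact Or.inl ⟨rfl, rfl⟩
            · exact Or.inr ⟨rfl, rfl⟩

/-- No member outside a system cuts it into two parts with at least two points each. -/
theorem no_big_cut (hT : TwoH V a) {c : H} {ic : V} {fc : V →+ ZMod 2} (hc : c ∈ Cls a)
    (tc : Tv c ic fc) (hnew : ∀ l m, fc ≠ S.g l + S.g m) {α β γ δ : Fin N} (hαβ : α ≠ β)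
    (hγδ : γ ≠ δ) (h1 : fc (S.u α) = fc (S.u β)) (h2 : fc (S.u γ) = fc (S.u δ))
    (h3 : fc (S.u α) ≠ fc (S.u γ)) : False := by
  have hαγ : α ≠ γ := fun e => h3 (e ▸ rfl)
  have hαδ : α ≠ δ := fun e => h3 (by rw [e, h2])
  have hβγ : β ≠ γ := fun e => h3 (by rw [h1, e])
  have hβδ : β ≠ δ := fun e => h3 (by rw [h1, e, h2])
  have tb := S.τ_tv hαγ
  have t2 := S.τ_tv hαβ
  have t3 := S.τ_tv hγδ
  have z : ∀ {x y : ZMod 2}, x ≠ y → x + y = 1 := by decide
  -- pairings between the legs
  have f12 : fc (S.u α + S.u β) = 0 := by rw [map_add, h1, z2_add_self]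
  have f13 : fc (S.u γ + S.u δ) = 0 := by rw [map_add, h2, z2_add_self]
  have f21 : (S.g α + S.g β) ic = 0 := by
    rw [← hT.sym hc (S.τ_mem hαβ) tc t2, f12]
  have f31 : (S.g γ + S.g δ) ic = 0 := by
    rw [← hT.sym hc (S.τ_mem hγδ) tc t3, f13]
  have f23 : (S.g α + S.g β) (S.u γ + S.u δ) = 0 := by
    rw [S.pairing, dlt_ne hαγ, dlt_ne hαδ, dlt_ne hβγ, dlt_ne hβδ]; simp
  have f32 : (S.g γ + S.g δ) (S.u α + S.u β) = 0 := by
    rw [S.pairing, dlt_ne hαγ.symm, dlt_ne hαδ.symm, dlt_ne hβγ.symm, dlt_ne hβδ.symm]; simp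
  -- pairings with the centre
  have fb1 : fc (S.u α + S.u γ) = 1 := by rw [map_add]; exact z h3
  have f1b : (S.g α + S.g γ) ic = 1 := by rw [← hT.sym hc (S.τ_mem hαγ) tc tb, fb1]
  have fb2 : (S.g α + S.g β) (S.u α + S.u γ) = 1 := by
    rw [S.pairing, dlt_self, dlt_ne hαγ, dlt_ne hαβ.symm, dlt_ne hβγ]; simp
  have f2b : (S.g α + S.g γ) (S.u α + S.u β) = 1 := by
    rw [S.pairing, dlt_self, dlt_ne hαβ, dlt_ne hαγ.symm, dlt_ne hβγ.symm]; simp
  have fb3 : (S.g γ + S.g δ) (S.u α + S.u γ) = 1 := by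
    rw [S.pairing, dlt_self, dlt_ne hαγ.symm, dlt_ne hαδ.symm, dlt_ne hγδ.symm]; simp
  have f3b : (S.g α + S.g γ) (S.u γ + S.u δ) = 1 := by
    rw [S.pairing, dlt_self, dlt_ne hαγ, dlt_ne hαδ, dlt_ne hγδ]; simp
  -- the fourth leg
  have s1 := tb.conjTv tc
  rw [fb1, f1b, one_smul, one_smul] at s1
  have s2 := s1.conjTv t2
  rw [map_add, fb2, f21, AddMonoidHom.add_apply (S.g α + S.g γ), f2b, f12, add_zero, one_smul,
    one_smul] at s2
  have s3 := s2.conjTv t3
  rw [map_add, map_add, fb3, f31, f32, AddMonoidHom.add_apply (S.g α + S.g γ + fc),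
    AddMonoidHom.add_apply (S.g α + S.g γ), f3b, f13, f23, add_zero, add_zero, one_smul,
    one_smul] at s3
  have s4 := s3.conjTv tb
  rw [map_add, map_add, map_add, tb.fi, f1b, f2b, f3b,
    AddMonoidHom.add_apply (S.g α + S.g γ + fc + (S.g α + S.g β)),
    AddMonoidHom.add_apply (S.g α + S.g γ + fc), AddMonoidHom.add_apply (S.g α + S.g γ), tb.fi, fb1,
    fb2, fb3, zero_add, show (1 : ZMod 2) + 1 + 1 = 1 from rfl, one_smul, one_smul] at s4
  have ei : S.u α + S.u γ + ic + (S.u α + S.u β) + (S.u γ + S.u δ) + (S.u α + S.u γ) =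
      ic + (S.u α + S.u β) + (S.u γ + S.u δ) := by
    rw [show S.u α + S.u γ + ic + (S.u α + S.u β) + (S.u γ + S.u δ) + (S.u α + S.u γ) =
      (S.u α + S.u γ + (S.u α + S.u γ)) + (ic + (S.u α + S.u β) + (S.u γ + S.u δ)) by abel,
      v_add_self, zero_add]
  have ef : S.g α + S.g γ + fc + (S.g α + S.g β) + (S.g γ + S.g δ) + (S.g α + S.g γ) =
      fc + (S.g α + S.g β) + (S.g γ + S.g δ) := by
    rw [show S.g α + S.g γ + fc + (S.g α + S.g β) + (S.g γ + S.g δ) + (S.g α + S.g γ) =
      (S.g α + S.g γ + (S.g α + S.g γ)) + (fc + (S.g α + S.g β) + (S.g γ + S.g δ)) by abel,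
      f_add_self, zero_add]
  rw [ei, ef] at s4
  obtain ⟨θ, hθ, tθ⟩ : ∃ θ ∈ Cls a, Tv θ (ic + (S.u α + S.u β) + (S.u γ + S.u δ))
      (fc + (S.g α + S.g β) + (S.g γ + S.g δ)) :=
    ⟨_, conj_mem_Cls (conj_mem_Cls (conj_mem_Cls (conj_mem_Cls (S.τ_mem hαγ) _) _) _) _, s4⟩
  let t : Fin 4 → H := ![c, S.τ α β, S.τ γ δ, θ]
  let i : Fin 4 → V := ![ic, S.u α + S.u β, S.u γ + S.u δ, ic + (S.u α + S.u β) + (S.u γ + S.u δ)]
  let f : Fin 4 → (V →+ ZMod 2) :=
    ![fc, S.g α + S.g β, S.g γ + S.g δ, fc + (S.g α + S.g β) + (S.g γ + S.g δ)]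
  refine hT.no4 t i f (fun k => ?_) (fun k l => ?_) ?_ rfl
  · fin_cases k
    · exact ⟨hc, tc⟩
    · exact ⟨S.τ_mem hαβ, t2⟩
    · exact ⟨S.τ_mem hγδ, t3⟩
    · exact ⟨hθ, tθ⟩
  · have r3 : ∀ x : V, f 3 x = fc x + (S.g α + S.g β) x + (S.g γ + S.g δ) x := fun x => rfl
    have r0 : ∀ k : Fin 4, f k ic = 0 ∧ f k (S.u α + S.u β) = 0 ∧ f k (S.u γ + S.u δ) = 0 := by
      intro k
      fin_cases k
      · exact ⟨tc.fi, f12, f13⟩
      · exact ⟨f21, t2.fi, f23⟩
      · exact ⟨f31, f32, t3.fi⟩
      · refine ⟨?_, ?_, ?_⟩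
        · show f 3 ic = 0; rw [r3, tc.fi, f21, f31]; simp
        · show f 3 _ = 0; rw [r3, f12, t2.fi, f32]; simp
        · show f 3 _ = 0; rw [r3, f13, f23, t3.fi]; simp
    fin_cases l
    · exact (r0 k).1
    · exact (r0 k).2.1
    · exact (r0 k).2.2
    · show f k (ic + (S.u α + S.u β) + (S.u γ + S.u δ)) = 0
      rw [map_add, map_add, (r0 k).1, (r0 k).2.1, (r0 k).2.2]; simp
  · have d23 : S.g α + S.g β ≠ S.g γ + S.g δ := fun e =>
      (S.inj α β γ δ hαβ hγδ e).elim (fun h' => hαγ h'.1) (fun h' => hαδ h'.1)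
    have d30 : fc + (S.g α + S.g β) + (S.g γ + S.g δ) ≠ fc := fun e => d23 (by
      rw [add_assoc] at e
      have e' := add_eq_left.1 e
      rw [← add_zero (S.g α + S.g β), ← f_add_self (S.g γ + S.g δ), ← add_assoc, e', zero_add])
    have d31 : fc + (S.g α + S.g β) + (S.g γ + S.g δ) ≠ S.g α + S.g β := fun e => hnew γ δ (by
      rw [add_right_comm] at e
      have e' := add_eq_right.1 e
      rw [← add_zero fc, ← f_add_self (S.g γ + S.g δ), ← add_assoc, e', zero_add])
    have d32 : fc + (S.g α + S.g β) + (S.g γ + S.g δ) ≠ S.g γ + S.g δ := fun e => hnew α β (by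
      have e' := add_eq_right.1 e
      rw [← add_zero fc, ← f_add_self (S.g α + S.g β), ← add_assoc, e', zero_add])
    intro x y e
    fin_cases x <;> fin_cases y <;>
      first
        | rfl
        | exact absurd e (hnew α β)
        | exact absurd e (hnew γ δ)
        | exact absurd e.symm (hnew α β)
        | exact absurd e.symm (hnew γ δ)
        | exact absurd e d23
        | exact absurd e.symm d23
        | exact absurd e d30
        | exact absurd e.symm d30
        | exact absurd e d31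
        | exact absurd e.symm d31
        | exact absurd e d32
        | exact absurd e.symm d32

/-- No member outside the system meets it. -/
def Maximal : Prop :=
  ∀ (c : H) (ic : V) (fc : V →+ ZMod 2), c ∈ Cls a → Tv c ic fc →
    (∀ l m, fc ≠ S.g l + S.g m) → ∀ k, fc (S.u k) = 0

theorem cut_or (hT : TwoH V a) {c : H} {ic : V} {fc : V →+ ZMod 2} (hc : c ∈ Cls a)
    (tc : Tv c ic fc) (hnew : ∀ l m, fc ≠ S.g l + S.g m) :
    Nonempty (Tsys H V a (N + 1)) ∨ ∀ k, fc (S.u k) = 0 := by
  refine or_iff_not_imp_right.2 fun hcon => ?_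
  push Not at hcon
  obtain ⟨γ, hγ⟩ := hcon
  by_contra hne
  have key : ∀ j, ∃ k, k ≠ j ∧ fc (S.u k) = fc (S.u j) := by
    intro j
    by_contra hc'
    push Not at hc'
    refine hne (S.extend hT hc tc hnew (j := j) fun k hk => ?_)
    have z : ∀ {x y : ZMod 2}, x ≠ y → x + y = 1 := by decide
    exact z (hc' k hk)
  obtain ⟨β, hβ, hβ'⟩ := key S.o
  obtain ⟨δ, hδ, hδ'⟩ := key γ
  refine S.no_big_cut hT hc tc hnew hβ.symm hδ.symm hβ'.symm hδ'.symm ?_
  rw [S.uo, map_zero]
  exact Ne.symm hγ

end Tsys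

/-- A maximal system exists. -/
theorem Tsys.exists_maximal {a : H} (hT : TwoH V a) : ∃ (N : ℕ) (S : Tsys H V a N), S.Maximal := by
  classical
  have hb : ∀ N, Nonempty (Tsys H V a N) → N ≤ Nat.card V := fun N ⟨S⟩ => S.card_le
  have h3 := Tsys.exists_three hT
  set M := Nat.findGreatest (fun n => Nonempty (Tsys H V a n)) (Nat.card V) with hM
  obtain ⟨S⟩ : Nonempty (Tsys H V a M) :=
    Nat.findGreatest_spec (P := fun n => Nonempty (Tsys H V a n)) (hb 3 h3) h3
  refine ⟨M, S, fun c ic fc hc tc hnew => ?_⟩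
  refine (S.cut_or hT hc tc hnew).resolve_left fun hne => ?_
  have := Nat.le_findGreatest (P := fun n => Nonempty (Tsys H V a n)) (hb _ hne) hne
  omega

end Cfsg.Agent.FFStruct
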