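import Cfsg.Agent.FFStruct.Beta
import Cfsg.Agent.FFStruct.Glue

/-!
# The component through a minimal offender of order at least three
-/

set_option autoImplicit false
set_option linter.unusedSectionVars false
set_option linter.style.haveILetI false

namespace Cfsg.Agent.FFStruct

open Subgroup Matrix
open scoped Pointwise MatrixGroups

variable {H : Type*} [Group H] {V : Type*} [AddCommGroup V] [DistribMulAction H V]
variable [Finite H] [Finite V] [FaithfulSMul H V] {p : ℕ} [Fact p.Prime]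

namespace Amb

variable (h : Amb H V p)

include h

/-- The second generator of a pair is conjugate to the first inside the pair. -/
theorem exists_conj {A : Subgroup H} {x : H} (hA : MOff V p A) (P : Pair V A x) :
    ∃ y ∈ A ⊔ FFStruct.cj x A, FFStruct.cj y A = FFStruct.cj x A := by
  obtain ⟨K, i1, i2, hK, ρ, ψ, hψs, hψk, heq, hline, -, -⟩ := P.normal_model
  set X : AddSubgroup V := fx (FFStruct.cj x A) with hX
  have hne : A ≠ ⊥ := hA.ne
  obtain ⟨z, hz, hz1⟩ := SetLike.exists_of_lt (bot_lt_iff_ne_bot.2 hne)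
  have hz' : x * z * x⁻¹ ∈ A ⊔ FFStruct.cj x A := mem_sup_right (conj_mem_cj hz)
  set M : Matrix (Fin 2) (Fin 2) K :=
    ((ρ ⟨x * z * x⁻¹, hz'⟩ : SL(2, K)) : Matrix (Fin 2) (Fin 2) K) with hM
  have hfix : ∀ v ∈ X, M.mulVec (ψ v) = ψ v := fun v hv => by
    rw [hM, ← heq]; exact congrArg ψ (hv _ (conj_mem_cj hz))
  obtain ⟨v₀, hv₀, hv₀C⟩ : ∃ v ∈ X, v ∉ fx (V := V) (A ⊔ FFStruct.cj x A) := by
    by_contra hcon
    push Not at hcon
    have h1 := card_le_of_le_add (X := X) hcon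
    rw [hX, fx_cj, card_sm, P.card_fx, ← hK] at h1
    exact absurd (Nat.le_of_mul_le_mul_right (h1.trans (one_mul _).ge) Nat.card_pos)
      (Fintype.one_lt_card (α := K)).not_ge
  set e := ψ v₀ with he
  have he0 : e ≠ 0 := fun h' => hv₀C ((hψk _).1 h')
  obtain ⟨f, hf⟩ : ∃ f : Fin 2 → K, e 0 * f 1 - f 0 * e 1 = 1 := by
    by_cases h0 : e 0 = 0
    · have h1 : e 1 ≠ 0 := fun h1 => he0 (funext fun i => by fin_cases i <;> assumption)
      exact ⟨![-(e 1)⁻¹, 0], by simp [h1]⟩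
    · exact ⟨![0, (e 0)⁻¹], by simp [h0]⟩
  let g : SL(2, K) := ⟨!![e 0, f 0; e 1, f 1], by rw [Matrix.det_fin_two]; simpa using hf⟩
  have hdet : ∀ v ∈ X, e 0 * ψ v 1 - ψ v 0 * e 1 = 0 := by
    intro v hv
    by_contra hD
    set P0 : Matrix (Fin 2) (Fin 2) K := !![e 0, ψ v 0; e 1, ψ v 1] with hP0
    have hu : IsUnit P0.det := by
      rw [hP0, Matrix.det_fin_two_of]; exact isUnit_iff_ne_zero.2 hD
    have hMP : M * P0 = P0 := by
      ext i j
      fin_cases j
      · have := congrFun (hfix v₀ hv₀) i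
        simpa [hP0, Matrix.mul_apply, Matrix.mulVec, dotProduct, Fin.sum_univ_two, ← he,
          show ∀ i, !![e 0, ψ v 0; e 1, ψ v 1] i 0 = e i from fun i => by fin_cases i <;> rfl] using this
      · have := congrFun (hfix v hv) i
        simpa [hP0, Matrix.mul_apply, Matrix.mulVec, dotProduct, Fin.sum_univ_two,
          show ∀ i, !![e 0, ψ v 0; e 1, ψ v 1] i 1 = ψ v i from fun i => by fin_cases i <;> rfl] using this
    have hM1 : M = 1 := by
      have h2 := congrArg (· * P0⁻¹) hMP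
      simpa [Matrix.mul_assoc, Matrix.mul_nonsing_inv _ hu] using h2
    have hzx : (⟨x * z * x⁻¹, hz'⟩ : ↥(A ⊔ FFStruct.cj x A)) = 1 := ρ.injective (by
      rw [map_one]; exact Subtype.ext hM1)
    exact hz1 (mem_bot.2 (by simpa using (congrArg Subtype.val hzx : x * z * x⁻¹ = 1)))
  set y : H := ((ρ.symm g : ↥(A ⊔ FFStruct.cj x A)) : H) with hy
  refine ⟨y, (ρ.symm g).2, h.eq_of_fx_eq (hA.cj y) (hA.cj x) ?_⟩
  rw [fx_cj y]
  refine (eq_of_le_of_card_ge_add (fun v hv => ?_) ?_).symm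
  · rw [mem_sm, hline]
    show ψ (((ρ.symm g : ↥(A ⊔ FFStruct.cj x A)) : H)⁻¹ • v) 1 = 0
    rw [← Subgroup.coe_inv, heq, map_inv, MulEquiv.apply_symm_apply, Matrix.SpecialLinearGroup.coe_inv]
    have := hdet v hv
    simp [g, Matrix.adjugate_fin_two, Matrix.mulVec, dotProduct, Fin.sum_univ_two]
    linear_combination this
  · rw [card_sm, fx_cj, card_sm]

/-- The seed of a system of components. -/
theorem seed_of_pair {A : Subgroup H} {x : H} (hA : MOff V p A) (hq : 2 < Nat.card A)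
    {T : Sylow p H} (hAT : A ≤ (T : Subgroup H)) (hxA : ¬ FFStruct.cj x A ≤ h.Mx T)
    (P : Pair V A x) : Seed V p (T : Subgroup H) (h.Mx T) (A ⊔ FFStruct.cj x A) := by
  classical
  set B := FFStruct.cj x A with hB
  set L := A ⊔ B with hL
  have hAk : A ∈ kset A (T : Subgroup H) := ⟨⟨1, (cj_one A).symm⟩, hAT⟩
  set K' := kset A (T : Subgroup H) \ {A} with hK'
  have hLK : ∀ E ∈ K', L ≤ centralizer (E : Set H) := by
    intro E hE
    obtain ⟨⟨g, hg⟩, -⟩ := hE.1
    have h1 := h.kset_commute hA hAk hE.1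
    subst hg
    exact sup_le h1 (h.beta hA P hq hE.2 h1)
  let X : Set (Subgroup H) :=
    {D | (∃ g : H, D = FFStruct.cj g A) ∧ D ∉ K' ∧ ∀ E ∈ K', D ≤ centralizer (E : Set H)}
  let Cn : Subgroup H := ⨅ E ∈ K', centralizer (E : Set H)
  have hCn : ∀ {U : Subgroup H}, (∀ E ∈ K', U ≤ centralizer (E : Set H)) → U ≤ Cn := fun hU =>
    le_iInf₂ hU
  have hLCn : L ≤ Cn := hCn hLK
  have hXCn : ∀ D ∈ X, D ≤ Cn := fun D hD => hCn hD.2.2
  have hfixK : ∀ y ∈ Cn, ∀ E ∈ K', FFStruct.cj y E = E := fun y hy E hE =>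
    cj_of_mem_normalizer (centralizer_le_normalizer _ (mem_iInf.1 (mem_iInf.1 hy E) hE))
  have hAX : A ∈ X := ⟨⟨1, (cj_one A).symm⟩, fun hm => hm.2 rfl, fun E hE => le_sup_left.trans (hLK E hE)⟩
  have hBX : B ∈ X := ⟨⟨x, rfl⟩, fun hm => hxA (hm.1.2.trans (h.le_Mx T)),
    fun E hE => le_sup_right.trans (hLK E hE)⟩
  have hXmoff : ∀ D ∈ X, MOff V p D := by
    rintro D ⟨⟨g, rfl⟩, -⟩
    exact hA.cj g
  have hXcard : ∀ D ∈ X, Nat.card D = Nat.card A := by
    rintro D ⟨⟨g, rfl⟩, -⟩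
    exact card_cj g A
  have hself : ∀ D : Subgroup H, MOff V p D → D ≤ centralizer (D : Set H) := fun D hD =>
    (Thompson.ea_iff.1 hD.ea).1
  have hKcomm : ∀ E ∈ K', ∀ E' ∈ K', E ≤ centralizer (E' : Set H) := fun E hE E' hE' =>
    h.kset_commute hA hE.1 hE'.1
  have hcomm : ∀ D ∈ X, ∀ E ∈ insert D K', ∀ E' ∈ insert D K', E ≤ centralizer (E' : Set H) := by
    intro D hD E hE E' hE'
    rcases hE with rfl | hE <;> rcases hE' with rfl | hE'
    · exact hself _ (hXmoff _ hD)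
    · exact hD.2.2 E' hE'
    · exact le_centralizer_iff.1 (hD.2.2 E hE)
    · exact hKcomm E hE E' hE'
  have hins : ∀ D ∈ X, ∀ E ∈ insert D K', ∃ g : H, E = FFStruct.cj g A := by
    rintro D hD E (rfl | hE)
    · exact hD.1
    · exact hE.1.1
  have hkK : (kset A (T : Subgroup H)).ncard = K'.ncard + 1 :=
    (Set.ncard_diff_singleton_add_one hAk).symm
  have huniq : ∀ D ∈ X, ∀ D' ∈ X, D ≤ centralizer (D' : Set H) → D = D' := by
    intro D hD D' hD' hc
    by_contra hne
    have h1 := ncard_le_of_commuting (p := p) hA T (𝒮 := insert D (insert D' K')) (by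
      rintro E (rfl | hE)
      · exact hD.1
      · exact hins D' hD' E hE) (by
      rintro E (rfl | hE) E' (rfl | hE')
      · exact hself _ (hXmoff _ hD)
      · rcases hE' with rfl | hE'
        · exact hc
        · exact hD.2.2 E' hE'
      · rcases hE with rfl | hE
        · exact le_centralizer_iff.1 hc
        · exact le_centralizer_iff.1 (hD.2.2 E hE)
      · exact hcomm D' hD' E hE E' hE')
    rw [Set.ncard_insert_of_notMem (fun hm => hm.elim hne hD.2.1),
      Set.ncard_insert_of_notMem hD'.2.1, hkK] at h1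
    omega
  have hex : ∀ D : Subgroup H, ∃ S : Sylow p H, D ∈ X → kset A (S : Subgroup H) = insert D K' := by
    intro D
    by_cases hD : D ∈ X
    · obtain ⟨S, hsub⟩ := exists_sylow_kset (p := p) hA.ea (hins D hD) (hcomm D hD)
      exact ⟨S, fun _ => (Set.eq_of_subset_of_ncard_le hsub (by
        rw [Set.ncard_insert_of_notMem hD.2.1, kset_ncard_eq S T, hkK])).symm⟩
    · exact ⟨T, fun h' => absurd h' hD⟩
  choose S hS using hex
  let MD : Subgroup H → Subgroup H := fun D => h.Mx (S D)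
  have hMwd : ∀ D ∈ X, ∀ R : Sylow p H, (∀ E ∈ insert D K', E ≤ (R : Subgroup H)) → h.Mx R = MD D :=
    fun D hD R hR => h.Mx_eq_of_kset hA fun E hE => hR E (hS D hD ▸ hE)
  have hDS : ∀ D ∈ X, ∀ E ∈ insert D K', E ≤ (S D : Subgroup H) := fun D hD E hE =>
    ((hS D hD).ge hE).2
  have hDM : ∀ D ∈ X, D ≤ MD D := fun D hD =>
    (hDS D hD D (Set.mem_insert _ _)).trans (h.le_Mx _)
  have hMA : MD A = h.Mx T := (hMwd A hAX T fun E hE => by
    rcases hE with rfl | hE
    · exact hAT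
    · exact hE.1.2).symm
  have hconj : ∀ y ∈ Cn, ∀ D ∈ X, FFStruct.cj y D ∈ X ∧ MD (FFStruct.cj y D) = FFStruct.cj y (MD D) := by
    intro y hy D hD
    obtain ⟨⟨g, hg⟩, hnot, hc⟩ := hD
    have hmem : FFStruct.cj y D ∈ X := by
      refine ⟨⟨y * g, by rw [hg, cj_cj]⟩, fun hm => hnot ?_, fun E hE => ?_⟩
      · have e := hfixK y⁻¹ (inv_mem hy) _ hm
        rw [cj_inv_cj] at e
        exact e ▸ hm
      · rw [← hfixK y hy E hE]; exact cj_le_centralizer (hc E hE)
    refine ⟨hmem, ?_⟩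
    rw [← h.Mx_smul, hMwd _ hmem (y • S D) fun E hE => ?_]
    rw [Sylow.coe_subgroup_smul]
    show E ≤ FFStruct.cj y (S D : Subgroup H)
    rcases hE with rfl | hE
    · exact cj_mono y (hDS D ⟨⟨g, hg⟩, hnot, hc⟩ D (Set.mem_insert _ _))
    · rw [← hfixK y hy E hE]
      exact cj_mono y (hDS D ⟨⟨g, hg⟩, hnot, hc⟩ E (Set.mem_insert_of_mem _ hE))
  have hleM : ∀ D ∈ X, ∀ D' ∈ X, D' ≤ MD D → MD D' = MD D := by
    intro D hD D' hD' hle
    have he : Cfsg.IsElementaryAbelian p (sSup (insert D' K') : Subgroup H) :=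
      ea_sSup (fun E hE => by
        obtain ⟨g, rfl⟩ := hins D' hD' E hE
        exact ea_cj hA.ea g) (hcomm D' hD')
    obtain ⟨R, hR, -, hReq⟩ := h.exists_sylow_le (T := S D) (Thompson.ea_isPGroup he) (sSup_le (by
      rintro E (rfl | hE)
      · exact hle
      · exact (hDS D hD E (Set.mem_insert_of_mem _ hE)).trans (h.le_Mx _)))
    rw [← hMwd D' hD' R fun E hE => (le_sSup hE).trans hR, hReq]
  -- two members with different maximal subgroups form a pair
  have hpairX : ∀ D ∈ X, ∀ D' ∈ X, MD D ≠ MD D' →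
      ∀ d ∈ D, d ≠ 1 → ∀ v : V, dm d v ∈ fx D' → v ∈ fx D := by
    intro D hD D' hD' hne
    set U := D ⊔ D' with hU
    have hUCn : U ≤ Cn := sup_le (hXCn D hD) (hXCn D' hD')
    obtain ⟨y₁, ⟨hy₁, hy₁M⟩, hmin⟩ := Set.exists_min_image {y | y ∈ U ∧ y ∉ MD D}
      (fun y => Nat.card (D ⊔ FFStruct.cj y D : Subgroup H)) (Set.toFinite _) (by
        obtain ⟨d, hd, hdM⟩ := SetLike.not_le_iff_exists.1
          (fun hle : D' ≤ MD D => hne (hleM D hD D' hD' hle).symm)
        exact ⟨d, mem_sup_right hd, hdM⟩)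
    set L1 := D ⊔ FFStruct.cj y₁ D with hL1
    have hL1U : L1 ≤ U := sup_le le_sup_left (by
      rintro _ ⟨d, hd, rfl⟩
      exact mul_mem (mul_mem hy₁ (mem_sup_left hd)) (inv_mem hy₁))
    have hout : ∃ y ∈ L1, y ∉ MD D := by
      refine SetLike.not_le_iff_exists.1 fun hle => hy₁M ?_
      obtain ⟨hmem, hMD⟩ := hconj y₁ (hUCn hy₁) D hD
      refine h.mem_of_cj_Mx ?_
      show FFStruct.cj y₁ (MD D) = MD D
      rw [← hMD]
      exact hleM D hD _ hmem (le_sup_right.trans hle)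
    have hgen : ∀ y ∈ L1, y ∉ MD D → D ⊔ FFStruct.cj y D = L1 := fun y hy hyM => by
      refine eq_of_le_of_card_ge (sup_le le_sup_left ?_) (hmin y ⟨hL1U hy, hyM⟩)
      rintro _ ⟨d, hd, rfl⟩
      exact mul_mem (mul_mem hy (mem_sup_left hd)) (inv_mem hy)
    have hcore : Cfsg.pCoreOf p L1 ≤ MD D := by
      intro r hr
      by_contra hrM
      have hrU : r ∈ Cn := hUCn (hL1U (Gen.core_le hr))
      have hp' : IsPGroup p ↥(D ⊔ Cfsg.pCoreOf p L1) :=
        (Thompson.ea_isPGroup (hXmoff D hD).ea).to_sup_of_normal_right' (Core.pCore_isPGroup.map _)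
          fun a ha => Subgroup.mem_normalizer_iff.2 fun s =>
            ⟨fun hs => Gen.conj_core (mem_sup_left ha) hs, fun hs => by
              simpa [mul_assoc] using Gen.conj_core (inv_mem (mem_sup_left ha : a ∈ L1)) hs⟩
      have hmem := (hconj r hrU D hD).1
      have hsub : D ⊔ FFStruct.cj r D ≤ D ⊔ Cfsg.pCoreOf p L1 := sup_le le_sup_left (by
        rintro _ ⟨d, hd, rfl⟩
        exact mul_mem (mul_mem (mem_sup_right hr) (mem_sup_left hd)) (inv_mem (mem_sup_right hr)))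
      have e := huniq D hD _ hmem (h.commute_of_pgroup (hXmoff D hD) ((hXmoff D hD).cj r)
        (card_cj r D).symm (hp'.to_le hsub))
      refine hrM (h.mem_Mx_of_kset hA ?_)
      rw [hS D hD, Set.image_insert_eq, ← e]
      exact congrArg _ ((Set.image_congr (hfixK r hrU)).trans (Set.image_id' _))
    have hG : Gen p V D L1 (MD D) :=
      { hp := h.hp, hA := (hXmoff D hD).ea, bound := (hXmoff D hD).bound
        strict := h.strict' (hXmoff D hD), le := le_sup_left, leN := hDM D hD, coreN := hcore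
        out := hout
        gen := fun y hy hyM => by
          rw [hgen y hy hyM]
          exact sup_eq_left.2 Gen.core_le
        moved := by
          by_contra hcon
          push Not at hcon
          obtain ⟨y, hy, hyM⟩ := hout
          have hp' : IsPGroup p ↥(D ⊔ Cfsg.pCoreOf p L1) :=
            (Thompson.ea_isPGroup (hXmoff D hD).ea).to_sup_of_normal_right' (Core.pCore_isPGroup.map _)
              fun a ha => Subgroup.mem_normalizer_iff.2 fun s =>
                ⟨fun hs => Gen.conj_core (mem_sup_left ha) hs, fun hs => by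
                  simpa [mul_assoc] using Gen.conj_core (inv_mem (mem_sup_left ha : a ∈ L1)) hs⟩
          obtain ⟨R, hR, -, hReq⟩ := h.exists_sylow_le (T := S D) hp' (sup_le (hDM D hD) hcore)
          refine hyM ?_
          rw [show MD D = h.Mx R from hReq.symm]
          exact h.hZ R _ (h.Mx_coatom _) (h.le_Mx R) y fun z hz => hcon z (fx_anti hR hz) y hy }
    obtain ⟨x', hx', -, hP', -⟩ := hG.exists_pair
    set C1 : AddSubgroup V := fx (D ⊔ FFStruct.cj x' D) with hC1
    have hle : (fx (V := V) D ⊓ fx D' : AddSubgroup V) ≤ C1 := by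
      rw [hC1, ← fx_sup]
      refine fx_anti (sup_le le_sup_left ?_)
      rintro _ ⟨d, hd, rfl⟩
      exact mul_mem (mul_mem (hL1U hx') (mem_sup_left hd)) (inv_mem (hL1U hx'))
    have e := card_sup_inf (fx (V := V) D) (fx D')
    have e2 : Nat.card (fx (V := V) D) * Nat.card (fx (V := V) D') = Nat.card V * Nat.card C1 := by
      rw [hP'.card_fx, ← h.moff_exact (hXmoff D' hD'), hXcard D' hD', hXcard D hD, ← hC1]
      ring
    have heq : (fx (V := V) D ⊓ fx D' : AddSubgroup V) = C1 := by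
      refine eq_of_le_of_card_ge_add hle (Nat.le_of_mul_le_mul_left ?_ (Nat.card_pos (α := V)))
      rw [← e2, ← e]
      exact Nat.mul_le_mul_right _ (card_le_add _)
    intro d hd hd1 v hv
    exact hP'.reg d hd hd1 v (heq.le ⟨hP'.quad d hd v, hv⟩)
  have hMB : MD B ≠ MD A := fun e => hxA (hMA ▸ e ▸ hDM B hBX)
  -- the lines
  have hlineX : ∀ a ∈ A, FFStruct.cj a B ∈ X ∧ MD (FFStruct.cj a B) ≠ MD A := by
    intro a ha
    obtain ⟨h1, h2⟩ := hconj a (hLCn (mem_sup_left ha)) B hBX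
    refine ⟨h1, fun e => hMB ?_⟩
    rw [h2] at e
    refine cj_injective a (e.trans ?_)
    exact (cj_of_mem_normalizer (le_normalizer (hDM A hAX ha))).symm
  have hline : ∀ v : V, v ∈ fx A ∨ ∃ a ∈ A, v ∈ fx (V := V) (FFStruct.cj a B) := fun v =>
    (P.cover v).imp_right fun ⟨a, ha, hv⟩ => ⟨a, ha, by rwa [hB, cj_cj, fx_cj]⟩
  have hclaim2 : ∀ C ∈ X, MD C = MD A → C = A := by
    intro C hC e
    refine huniq C hC A hAX (h.commute_of_normalizes (hXmoff C hC) hA (hXcard C hC).ge fun c hc => ?_)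
    refine h.mem_normalizer_of_smul hA fun w hw => ?_
    rw [show c • w = dm c w + w from (sub_add_cancel _ _).symm]
    refine AddSubgroup.add_mem _ ?_ hw
    rcases hline (dm c w) with hv | ⟨a, ha, hv⟩
    · exact hv
    rcases eq_or_ne c 1 with rfl | hc1
    · rw [dm_apply, one_smul, sub_self]; exact AddSubgroup.zero_mem _
    obtain ⟨h1, h2⟩ := hlineX a ha
    rw [dm_eq_zero.2 (hpairX C hC _ h1 (e ▸ h2.symm) c hc hc1 w hv c hc)]
    exact AddSubgroup.zero_mem _
  obtain ⟨y, hy, hyB⟩ := h.exists_conj hA P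
  have hXL : ∀ D ∈ X, D ≤ L := by
    intro D hD
    obtain ⟨d, hd, hd1⟩ := SetLike.exists_of_lt (bot_lt_iff_ne_bot.2 (hXmoff D hD).ne)
    have hd1' : d ≠ 1 := fun e => hd1 (mem_bot.2 e)
    obtain ⟨w, hw⟩ : ∃ w : V, dm d w ≠ 0 := by
      by_contra hcon
      push Not at hcon
      exact hd1' (eq_one_of_dm hcon)
    rcases hline (dm d w) with hv | ⟨a, ha, hv⟩
    · rcases eq_or_ne (MD D) (MD A) with e | e
      · rw [hclaim2 D hD e]; exact le_sup_left
      · exact absurd (dm_eq_zero.2 (hpairX D hD A hAX e d hd hd1' w hv d hd)) hw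
    · obtain ⟨h1, -⟩ := hlineX a ha
      rcases eq_or_ne (MD D) (MD (FFStruct.cj a B)) with e | e
      · have hay : a * y ∈ L := mul_mem (mem_sup_left ha) hy
        have eB : FFStruct.cj a B = FFStruct.cj (a * y) A := by rw [← cj_cj, hyB]
        obtain ⟨h3, h4⟩ := hconj (a * y)⁻¹ (hLCn (inv_mem hay)) D hD
        obtain ⟨-, h5⟩ := hconj (a * y) (hLCn hay) A hAX
        rw [e, eB, h5, cj_inv_cj] at h4
        rw [← cj_cj_inv (a * y) D, hclaim2 _ h3 h4]
        rintro _ ⟨b, hb, rfl⟩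
        exact mul_mem (mul_mem hay (mem_sup_left hb)) (inv_mem hay)
      · exact absurd (dm_eq_zero.2 (hpairX D hD _ h1 e d hd hd1' w hv d hd)) hw
  have hnAB : ¬ A ≤ centralizer (B : Set H) := fun hc => hMB (congrArg MD (huniq A hAX B hBX hc).symm)
  refine ⟨fun hle => hxA (le_sup_right.trans hle), ?_, fun t ht hne => ?_⟩
  · obtain ⟨K, i1, i2, hK, ρ, ψ, h1, h2, h3⟩ := P.model
    obtain ⟨n, hn⟩ := (Thompson.ea_isPGroup hA.ea).exists_card_eq
    refine ⟨n, Nat.one_le_iff_ne_zero.2 fun h0 => ?_, Or.inl ⟨K, i1, i2, hK.trans hn, ρ, ψ, h1, h2, h3⟩⟩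
    rw [h0, pow_zero] at hn
    omega
  have hTk : ∀ s ∈ (T : Subgroup H), FFStruct.cj s '' kset A (T : Subgroup H) = kset A (T : Subgroup H) :=
    fun s hs => by rw [← kset_cj, cj_of_mem_normalizer (le_normalizer hs)]
  by_cases htA : FFStruct.cj t A = A
  · refine absurd ?_ hne
    have hK : FFStruct.cj t '' K' = K' := by
      rw [hK', Set.image_diff (cj_injective t), hTk t ht, Set.image_singleton, htA]
    have hle : FFStruct.cj t L ≤ L := by
      show (A ⊔ B).map _ ≤ _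
      rw [Subgroup.map_sup]
      refine sup_le (htA.le.trans le_sup_left) (hXL _ ?_)
      refine ⟨⟨t * x, cj_cj t x A⟩, fun hm => ?_, fun E hE => ?_⟩
      · rw [← hK] at hm
        exact hBX.2.1 ((cj_injective t).mem_set_image.1 hm)
      · rw [← hK] at hE
        obtain ⟨E, hE, rfl⟩ := hE
        exact cj_le_centralizer (hBX.2.2 E hE)
    exact eq_of_le_of_card_ge hle (card_cj t L).ge
  have hA'K : FFStruct.cj t A ∈ K' := ⟨(hTk t ht).le ⟨A, hAk, rfl⟩, htA⟩
  have hA''K : FFStruct.cj t⁻¹ A ∈ K' := ⟨(hTk t⁻¹ (inv_mem ht)).le ⟨A, hAk, rfl⟩, fun e => htA (by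
    conv_lhs => rw [← (e : FFStruct.cj t⁻¹ A = A)]
    exact cj_cj_inv t A)⟩
  have hLA' : L ≤ centralizer (FFStruct.cj t A : Set H) := hLK _ hA'K
  have hAB' : A ≤ centralizer (FFStruct.cj t B : Set H) := by
    have := cj_le_centralizer (g := t) (le_centralizer_iff.1 (le_sup_right.trans (hLK _ hA''K) :
      B ≤ centralizer (FFStruct.cj t⁻¹ A : Set H)))
    rwa [cj_cj_inv] at this
  have hne1 : FFStruct.cj t A ≠ B := fun e => hBX.2.1 (e ▸ hA'K)
  have hBB' : B ≤ centralizer (FFStruct.cj t B : Set H) := by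
    have h1 : FFStruct.cj (t⁻¹ * x) A = FFStruct.cj t⁻¹ B := (cj_cj _ _ A).symm
    have h2 := cj_le_centralizer (g := t) (h.beta (g := t⁻¹ * x) hA P hq
      (fun e => hne1 (by
        conv_lhs => rw [← e]
        rw [h1, cj_cj_inv]))
      (by
        rw [h1]
        have h3 := cj_le_centralizer (g := t⁻¹) (le_centralizer_iff.1
          (le_sup_right.trans hLA' : B ≤ centralizer (FFStruct.cj t A : Set H)))
        rwa [cj_inv_cj] at h3))
    rw [h1, cj_cj_inv] at h2
    exact le_centralizer_iff.1 h2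
  have hne2 : FFStruct.cj t B ≠ A := fun e => hBX.2.1 (by
    have : FFStruct.cj t⁻¹ A = B := by rw [← e, cj_inv_cj]
    exact this ▸ hA''K)
  have hne3 : FFStruct.cj t B ≠ B := fun e => hnAB (e ▸ hAB')
  have hcm : ∀ C D : Subgroup H, MOff V p C → MOff V p D → C ≠ D → D ≤ centralizer (C : Set H) →
      cm (V := V) C ≤ fx D := fun C D hC hD hCD hc =>
    cm_le_iff.2 (h.lattice hC hD (le_centralizer_iff.1 hc) hCD).2.2.2
  have hBm : MOff V p B := hA.cj x
  have e : FFStruct.cj t L = FFStruct.cj t A ⊔ FFStruct.cj t B := Subgroup.map_sup _ _ _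
  have hLB' : L ≤ centralizer (FFStruct.cj t B : Set H) := sup_le hAB' hBB'
  refine ⟨e ▸ sup_le (le_centralizer_iff.1 hLA') (le_centralizer_iff.1 hLB'), ?_⟩
  rw [e]
  refine cm_sup_le (le_centralizer_iff.1 hLA') (le_centralizer_iff.1 hLB') ?_ ?_
  · rw [hL, fx_sup]
    exact le_inf (hcm _ _ (hA.cj t) hA htA (le_sup_left.trans hLA'))
      (hcm _ _ (hA.cj t) hBm hne1 (le_sup_right.trans hLA'))
  · rw [hL, fx_sup]
    exact le_inf (hcm _ _ (hBm.cj t) hA hne2 hAB') (hcm _ _ (hBm.cj t) hBm hne3 hBB')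

end Amb

end Cfsg.Agent.FFStruct
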